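/-
Field lemmas about the circle of norm-one elements of a quadratic extension of finite fields.
-/
import Cfsg.Agent.Lib.UnitaryTransvection

set_option autoImplicit false

namespace CfsgLib.MaxSub.WreathUnitary

open CfsgLib.UnitaryTransvection

variable {F : Type*} [Field F] [Fintype F] {q : ℕ} (hF : Fintype.card F = q ^ 2)

local notation "σ" => frob hF

/-- A skew element. -/
def Skew (c : F) : Prop := c + σ c = 0

/-- The square of a non-zero skew element. -/
def SkewSq (x : F) : Prop := ∃ z : F, z ≠ 0 ∧ z + σ z = 0 ∧ z * z = x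

theorem skew_zero : Skew hF (0 : F) := by simp [Skew]

theorem skew_neg {c : F} (hc : Skew hF c) : Skew hF (-c) := by
  unfold Skew at hc ⊢
  rw [map_neg]
  linear_combination -hc

theorem skew_mul_fix {c f : F} (hc : Skew hF c) (hf : σ f = f) : Skew hF (c * f) := by
  unfold Skew at hc ⊢
  rw [map_mul, hf]
  linear_combination f * hc

theorem skew_inv {c : F} (hc : Skew hF c) : Skew hF c⁻¹ := by
  unfold Skew at hc ⊢
  rw [map_inv₀, eq_neg_of_add_eq_zero_right hc, inv_neg, add_neg_cancel]

theorem fix_norm (a : F) : σ (a * σ a) = a * σ a := by rw [map_mul, frob_frob, mul_comm]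

theorem fix_trace (a : F) : σ (a + σ a) = a + σ a := by rw [map_add, frob_frob, add_comm]

include hF in
theorem frob_eq_zero {a : F} (h : σ a = 0) : a = 0 := by
  simpa [frob_frob hF] using congrArg σ h

open Classical in
/-- The fixed field has at most `q` elements. -/
theorem card_fix_le : (Finset.univ.filter fun x : F => σ x = x).card ≤ q := by
  have hq := (UnitaryBasic.frob_exists hF).1
  have hne : (Polynomial.X ^ q - Polynomial.X : Polynomial F) ≠ 0 :=
    FiniteField.X_pow_card_sub_X_ne_zero F hq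
  have hdeg : (Polynomial.X ^ q - Polynomial.X : Polynomial F).natDegree = q :=
    FiniteField.X_pow_card_sub_X_natDegree_eq F hq
  refine le_trans (Finset.card_le_card (t := (Polynomial.X ^ q - Polynomial.X : Polynomial F).roots.toFinset)
    fun x hx => ?_) ((Multiset.toFinset_card_le _).trans (hdeg ▸ Polynomial.card_roots' _))
  rw [Multiset.mem_toFinset, Polynomial.mem_roots hne]
  simp [← frob_apply hF, (Finset.mem_filter.1 hx).2]

open Classical in
/-- The norm-one elements. -/
noncomputable def circ : Finset F := Finset.univ.filter fun x : F => x * σ x = 1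

theorem mem_circ {x : F} : x ∈ circ hF ↔ x * σ x = 1 := by classical simp [circ]

theorem one_mem_circ : (1 : F) ∈ circ hF := by simp [mem_circ]

theorem circ_ne_zero {x : F} (hx : x * σ x = 1) : x ≠ 0 := left_ne_zero_of_mul (hx.trans_ne one_ne_zero)

theorem circ_inv {x : F} (hx : x * σ x = 1) : σ x = x⁻¹ := eq_inv_of_mul_eq_one_right hx

theorem circ_mul {x y : F} (hx : x * σ x = 1) (hy : y * σ y = 1) : x * y * σ (x * y) = 1 := by
  rw [map_mul]
  linear_combination (y * σ y) * hx + hy

theorem circ_conj {x : F} (hx : x * σ x = 1) : σ x * σ (σ x) = 1 := by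
  rw [frob_frob, mul_comm]; exact hx

theorem circ_pow {x : F} (hx : x * σ x = 1) (i : ℕ) : x ^ i * σ (x ^ i) = 1 := by
  rw [map_pow, ← mul_pow, hx, one_pow]

theorem circ_pow_succ {x : F} (hx : x * σ x = 1) : x ^ (q + 1) = 1 := by
  rwa [frob_apply, ← pow_succ'] at hx

include hF in
/-- A generator of the norm-one elements. -/
theorem exists_gen : ∃ z : Fˣ, orderOf z = q + 1 ∧ (z : F) * σ (z : F) = 1 := by
  obtain ⟨z, hz⟩ := UnitaryBasic.exists_zeta hF
  refine ⟨z, hz, ?_⟩
  rw [frob_apply, ← pow_succ', ← Units.val_pow_eq_pow_val, ← hz, pow_orderOf_eq_one, Units.val_one]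

theorem le_card_circ : q + 1 ≤ (circ hF).card := by
  classical
  obtain ⟨z, hz, hz1⟩ := exists_gen hF
  refine le_trans (Finset.card_range (q + 1)).ge (Finset.card_le_card_of_injOn (fun i => (z : F) ^ i)
    (fun i _ => (mem_circ hF).2 (circ_pow hF hz1 i)) fun i hi j hj e => ?_)
  simp only [Finset.coe_range, Set.mem_Iio] at hi hj
  refine pow_injOn_Iio_orderOf (by rw [hz]; exact hi) (by rw [hz]; exact hj) (Units.ext ?_)
  simpa using e

include hF in
/-- The values of `|a α + b|²` on the circle. -/
theorem two_mul_card_norms {a b : F} (ha : a ≠ 0) (hb : b ≠ 0) [DecidableEq F] :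
    q + 1 ≤ 2 * ((circ hF).image fun α => (a * α + b) * σ (a * α + b)).card := by
  set f : F → F := fun α => (a * α + b) * σ (a * α + b) with hf
  set A := (circ hF).image f with hA
  set e := a * σ b
  have he : e ≠ 0 := mul_ne_zero ha fun h => hb (frob_eq_zero hF h)
  have hfib : ∀ v ∈ A, ((circ hF).filter fun α => f α = v).card ≤ 2 := by
    intro v _
    by_contra hc
    push Not at hc
    obtain ⟨x, hx, y, hy, z, hz, hxy, hxz, hyz⟩ := Finset.two_lt_card.1 hc
    simp only [Finset.mem_filter, mem_circ] at hx hy hz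
    have key : ∀ {u w : F}, u * σ u = 1 → w * σ w = 1 → f u = f w → u = w ∨ e * u * w = σ e := by
      intro u w hu hw huw
      have h1 : (u - w) * (e * u * w - σ e) = 0 := by
        simp only [hf, map_add, map_mul] at huw
        simp only [e, map_mul, frob_frob]
        linear_combination (u * w) * huw - (a * σ a * u * w + σ a * b * w) * hu +
          (a * σ a * u * w + σ a * b * u) * hw
      rcases mul_eq_zero.1 h1 with h | h
      · exact Or.inl (sub_eq_zero.1 h)
      · exact Or.inr (sub_eq_zero.1 h)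
    have e1 := (key hx.1 hy.1 (hx.2.trans hy.2.symm)).resolve_left hxy
    have e2 := (key hx.1 hz.1 (hx.2.trans hz.2.symm)).resolve_left hxz
    exact hyz (mul_left_cancel₀ (mul_ne_zero he (circ_ne_zero hF hx.1)) (e1.trans e2.symm))
  exact (le_card_circ hF).trans (Finset.card_le_mul_card_image _ 2 hfib)

theorem eq_one_of_trace {x : F} (hx : x * σ x = 1) (ht : x + σ x = 2) : x = 1 := by
  have h : (x - 1) * (x - 1) = 0 := by linear_combination x * ht - hx
  exact sub_eq_zero.1 ((mul_self_eq_zero).1 h)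

include hF in
/-- The traces on the circle. -/
theorem two_mul_card_traces [DecidableEq F] :
    q + 2 ≤ 2 * ((circ hF).image fun x => x + σ x).card := by
  set A := (circ hF).image fun x => x + σ x
  have h2A : (2 : F) ∈ A :=
    Finset.mem_image.2 ⟨1, one_mem_circ hF, by rw [map_one]; norm_num⟩
  have h1 := Finset.card_le_mul_card_image (f := fun x => x + σ x) ((circ hF).erase 1) 2 fun v hv => by
    obtain ⟨y, hy, rfl⟩ := Finset.mem_image.1 hv
    have hy' := (mem_circ hF).1 (Finset.mem_of_mem_erase hy)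
    refine (Finset.card_le_card (t := {y, σ y}) fun x hx => ?_).trans Finset.card_le_two
    rw [Finset.mem_filter] at hx
    have hx' := (mem_circ hF).1 (Finset.mem_of_mem_erase hx.1)
    have h : (x - y) * (x - σ y) = 0 := by linear_combination x * hx.2 + hy' - hx'
    rcases mul_eq_zero.1 h with e | e <;> simp [sub_eq_zero.1 e]
  have h3 : ((circ hF).erase 1).image (fun x => x + σ x) ⊆ A.erase 2 := fun v hv => by
    obtain ⟨y, hy, rfl⟩ := Finset.mem_image.1 hv
    exact Finset.mem_erase.2 ⟨fun e => Finset.ne_of_mem_erase hy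
      (eq_one_of_trace hF ((mem_circ hF).1 (Finset.mem_of_mem_erase hy)) e),
      Finset.mem_image_of_mem _ (Finset.mem_of_mem_erase hy)⟩
  have h4 := Finset.card_le_card h3
  rw [Finset.card_erase_of_mem h2A] at h4
  rw [Finset.card_erase_of_mem (one_mem_circ hF)] at h1
  have := le_card_circ hF
  have := Finset.card_pos.2 ⟨_, h2A⟩
  omega

include hF in
/-- Two large sets of fixed elements meet twice. -/
theorem inter_fix {A B : Finset F} (hA : ∀ x ∈ A, σ x = x) (hB : ∀ x ∈ B, σ x = x)
    (hab : q < A.card + B.card) : ∃ x ∈ A, x ∈ B := by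
  classical
  by_contra hc
  push Not at hc
  have h1 := Finset.card_union_of_disjoint (Finset.disjoint_left.2 hc)
  have h2 : A ∪ B ⊆ Finset.univ.filter fun x : F => σ x = x := fun x hx => by
    rw [Finset.mem_filter]
    exact ⟨Finset.mem_univ x, (Finset.mem_union.1 hx).elim (hA x) (hB x)⟩
  have h3 := (Finset.card_le_card h2).trans (card_fix_le hF)
  omega

include hF in
/-- Three circles reach every non-zero point. -/
theorem circle3 {a b c X : F} (ha : a ≠ 0) (hb : b ≠ 0) (hc : c ≠ 0) (hX : X ≠ 0) :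
    ∃ α β γ : F, α * σ α = 1 ∧ β * σ β = 1 ∧ γ * σ γ = 1 ∧ a * α + b * β + c * γ = X := by
  classical
  have hA := two_mul_card_norms hF ha hb
  have hB := two_mul_card_norms hF (neg_ne_zero.2 hc) hX
  obtain ⟨v, hv, hv'⟩ := inter_fix hF (A := (circ hF).image fun α => (a * α + b) * σ (a * α + b))
    (B := (circ hF).image fun α => (-c * α + X) * σ (-c * α + X))
    (fun x hx => by obtain ⟨α, -, rfl⟩ := Finset.mem_image.1 hx; exact fix_norm hF _)
    (fun x hx => by obtain ⟨α, -, rfl⟩ := Finset.mem_image.1 hx; exact fix_norm hF _)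
    (by omega)
  obtain ⟨α, hα, rfl⟩ := Finset.mem_image.1 hv
  obtain ⟨γ, hγ, hγv⟩ := Finset.mem_image.1 hv'
  rw [mem_circ] at hα hγ
  by_cases h0 : a * α + b = 0
  · have h1 : -c * γ + X = 0 := by
      rw [h0, zero_mul] at hγv
      rcases mul_eq_zero.1 hγv with h | h
      · exact h
      · exact frob_eq_zero hF h
    exact ⟨α, 1, γ, hα, by simp, hγ, by linear_combination h0 - h1⟩
  · refine ⟨α * ((-c * γ + X) / (a * α + b)), (-c * γ + X) / (a * α + b), γ, ?_, ?_, hγ, ?_⟩
    pick_goal 3
    · field_simp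
      ring
    all_goals
      have hne : σ (a * α + b) ≠ 0 := fun h => h0 (frob_eq_zero hF h)
      have hβ : (-c * γ + X) / (a * α + b) * σ ((-c * γ + X) / (a * α + b)) = 1 := by
        rw [map_div₀, div_mul_div_comm, hγv, div_self (mul_ne_zero h0 hne)]
    · exact circ_mul hF hα hβ
    · exact hβ

include hF in
theorem exists_generic : ∃ z : F, σ z ≠ z ∧ z + σ z ≠ 0 := by
  obtain ⟨θ, hθ⟩ : ∃ θ, σ θ ≠ θ := by
    by_contra h
    push Not at h
    exact frob_ne_id hF (RingHom.ext h)
  by_cases hs : θ + σ θ = 0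
  swap
  · exact ⟨θ, hθ, hs⟩
  refine ⟨θ + 1, fun e => hθ (by rw [map_add, map_one] at e; linear_combination e), fun e => hθ ?_⟩
  rw [map_add, map_one] at e
  have h2 : (2 : F) = 0 := by linear_combination e - hs
  linear_combination hs - θ * h2

include hF in
theorem exists_fix_ne (hq : 3 ≤ q) : ∃ f : F, σ f = f ∧ f ≠ 0 ∧ f ≠ 1 := by
  by_contra hc
  push Not at hc
  obtain ⟨g, hg⟩ := IsCyclic.exists_ofOrder_eq_natCard (α := Fˣ)
  have h1 := hc ((g : F) * σ (g : F)) (fix_norm hF _)
    (mul_ne_zero g.ne_zero fun h => g.ne_zero (frob_eq_zero hF h))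
  rw [frob_apply, ← pow_succ', ← Units.val_pow_eq_pow_val, Units.val_eq_one] at h1
  have h2 := Nat.le_of_dvd (by omega) (orderOf_dvd_of_pow_eq_one h1)
  rw [hg, Nat.card_units, Nat.card_eq_fintype_card, hF] at h2
  have : 3 * q ≤ q ^ 2 := by rw [sq]; exact Nat.mul_le_mul_right _ hq
  omega

include hF in
/-- A skew element other than two given ones. -/
theorem exists_skew_ne (hq : 3 ≤ q) {ζ : F} (hζ : Skew hF ζ) (hζ0 : ζ ≠ 0) :
    ∃ z : F, Skew hF z ∧ z ≠ 0 ∧ z ≠ ζ := by
  obtain ⟨f, hf, hf0, hf1⟩ := exists_fix_ne hF hq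
  exact ⟨ζ * f, skew_mul_fix hF hζ hf, mul_ne_zero hζ0 hf0, fun e => hf1 <| by
    simpa [hζ0] using e⟩

include hF in
/-- A fixed element is the square of a skew or of a fixed element. -/
theorem skewSq_or_sq {x : F} (hx : σ x = x) (hx0 : x ≠ 0) :
    SkewSq hF x ∨ ∃ r : F, r ≠ 0 ∧ σ r = r ∧ r * r = x := by
  obtain ⟨y, hy⟩ : IsSquare x := by
    rcases eq_or_ne (ringChar F) 2 with h2 | h2
    · exact FiniteField.isSquare_of_char_two h2 x
    · rw [FiniteField.isSquare_iff h2 hx0]
      obtain ⟨t, rfl⟩ := exists_norm_eq hF hx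
      rw [frob_apply, ← pow_succ', ← pow_mul]
      have hcard := FiniteField.odd_card_of_char_ne_two h2
      have hqodd : Odd q := by
        rw [← Nat.not_even_iff_odd]
        rintro ⟨j, rfl⟩
        rw [hF] at hcard
        rw [show (j + j) ^ 2 = 2 * (2 * j * j) by ring, Nat.mul_mod_right] at hcard
        exact zero_ne_one hcard
      obtain ⟨j, rfl⟩ := hqodd
      have ht : t ≠ 0 := fun h => hx0 (by rw [h, zero_mul])
      rw [hF, show (2 * j + 1) ^ 2 / 2 = 2 * j * j + 2 * j by
        rw [show (2 * j + 1) ^ 2 = 1 + 2 * (2 * j * j + 2 * j) by ring, Nat.add_mul_div_left _ _ two_pos]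
        simp]
      have : (2 * j + 1 + 1) * (2 * j * j + 2 * j) = ((2 * j + 1) ^ 2 - 1) * (j + 1) := by
        rw [show (2 * j + 1) ^ 2 = 4 * j * j + 4 * j + 1 by ring, Nat.add_sub_cancel]
        ring
      rw [this]
      rw [pow_mul, ← hF, FiniteField.pow_card_sub_one_eq_one t ht, one_pow]
  have hy0 : y ≠ 0 := fun h => hx0 (by rw [hy, h, zero_mul])
  have h1 : σ y * σ y = y * y := by rw [← map_mul, ← hy, hx]
  rcases mul_self_eq_mul_self_iff.1 h1 with h | h
  · exact Or.inr ⟨y, hy0, h, hy.symm⟩
  · exact Or.inl ⟨y, hy0, by rw [h]; exact add_neg_cancel y, hy.symm⟩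

include hF in
/-- In characteristic two fixed elements are squares of skew elements. -/
theorem skewSq_of_two (h2 : (2 : F) = 0) {x : F} (hx : σ x = x) (hx0 : x ≠ 0) : SkewSq hF x := by
  rcases skewSq_or_sq hF hx hx0 with h | ⟨r, hr0, hr, hrr⟩
  · exact h
  · exact ⟨r, hr0, by rw [hr]; linear_combination r * h2, hrr⟩

include hF in
/-- A non-zero square of the fixed field is a sum of two squares of skew elements. -/
theorem exists_skewSq_sum (h2 : (2 : F) ≠ 0) {r : F} (hr : σ r = r) (hr0 : r ≠ 0) :
    ∃ ν : F, σ ν = ν ∧ SkewSq hF ν ∧ SkewSq hF (r * r - ν) := by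
  classical
  obtain ⟨θ, hθ0, hθ⟩ := exists_skew hF
  have hθθ : σ (θ * θ) = θ * θ := by
    rw [map_mul, eq_neg_of_add_eq_zero_right hθ]; ring
  set Fx := Finset.univ.filter fun x : F => σ x = x
  set X := r * r / (θ * θ) with hX
  have hFq : q ≤ Fx.card := by
    have h1 : (Finset.univ : Finset F).card ≤ Fx.card * Fx.card := by
      rw [← Finset.card_product]
      refine Finset.card_le_card_of_injOn (fun z => (z + σ z, θ * (z - σ z))) (fun z _ => ?_)
        fun a _ b _ e => ?_
      · simp only [Finset.coe_product, Set.mem_prod, Finset.mem_coe, Fx, Finset.mem_filter,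
          Finset.mem_univ, true_and]
        refine ⟨fix_trace hF z, ?_⟩
        rw [map_mul, map_sub, frob_frob, eq_neg_of_add_eq_zero_right hθ]
        ring
      · simp only [Prod.mk.injEq] at e
        have e2 := mul_left_cancel₀ hθ0 e.2
        exact mul_left_cancel₀ h2 (by linear_combination e.1 + e2)
    rw [Finset.card_univ, hF, sq] at h1
    exact Nat.mul_self_le_mul_self_iff.1 h1
  have hsq : q + 1 ≤ 2 * (Fx.image fun x => x * x).card := by
    have h0 : (0 : F) ∈ Fx := by simp [Fx]
    have hfib : ∀ v ∈ (Fx.erase 0).image (fun x => x * x),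
        ((Fx.erase 0).filter fun x => x * x = v).card ≤ 2 := by
      intro v hv
      obtain ⟨y, -, rfl⟩ := Finset.mem_image.1 hv
      refine (Finset.card_le_card (t := {y, -y}) fun x hx => ?_).trans Finset.card_le_two
      rcases mul_self_eq_mul_self_iff.1 (Finset.mem_filter.1 hx).2 with e | e <;> simp [e]
    have h1 := Finset.card_le_mul_card_image (Fx.erase 0) 2 hfib
    have h3 : (Fx.erase 0).image (fun x => x * x) ⊆ (Fx.image fun x => x * x).erase 0 := by
      intro v hv
      obtain ⟨y, hy, rfl⟩ := Finset.mem_image.1 hv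
      exact Finset.mem_erase.2 ⟨mul_self_ne_zero.2 (Finset.ne_of_mem_erase hy),
        Finset.mem_image_of_mem _ (Finset.mem_of_mem_erase hy)⟩
    have h4 := Finset.card_le_card h3
    have h5 : (0 : F) ∈ Fx.image fun x => x * x := Finset.mem_image.2 ⟨0, h0, mul_zero 0⟩
    rw [Finset.card_erase_of_mem h5] at h4
    rw [Finset.card_erase_of_mem h0] at h1
    have := Finset.card_pos.2 ⟨_, h5⟩
    have := (UnitaryBasic.frob_exists hF).1
    omega
  have hXf : σ X = X := by rw [hX, map_div₀, map_mul, hr, hθθ]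
  obtain ⟨v, hv, hv'⟩ := inter_fix hF (A := Fx.image fun x => x * x)
    (B := (Fx.image fun x => x * x).image fun y => X - y)
    (fun v hv => by
      obtain ⟨x, hx, rfl⟩ := Finset.mem_image.1 hv
      rw [map_mul, (Finset.mem_filter.1 hx).2])
    (fun v hv => by
      obtain ⟨w, hw, rfl⟩ := Finset.mem_image.1 hv
      obtain ⟨x, hx, rfl⟩ := Finset.mem_image.1 hw
      rw [map_sub, map_mul, (Finset.mem_filter.1 hx).2, hXf])
    (by rw [Finset.card_image_of_injective (Fx.image fun x => x * x) (f := fun y => X - y)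
      fun a b e => sub_right_injective e]; omega)
  obtain ⟨x, hx, rfl⟩ := Finset.mem_image.1 hv
  obtain ⟨w, hw, hwx⟩ := Finset.mem_image.1 hv'
  obtain ⟨y, hy, rfl⟩ := Finset.mem_image.1 hw
  have hx' : σ x = x := (Finset.mem_filter.1 hx).2
  have hy' : σ y = y := (Finset.mem_filter.1 hy).2
  have hsum : θ * x * (θ * x) + θ * y * (θ * y) = r * r := by
    rw [hX] at hwx
    field_simp at hwx
    linear_combination -hwx
  have hne : ∀ z : F, σ z = z → θ * z * (θ * z) ≠ r * r := fun z hz e => by
    rcases mul_self_eq_mul_self_iff.1 e with e1 | e1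
    · have := congrArg σ e1
      rw [map_mul, hz, hr, eq_neg_of_add_eq_zero_right hθ, ← e1] at this
      exact hr0 (mul_left_cancel₀ h2 (by linear_combination -this - 2 * e1))
    · have := congrArg σ e1
      rw [map_mul, map_neg, hz, hr, eq_neg_of_add_eq_zero_right hθ] at this
      exact hr0 (mul_left_cancel₀ h2 (by linear_combination this + e1))
  refine ⟨θ * x * (θ * x), ?_, ⟨θ * x, mul_ne_zero hθ0 fun e => ?_, skew_mul_fix hF hθ hx', rfl⟩,
    ⟨θ * y, mul_ne_zero hθ0 fun e => ?_, skew_mul_fix hF hθ hy', ?_⟩⟩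
  · rw [map_mul, map_mul, eq_neg_of_add_eq_zero_right hθ, hx']; ring
  · exact hne y hy' (by rw [e] at hsum; linear_combination hsum)
  · exact hne x hx' (by rw [e] at hsum; linear_combination hsum)
  · linear_combination hsum

include hF in
/-- Two conjugate pairs of circle points with skew total. -/
theorem exists_pair_skew {N₁ N₂ N₃ : F} (h1 : σ N₁ = N₁) (h2 : σ N₂ = N₂) (h3 : σ N₃ = N₃)
    (hsum : N₁ + N₂ + N₃ = 0) (hN₁ : N₁ ≠ 0) (hN₂ : N₂ ≠ 0) (hN₃ : N₃ ≠ 0) :
    ∃ α β : F, α * σ α = 1 ∧ β * σ β = 1 ∧ α ≠ 1 ∧ β ≠ 1 ∧ N₂ * (α - 1) + N₃ * (β - 1) ≠ 0 ∧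
      Skew hF (N₂ * (α - 1) + N₃ * (β - 1)) := by
  classical
  have hT := two_mul_card_traces hF
  set A := ((circ hF).image fun x => x + σ x).image fun t => N₂ * t with hA
  set B := ((circ hF).image fun x => x + σ x).image fun t => -2 * N₁ - N₃ * t with hB
  have hAc : A.card = ((circ hF).image fun x => x + σ x).card :=
    Finset.card_image_of_injective _ (mul_right_injective₀ hN₂)
  have hBc : B.card = ((circ hF).image fun x => x + σ x).card :=
    Finset.card_image_of_injective _ fun a b e => mul_left_cancel₀ hN₃ (sub_right_injective e)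
  have h2A : 2 * N₂ ∈ A :=
    Finset.mem_image.2 ⟨2, Finset.mem_image.2 ⟨1, one_mem_circ hF, by rw [map_one]; norm_num⟩,
      mul_comm _ _⟩
  obtain ⟨v, hv, hv'⟩ := inter_fix hF (A := A.erase (2 * N₂)) (B := B)
    (fun v hv => by
      obtain ⟨t, ht, rfl⟩ := Finset.mem_image.1 (Finset.mem_of_mem_erase hv)
      obtain ⟨x, -, rfl⟩ := Finset.mem_image.1 ht
      rw [map_mul, h2, fix_trace])
    (fun v hv => by
      obtain ⟨t, ht, rfl⟩ := Finset.mem_image.1 hv
      obtain ⟨x, -, rfl⟩ := Finset.mem_image.1 ht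
      rw [map_sub, map_mul, map_mul, h1, h3, fix_trace, map_neg, map_ofNat])
    (by rw [Finset.card_erase_of_mem h2A]; omega)
  obtain ⟨hvne, hv⟩ := Finset.mem_erase.1 hv
  obtain ⟨t, ht, rfl⟩ := Finset.mem_image.1 hv
  obtain ⟨α, hα, rfl⟩ := Finset.mem_image.1 ht
  obtain ⟨t', ht', hv'⟩ := Finset.mem_image.1 hv'
  obtain ⟨β, hβ, rfl⟩ := Finset.mem_image.1 ht'
  rw [mem_circ] at hα hβ
  have hskew : ∀ a : F, a + σ a = α + σ α →
      Skew hF (N₂ * (a - 1) + N₃ * (β - 1)) := fun a ha => by
    unfold Skew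
    rw [map_add, map_mul, map_mul, map_sub, map_sub, map_one, h2, h3]
    linear_combination N₂ * ha - hv' - 2 * hsum
  have hα1 : α ≠ 1 := fun e => hvne (by rw [e, map_one]; ring)
  have hβ1 : β ≠ 1 := fun e => hvne (by
    rw [e, map_one] at hv'
    linear_combination -hv' - 2 * hsum)
  by_cases hz : N₂ * (α - 1) + N₃ * (β - 1) = 0
  swap
  · exact ⟨α, β, hα, hβ, hα1, hβ1, hz, hskew α rfl⟩
  refine ⟨σ α, β, circ_conj hF hα, hβ, fun e => hα1 ?_, hβ1, fun e => hN₁ ?_,
    hskew _ (by rw [frob_frob, add_comm])⟩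
  · simpa [frob_frob hF] using congrArg σ e
  have hfix : σ α = α := mul_left_cancel₀ hN₂ (by linear_combination e - hz)
  have hsq : (α - 1) * (α + 1) = 0 := by rw [hfix] at hα; linear_combination hα
  have hm : α = -1 := eq_neg_of_add_eq_zero_left ((mul_eq_zero.1 hsq).resolve_left (sub_ne_zero.2 hα1))
  have hβf : σ β = β := by
    have h := congrArg σ hz
    rw [map_add, map_mul, map_mul, map_sub, map_sub, map_one, h2, h3, hfix, map_zero, hm] at h
    rw [hm] at hz
    exact mul_left_cancel₀ hN₃ (by linear_combination h - hz)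
  have hsqb : (β - 1) * (β + 1) = 0 := by rw [hβf] at hβ; linear_combination hβ
  have hbm : β = -1 := eq_neg_of_add_eq_zero_left ((mul_eq_zero.1 hsqb).resolve_left (sub_ne_zero.2 hβ1))
  have h20 : (2 : F) ≠ 0 := fun e2 => hα1 (by rw [hm]; linear_combination -e2)
  rw [hm, hbm] at hz
  exact (mul_eq_zero.1 (show (2 : F) * N₁ = 0 by linear_combination hz + 2 * hsum)).resolve_left h20

include hF in
/-- The skew forms in the shifted circle span all skew elements. -/
theorem skew_mem_closure {c : F} (hc : Skew hF c) :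
    c ∈ AddSubgroup.closure {x : F | ∃ a b : F, a * σ a = 1 ∧ b * σ b = 1 ∧
      x = (a - 1) * σ (b - 1) - σ (a - 1) * (b - 1)} := by
  classical
  set T := {x : F | ∃ a b : F, a * σ a = 1 ∧ b * σ b = 1 ∧
      x = (a - 1) * σ (b - 1) - σ (a - 1) * (b - 1)}
  obtain ⟨z, hz, hz1⟩ := exists_gen hF
  have hz0 : (z : F) - 1 ≠ 0 := sub_ne_zero.2 fun e => by
    rw [Units.val_eq_one] at e
    rw [e, orderOf_one] at hz
    have := (UnitaryBasic.frob_exists hF).1
    omega
  -- the ring of the circle is everything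
  let R : Subfield F :=
    { Subring.closure {x : F | x * σ x = 1} with
      inv_mem' := fun x hx => by
        by_cases hx0 : x = 0
        · rw [hx0, inv_zero]; exact (Subring.closure {x : F | x * σ x = 1}).zero_mem
        have : x⁻¹ = x ^ (Fintype.card F - 2) := by
          refine (eq_inv_of_mul_eq_one_left ?_).symm
          rw [← pow_succ, show Fintype.card F - 2 + 1 = Fintype.card F - 1 by
            have := Fintype.one_lt_card (α := F); omega]
          exact FiniteField.pow_card_sub_one_eq_one x hx0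
        rw [this]
        exact Subring.pow_mem _ hx _ }
  have hzR : (z : F) ∈ R := Subring.subset_closure hz1
  have hq := (UnitaryBasic.frob_exists hF).1
  have hRlt : q < Fintype.card R := by
    have hdvd : q + 1 ∣ Fintype.card R - 1 := by
      rw [← hz]
      refine orderOf_dvd_of_pow_eq_one (Units.ext ?_)
      have h := FiniteField.pow_card_sub_one_eq_one (⟨(z : F), hzR⟩ : R) fun e => z.ne_zero
        (congrArg (Subtype.val : R → F) e : (z : F) = ((0 : R) : F))
      simpa using congrArg Subtype.val h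
    have h1 := Fintype.one_lt_card (α := R)
    have := Nat.le_of_dvd (by omega) hdvd
    omega
  have hd : Module.finrank R F = 1 := by
    have h := Module.card_eq_pow_finrank (K := R) (V := F)
    have hpos : 0 < Module.finrank R F := Module.finrank_pos
    by_contra hne
    have h2 : Fintype.card R ^ 2 ≤ Fintype.card F :=
      h ▸ Nat.pow_le_pow_right (by omega) (by omega)
    rw [hF] at h2
    exact absurd h2 (not_le.2 (Nat.pow_lt_pow_left hRlt two_ne_zero))
  have hall : ∀ x : F, x ∈ R := fun x => by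
    have h := Module.card_eq_pow_finrank (K := R) (V := F)
    rw [hd, pow_one] at h
    obtain ⟨y, hy⟩ := ((Fintype.bijective_iff_injective_and_card (Subtype.val : R → F)).2
      ⟨Subtype.val_injective, h.symm⟩).2 x
    exact hy ▸ y.2
  -- linearity
  let L : F →+ F := AddMonoidHom.mk' (fun y => ((z : F) - 1) * σ y - σ ((z : F) - 1) * y) fun a b => by
    rw [map_add]; ring
  have hL1 : ∀ b : F, b * σ b = 1 → L (b - 1) ∈ AddSubgroup.closure T := fun b hb =>
    AddSubgroup.subset_closure ⟨z, b, hz1, hb, rfl⟩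
  have hL : ∀ x : F, L (((z : F) - 1) * x) ∈ AddSubgroup.closure T := by
    intro x
    have hx : x ∈ AddSubgroup.closure ((Submonoid.closure {x : F | x * σ x = 1} : Submonoid F) : Set F) :=
      Subring.mem_closure_iff.1 (hall x)
    induction hx using AddSubgroup.closure_induction with
    | mem b hb =>
      have hb1 : b * σ b = 1 := by
        induction hb using Submonoid.closure_induction with
        | mem y hy => exact hy
        | one => simp
        | mul u v _ _ hu hv => exact circ_mul hF hu hv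
      rw [show ((z : F) - 1) * b = (((z : F) * b) - 1) - (b - 1) by ring, map_sub]
      exact sub_mem (hL1 _ (circ_mul hF hz1 hb1)) (hL1 _ hb1)
    | zero => rw [mul_zero, map_zero]; exact zero_mem _
    | add u v _ _ hu hv => rw [mul_add, map_add]; exact add_mem hu hv
    | neg u _ hu => rw [mul_neg, map_neg]; exact neg_mem hu
  obtain ⟨d, hd1⟩ := exists_trace_one hF
  have hσ0 : σ ((z : F) - 1) ≠ 0 := fun e => hz0 (frob_eq_zero hF e)
  set y := σ (c * d / ((z : F) - 1)) with hy
  have hLy : L y = c := by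
    show ((z : F) - 1) * σ y - σ ((z : F) - 1) * y = c
    rw [hy, frob_frob, map_div₀, map_mul, eq_neg_of_add_eq_zero_right hc]
    field_simp
    linear_combination c * hd1
  have h := hL (y / ((z : F) - 1))
  rwa [mul_div_cancel₀ _ hz0, hLy] at h

end CfsgLib.MaxSub.WreathUnitary
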