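/-
Overgroups of the stabiliser of an orthogonal decomposition in `SU_n`: the basic moves.
-/
import Cfsg.Agent.Lib.MaxSub.WreathUnitary.Circles
import Cfsg.Agent.Lib.MaxSub.SubspaceMaximalUnitary
import Cfsg.Agent.Lib.MaxSub.DecompTools
import Cfsg.Agent.Lib.HermIso.Frame
import Cfsg.Agent.Lib.HermIso.Models

set_option autoImplicit false
set_option maxHeartbeats 400000
set_option linter.unusedSectionVars false

namespace CfsgLib.MaxSub.WreathUnitary

open Matrix Module Cfsg Cfsg.Geo CfsgLib.UnitaryTransvection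
open CfsgLib.MaxSub (Ctr sg sg_mem G_isometry)

variable {F : Type*} [Field F] [Fintype F] {n q : ℕ} (hF : Fintype.card F = q ^ 2)

local notation "h" => Cfsg.hermForm n F q
local notation "σ" => frob hF
local notation "V" => Fin n → F
local notation "Mn" => Matrix (Fin n) (Fin n) F
local notation "G" => Cfsg.GU n F q ⊓ specialLinear (Fin n) F

/-- `x ↦ h(x, v)`. -/
noncomputable def hl (q : ℕ) (v : Fin n → F) : (Fin n → F) →ₗ[F] F where
  toFun x := Cfsg.hermForm n F q x v
  map_add' x y := h_add_left x y v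
  map_smul' c x := h_smul_left c x v

theorem hl_apply (v x : V) : hl q v x = h x v := rfl

theorem h_zero_left (v : V) : h 0 v = 0 := map_zero (hl q v)

include hF in
theorem h_zero_right (v : V) : h v 0 = 0 := by rw [← h_swap hF, h_zero_left, map_zero]

include hF in
theorem h_symm0 {u v : V} (e : h u v = 0) : h v u = 0 := by rw [← h_swap hF u v, e, map_zero]

theorem fix_self (v : V) : σ (h v v) = h v v := h_swap hF v v

theorem h_sum_left {ι : Type*} (s : Finset ι) (f : ι → V) (v : V) :
    h (∑ i ∈ s, f i) v = ∑ i ∈ s, h (f i) v := map_sum (hl q v) f s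

include hF in
theorem h_sum_right {ι : Type*} (s : Finset ι) (f : ι → V) (v : V) :
    h v (∑ i ∈ s, f i) = ∑ i ∈ s, h v (f i) := by
  rw [← h_swap hF, h_sum_left, map_sum]
  simp only [h_swap hF]

/-- An overgroup of the stabiliser of an orthogonal decomposition. -/
structure UW (q k : ℕ) {t : ℕ} (D : Fin t → Submodule F (Fin n → F))
    (K : Subgroup (GL (Fin n) F)) : Prop where
  dim : 4 ≤ n
  dim6 : k = 1 ∨ 6 ≤ n
  dec : IsNondegenerateMDecomposition (Cfsg.hermForm n F q) k D
  stab : decompositionStabilizer D ⊓ (Cfsg.GU n F q ⊓ specialLinear (Fin n) F) ≤ K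
  le : K ≤ Cfsg.GU n F q ⊓ specialLinear (Fin n) F

variable {t k : ℕ} {D : Fin t → Submodule F (Fin n → F)} {K : Subgroup (GL (Fin n) F)}

theorem t_mul (U : UW q k D K) : t * k = n := by
  have hi : DirectSum.IsInternal D :=
    (DirectSum.isInternal_submodule_iff_iSupIndep_and_iSup_eq_top D).2
      ⟨U.dec.decomp.indep, U.dec.decomp.iSup_eq_top⟩
  have h1 := Module.finrank_eq_card_basis (hi.collectedBasis fun i => Module.finBasis F (D i))
  rw [Module.finrank_fin_fun] at h1
  simp [U.dec.decomp.finrank_eq] at h1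
  omega

theorem ortho (U : UW q k D K) {i j : Fin t} (hij : i ≠ j) {x y : V} (hx : x ∈ D i) (hy : y ∈ D j) :
    h x y = 0 :=
  U.dec.orthogonal i j hij x hx y hy

theorem comp_left (U : UW q k D K) {c : Fin t → V} (hc : Decomp.Fam D c) {j : Fin t} {y : V}
    (hy : y ∈ D j) : h (∑ i, c i) y = h (c j) y := by
  rw [h_sum_left]
  exact Finset.sum_eq_single j (fun i _ hi => ortho U hi (hc i) hy)
    (fun e => absurd (Finset.mem_univ j) e)

include hF in
theorem sum_sum (U : UW q k D K) {c d : Fin t → V} (hc : Decomp.Fam D c) (hd : Decomp.Fam D d) :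
    h (∑ i, c i) (∑ i, d i) = ∑ i, h (c i) (d i) := by
  rw [h_sum_right hF]
  exact Finset.sum_congr rfl fun i _ => comp_left U hc (hd i)

theorem nd_left (U : UW q k D K) {i : Fin t} {x : V} (hx : x ∈ D i) (hh : ∀ y ∈ D i, h y x = 0) :
    x = 0 := by
  by_contra hx0
  obtain ⟨⟨y, hy, hne⟩, -⟩ := U.dec.nondegenerate i x hx hx0
  exact hne (hh y hy)

include hF in
/-- A vector is in a block if it is orthogonal to the others. -/
theorem mem_block (U : UW q k D K) {x : V} {j : Fin t}
    (hh : ∀ l, l ≠ j → ∀ y ∈ D l, h x y = 0) : x ∈ D j := by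
  obtain ⟨c, hc, rfl⟩ := Decomp.exists_comp U.dec.decomp x
  rw [Finset.sum_eq_single j (fun l _ hl => nd_left U (hc l) fun y hy => h_symm0 hF (by
    rw [← comp_left U hc hy]; exact hh l hl y hy)) (fun e => absurd (Finset.mem_univ j) e)]
  exact hc j

theorem mem_of_maps (U : UW q k D K) {g : GL (Fin n) F} (hg : g ∈ G)
    (hm : ∀ i, ∃ j, ∀ x ∈ D i, (g : Mn) *ᵥ x ∈ D j) : g ∈ K :=
  U.stab ⟨Decomp.mem_stab_of U.dec.decomp hm, hg⟩

theorem tmat_maps (U : UW q k D K) {i : Fin t} {d : V} (hd : d ∈ D i) (κ : F) (l : Fin t) {x : V}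
    (hx : x ∈ D l) : Cfsg.unitaryTransvection n q d κ *ᵥ x ∈ D l := by
  rw [tmat_mulVec]
  by_cases hl : l = i
  · subst hl; exact (D l).add_mem hx ((D l).smul_mem _ hd)
  · rw [ortho U hl hx hd, mul_zero, zero_smul, add_zero]; exact hx

/-- Two pseudo-reflections in blocks of total determinant one. -/
theorem pair_mem (U : UW q k D K) {i l : Fin t} {d p : V} (hd : d ∈ D i) (hp : p ∈ D l) {κ κ' : F}
    (hκ : Good hF d κ) (hκ' : Good hF p κ') (hdet : (1 + κ * h d d) * (1 + κ' * h p p) = 1) :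
    ∃ u : GL (Fin n) F, u ∈ K ∧ u ∈ G ∧ ∀ y, (u : Mn) *ᵥ y =
      Cfsg.unitaryTransvection n q d κ *ᵥ (Cfsg.unitaryTransvection n q p κ' *ᵥ y) := by
  have hm : ∀ y, (sg (Cfsg.unitaryTransvection n q d κ * Cfsg.unitaryTransvection n q p κ')
      (det_one_sg hdet) : Mn) *ᵥ y =
      Cfsg.unitaryTransvection n q d κ *ᵥ (Cfsg.unitaryTransvection n q p κ' *ᵥ y) := fun y =>
    (Matrix.mulVec_mulVec _ _ _).symm
  have hG := sg_mem (fun a b => by
    rw [← Matrix.mulVec_mulVec, ← Matrix.mulVec_mulVec, tmat_isometry hF hκ, tmat_isometry hF hκ'])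
    (det_one_sg hdet)
  refine ⟨_, mem_of_maps U hG fun a => ⟨a, fun x hx => ?_⟩, hG, hm⟩
  rw [hm]
  exact tmat_maps U hd κ a (tmat_maps U hp κ' a hx)

/-- Isotropic vectors of blocks are centres. -/
theorem ctr_block (U : UW q k D K) {i : Fin t} {v : V} (hv : v ∈ D i) (hvv : h v v = 0) :
    Ctr hF K v := fun g c hc hg => mem_of_maps U
  ⟨fun a b => by
    show h ((g : Mn) *ᵥ a) ((g : Mn) *ᵥ b) = h a b
    rw [hg]
    exact tmat_isometry hF (show Good hF v c by rw [Good, hvv, mul_zero, add_zero, hc]) a b,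
  Units.ext (by
    show (g : Mn).det = 1
    rw [hg, det_tmat, hvv, mul_zero, add_zero])⟩ fun a => ⟨a, fun x hx => by
      rw [hg]; exact tmat_maps U hv c a hx⟩

theorem ctr_zero (U : UW q k D K) : Ctr hF K (0 : V) :=
  ctr_block hF U (i := ⟨0, by have := U.dec.decomp.two_le; omega⟩) (zero_mem _) (h_zero_left 0)

/-- Two centres which are not orthogonal give their sum, if it is isotropic. -/
theorem join (U : UW q k D K) {w u : V} (hw : Ctr hF K w) (hu : Ctr hF K u) (hww : h w w = 0)
    (huu : h u u = 0) (hs : h (w + u) (w + u) = 0) (hne : h w u ≠ 0) : Ctr hF K (w + u) := by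
  have hne' : h u w ≠ 0 := fun e => hne (h_symm0 hF e)
  have hskew : h u w + σ (h u w) = 0 := by
    rw [h_add_left, h_add_right hF, h_add_right hF, hww, huu] at hs
    rw [h_swap hF]
    linear_combination hs
  set c := (h u w)⁻¹
  have hc : c + σ c = 0 := skew_inv hF hskew
  set T := sg (Cfsg.unitaryTransvection n q w c) (by rw [det_tmat, hww, mul_zero, add_zero])
  have hTG : T ∈ G := sg_mem (tmat_isometry hF
    (show Good hF w c by rw [Good, hww, mul_zero, add_zero]; exact hc)) _
  have h1 := hu.conj (hw T c hc rfl) hTG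
  have e : (T : Mn) *ᵥ u = w + u := by
    show Cfsg.unitaryTransvection n q w c *ᵥ u = _
    rw [tmat_mulVec, inv_mul_cancel₀ hne', one_smul, add_comm]
  rwa [e] at h1

/-- Adding a block vector, compensated at an anisotropic vector. -/
theorem step (U : UW q k D K) {i l : Fin t} {x d p : V} (hd : d ∈ D i) (hp : p ∈ D l)
    (hxd : h x d ≠ 0) (hnorm : h (x + d) (x + d) = h x x) (hpp : h p p ≠ 0) (hxp : h x p = 0)
    (hS : Ctr hF K x) : Ctr hF K (x + d) := by
  set c := (h x d)⁻¹ with hc
  have hsum : h x d + σ (h x d) + h d d = 0 := by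
    rw [h_add_left, h_add_right hF, h_add_right hF] at hnorm
    rw [h_swap hF]
    linear_combination hnorm
  have hsne : σ (h x d) ≠ 0 := fun e0 => hxd (frob_eq_zero hF e0)
  have hgood : Good hF d c := by
    rw [Good, hc, map_inv₀]
    field_simp
    linear_combination hsum
  set δ := 1 + c * h d d with hδ
  have hδn : δ * σ δ = 1 := by
    rw [hδ, map_add, map_one, map_mul, fix_self hF d]
    unfold Good at hgood
    linear_combination (h d d) * hgood
  have hδ0 : δ ≠ 0 := left_ne_zero_of_mul (hδn.trans_ne one_ne_zero)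
  set c' := (δ⁻¹ - 1) / h p p with hc'
  have hdet : (1 + c * h d d) * (1 + c' * h p p) = 1 := by
    rw [← hδ, hc', div_mul_cancel₀ _ hpp, add_sub_cancel, mul_inv_cancel₀ hδ0]
  have hgood' : Good hF p c' := by
    rw [Good, hc', map_div₀, map_sub, map_inv₀, map_one, fix_self hF p]
    have : σ δ ≠ 0 := right_ne_zero_of_mul (hδn.trans_ne one_ne_zero)
    field_simp
    linear_combination -hδn
  obtain ⟨u, huK, huG, hu⟩ := pair_mem hF U hd hp hgood hgood' hdet
  have h1 := hS.conj huK huG
  rwa [hu, tmat_mulVec (z := p), hxp, mul_zero, zero_smul, add_zero, tmat_mulVec, hc,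
    inv_mul_cancel₀ hxd, one_smul] at h1

/-- Two block vectors at once. -/
theorem step_two (U : UW q k D K) {i l : Fin t} (hil : i ≠ l) {x d e : V} (hd : d ∈ D i)
    (he : e ∈ D l) {z : F} (hz : z ≠ 0) (hzs : z + σ z + h d d = 0) (hxd : h x d = z)
    (hxe : h x e = -σ z) (hee : h e e = z + σ z) (hS : Ctr hF K x) : Ctr hF K (x + d + e) := by
  have hσz : σ z ≠ 0 := fun e0 => hz (frob_eq_zero hF e0)
  have hκ : Good hF d z⁻¹ := by
    rw [Good, map_inv₀]
    field_simp
    linear_combination hzs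
  have hκ' : Good hF e (-(σ z)⁻¹) := by
    rw [Good, map_neg, map_inv₀, frob_frob, hee]
    field_simp
    ring
  have hdet : (1 + z⁻¹ * h d d) * (1 + -(σ z)⁻¹ * h e e) = 1 := by
    rw [hee, show h d d = -(z + σ z) by linear_combination hzs]
    field_simp
    ring
  obtain ⟨u, huK, huG, hu⟩ := pair_mem hF U hd he hκ hκ' hdet
  have h1 := hS.conj huK huG
  have hed : h e d = 0 := ortho U (Ne.symm hil) he hd
  rwa [hu, tmat_mulVec (z := e), hxe, neg_mul_neg, inv_mul_cancel₀ hσz, one_smul, tmat_mulVec,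
    h_add_left, hed, add_zero, hxd, inv_mul_cancel₀ hz, one_smul, add_right_comm] at h1

include hF in
/-- An anisotropic vector in more than half of a block. -/
theorem exists_aniso_le (U : UW q k D K) {i : Fin t} {X : Submodule F V} (hX : X ≤ D i)
    (hdim : k < 2 * finrank F X) : ∃ p ∈ X, h p p ≠ 0 := by
  obtain ⟨τ, B, H, hB⟩ := HermIso.exists_herm hF n
  by_contra hc
  push Not at hc
  have h0 : ∀ x ∈ X, ∀ y ∈ X, B x y = 0 :=
    HermIso.polar_zero H B fun x hx => by rw [hB]; exact hc x hx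
  have hnd : HermIso.NDS B (D i) := fun x hx hh => nd_left U hx fun y hy => by rw [← hB]; exact hh y hy
  have := HermIso.two_mul_le H hX h0 hnd
  rw [U.dec.decomp.finrank_eq] at this
  omega

include hF in
/-- An orthonormal frame of a block. -/
theorem exists_block_frame (U : UW q k D K) (i : Fin t) :
    ∃ e : Fin k → V, (∀ j, e j ∈ D i) ∧ ∀ j j', h (e j) (e j') = if j = j' then 1 else 0 := by
  obtain ⟨τ, B, H, hB⟩ := HermIso.exists_herm hF n
  have hnd : HermIso.NDS B (D i) := fun x hx hh => nd_left U hx fun y hy => by rw [← hB]; exact hh y hy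
  obtain ⟨e, he, hee⟩ := HermIso.exists_frame H k (D i) (U.dec.decomp.finrank_eq i) hnd
  refine ⟨e, he, fun j j' => ?_⟩
  rw [← hB, hee]
  exact ite_congr (propext eq_comm) (fun _ => rfl) (fun _ => rfl)

include hF in
theorem exists_unit (U : UW q k D K) (i : Fin t) : ∃ p ∈ D i, h p p = 1 := by
  obtain ⟨e, he, hee⟩ := exists_block_frame hF U i
  exact ⟨e ⟨0, U.dec.decomp.pos⟩, he _, by rw [hee, if_pos rfl]⟩

include hF in
/-- An isometry corrected at a unit vector. -/
theorem exists_fix_det {p : V} (hp : h p p = 1) (M : Mn)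
    (hM : ∀ u v, h (M *ᵥ u) (M *ᵥ v) = h u v) :
    ∃ (u : GL (Fin n) F) (κ : F), u ∈ G ∧
      ∀ y, (u : Mn) *ᵥ y = Cfsg.unitaryTransvection n q p κ *ᵥ (M *ᵥ y) := by
  have hgu : (isometry_of_matrix hF hM).unit ∈ Cfsg.GU n F q := fun u v => hM u v
  set δ := M.det
  have hδ : δ * σ δ = 1 := by
    have := congrArg Units.val (UnitaryBasic.det_pow hF hgu)
    simp only [Units.val_pow_eq_pow_val, Units.val_one] at this
    rw [frob_apply, ← pow_succ']
    exact this
  have hδ0 : δ ≠ 0 := left_ne_zero_of_mul (hδ.trans_ne one_ne_zero)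
  have hgood : Good hF p (δ⁻¹ - 1) := by
    have : σ δ ≠ 0 := right_ne_zero_of_mul (hδ.trans_ne one_ne_zero)
    rw [Good, hp, map_sub, map_inv₀, map_one]
    field_simp
    linear_combination -hδ
  have hd : (Cfsg.unitaryTransvection n q p (δ⁻¹ - 1) * M).det = 1 := by
    rw [Matrix.det_mul, det_tmat, hp, mul_one, add_sub_cancel, inv_mul_cancel₀ hδ0]
  exact ⟨sg _ hd, _, sg_mem (fun a b => by
    rw [← Matrix.mulVec_mulVec, ← Matrix.mulVec_mulVec, tmat_isometry hF hgood, hM]) hd,
    fun y => (Matrix.mulVec_mulVec _ _ _).symm⟩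

include hF in
/-- An element of the stabiliser carrying one block onto another and fixing a third pointwise. -/
theorem exists_swap (U : UW q k D K) {a b : Fin t} (hab : a ≠ b) :
    ∃ u : GL (Fin n) F, u ∈ K ∧ u ∈ G ∧ (∀ x ∈ D b, ∃ y ∈ D a, (u : Mn) *ᵥ y = x) ∧
      (∀ i, i ≠ a → i ≠ b → ∀ x ∈ D i, (u : Mn) *ᵥ x = x) ∧ u ∈ decompositionStabilizer D ∧
      (∀ x ∈ D a, (u : Mn) *ᵥ x ∈ D b) ∧ ∀ x ∈ D b, (u : Mn) *ᵥ x ∈ D a := by
  classical
  obtain ⟨e, he, hee⟩ := exists_block_frame hF U a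
  obtain ⟨f, hf, hff⟩ := exists_block_frame hF U b
  set d : Fin k → V := fun j => e j - f j with hd
  have hef : ∀ j j', h (e j) (f j') = 0 := fun j j' => ortho U hab (he j) (hf j')
  have hfe : ∀ j j', h (f j) (e j') = 0 := fun j j' => ortho U hab.symm (hf j) (he j')
  have hdd : ∀ j j', h (d j) (d j') = if j = j' then 2 else 0 := fun j j' => by
    rw [hd]
    simp only [h_sub_left, h_sub_right hF, hee, hff, hef, hfe]
    split_ifs <;> norm_num
  let S : V →ₗ[F] V := LinearMap.id - ∑ j, (hl q (d j)).smulRight (d j)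
  have hS : ∀ y, S y = y - ∑ j, h y (d j) • d j := fun y => by simp [S, hl_apply]
  have hMy : ∀ y, LinearMap.toMatrix' S *ᵥ y = S y := fun y => LinearMap.toMatrix'_mulVec S y
  have hiso : ∀ u v, h (LinearMap.toMatrix' S *ᵥ u) (LinearMap.toMatrix' S *ᵥ v) = h u v := by
    intro u v
    rw [hMy, hMy, hS, hS]
    simp only [h_sub_left, h_sub_right hF, h_sum_left, h_sum_right hF, h_smul_left, h_smul_right hF,
      hdd, h_swap hF, mul_ite, mul_zero, Finset.sum_ite_eq', Finset.mem_univ, if_true]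
    simp only [mul_sub, Finset.sum_sub_distrib]
    have e2 : ∑ j, h (d j) v * (h u (d j) * 2) = 2 * ∑ j, h u (d j) * h (d j) v := by
      rw [Finset.mul_sum]; exact Finset.sum_congr rfl fun j _ => by ring
    have e1 : ∑ j, h (d j) v * h u (d j) = ∑ j, h u (d j) * h (d j) v :=
      Finset.sum_congr rfl fun j _ => by ring
    rw [e2, e1]
    ring
  obtain ⟨p, hp, hpp⟩ := exists_unit hF U a
  obtain ⟨u, κ, huG, hu⟩ := exists_fix_det hF hpp _ hiso
  have hyd : ∀ y j, h y (d j) = h y (e j) - h y (f j) := fun y j => by rw [hd, h_sub_right hF]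
  have hother : ∀ i, i ≠ a → i ≠ b → ∀ x ∈ D i, S x = x := by
    intro i hia hib x hx
    rw [hS, Finset.sum_eq_zero fun j _ => ?_, sub_zero]
    rw [hyd, ortho U hia hx (he j), ortho U hib hx (hf j), sub_zero, zero_smul]
  -- the frames span the blocks
  have hfull : ∀ {i : Fin t} {g : Fin k → V}, (∀ j, g j ∈ D i) →
      (∀ j j', h (g j) (g j') = if j = j' then 1 else 0) → ∀ x ∈ D i, x = ∑ j, h x (g j) • g j := by
    intro i g hg hgg x hx
    refine sub_eq_zero.1 (nd_left U ((D i).sub_mem hx (Submodule.sum_mem _ fun j _ =>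
      (D i).smul_mem _ (hg j))) ?_)
    have hli : LinearIndependent F g := Fintype.linearIndependent_iff.2 fun c hc j => by
      have := congrArg (fun z => h z (g j)) hc
      simpa [h_sum_left, h_smul_left, hgg, h_zero_left] using this
    have hsp : Submodule.span F (Set.range g) = D i :=
      Submodule.eq_of_le_of_finrank_eq (Submodule.span_le.2 (Set.range_subset_iff.2 hg))
        (by rw [finrank_span_eq_card hli, Fintype.card_fin, U.dec.decomp.finrank_eq])
    intro y hy
    rw [← hsp] at hy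
    induction hy using Submodule.span_induction with
    | mem y hy =>
      obtain ⟨j, rfl⟩ := hy
      refine h_symm0 hF ?_
      simp [h_sub_left, h_sum_left, h_smul_left, hgg]
    | zero => exact h_zero_left _
    | add y y' _ _ h1 h2 => rw [h_add_left, h1, h2, add_zero]
    | smul c y _ h1 => rw [h_smul_left, h1, mul_zero]
  have hSa : ∀ x ∈ D a, S x = ∑ j, h x (e j) • f j := by
    intro x hx
    rw [hS, Finset.sum_congr rfl fun j _ => show h x (d j) • d j = h x (e j) • e j - h x (e j) • f j by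
      rw [hyd, ortho U hab hx (hf j), sub_zero]; exact smul_sub _ _ _, Finset.sum_sub_distrib,
      ← hfull he hee x hx]
    abel
  have hSb : ∀ x ∈ D b, S x = ∑ j, h x (f j) • e j := by
    intro x hx
    rw [hS, Finset.sum_congr rfl fun j _ => show h x (d j) • d j = h x (f j) • f j - h x (f j) • e j by
      rw [hyd, ortho U hab.symm hx (he j), zero_sub, neg_smul, ← neg_sub, ← smul_sub],
      Finset.sum_sub_distrib, ← hfull hf hff x hx]
    abel
  have hTp : ∀ i, i ≠ a → ∀ x ∈ D i, Cfsg.unitaryTransvection n q p κ *ᵥ x = x := fun i hi x hx => by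
    rw [tmat_mulVec, ortho U hi hx hp, mul_zero, zero_smul, add_zero]
  have hab' : ∀ x ∈ D a, (u : Mn) *ᵥ x ∈ D b := fun x hx => by
    rw [hu, hMy, hSa x hx]
    exact tmat_maps U hp κ b (Submodule.sum_mem _ fun j _ => (D b).smul_mem _ (hf j))
  have hba' : ∀ x ∈ D b, (u : Mn) *ᵥ x ∈ D a := fun x hx => by
    rw [hu, hMy, hSb x hx]
    exact tmat_maps U hp κ a (Submodule.sum_mem _ fun j _ => (D a).smul_mem _ (he j))
  have hmaps : ∀ i, ∃ j, ∀ x ∈ D i, (u : Mn) *ᵥ x ∈ D j := fun i => by
    by_cases hia : i = a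
    · subst hia; exact ⟨b, hab'⟩
    by_cases hib : i = b
    · subst hib; exact ⟨a, hba'⟩
    exact ⟨i, fun x hx => by rw [hu, hMy, hother i hia hib x hx, hTp i hia x hx]; exact hx⟩
  refine ⟨u, mem_of_maps U huG hmaps, huG, fun x hx => ?_, fun i hia hib x hx => ?_,
    Decomp.mem_stab_of U.dec.decomp hmaps, hab', hba'⟩
  · refine ⟨∑ j, h x (f j) • e j, Submodule.sum_mem _ fun j _ => (D a).smul_mem _ (he j), ?_⟩
    rw [hu, hMy, hSa _ (Submodule.sum_mem _ fun j _ => (D a).smul_mem _ (he j))]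
    simp only [h_sum_left, h_smul_left, hee, mul_ite, mul_one, mul_zero, Finset.sum_ite_eq',
      Finset.mem_univ, if_true]
    rw [← hfull hf hff x hx]
    exact hTp b hab.symm x hx
  · rw [hu, hMy, hother i hia hib x hx, hTp i hia x hx]

/-- The sum of some blocks. -/
def blocks (D : Fin t → Submodule F (Fin n → F)) (J : Finset (Fin t)) : Submodule F (Fin n → F) :=
  ⨆ i ∈ J, D i

theorem le_blocks {J : Finset (Fin t)} {i : Fin t} (hi : i ∈ J) : D i ≤ blocks D J :=
  le_iSup₂ (f := fun i _ => D i) i hi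

theorem mem_blocks (U : UW q k D K) {J : Finset (Fin t)} {x : V} (hx : x ∈ blocks D J) :
    ∃ a, Decomp.Fam D a ∧ (∀ i ∉ J, a i = 0) ∧ ∑ i, a i = x := by
  classical
  refine Submodule.iSup_induction (fun i => ⨆ _ : i ∈ J, D i)
    (motive := fun x => ∃ a, Decomp.Fam D a ∧ (∀ i ∉ J, a i = 0) ∧ ∑ i, a i = x) hx ?_ ?_ ?_
  · intro l z hz
    by_cases hl : l ∈ J
    · rw [iSup_pos hl] at hz
      refine ⟨Pi.single l z, fun i => ?_, fun i hi => Pi.single_eq_of_ne (fun e => hi (by rw [e]; exact hl)) _,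
        by simp⟩
      by_cases hi : i = l
      · subst hi; simpa using hz
      · simp [Pi.single_eq_of_ne hi]
    · rw [iSup_neg hl, Submodule.mem_bot] at hz
      exact ⟨0, fun i => zero_mem _, fun i _ => rfl, by simp [hz]⟩
  · exact ⟨0, fun i => zero_mem _, fun i _ => rfl, by simp⟩
  · rintro x y ⟨a, ha, ha0, rfl⟩ ⟨b, hb, hb0, rfl⟩
    exact ⟨a + b, fun i => (D i).add_mem (ha i) (hb i),
      fun i hi => by simp [ha0 i hi, hb0 i hi], by simp [Finset.sum_add_distrib]⟩

theorem sum_mem_blocks {J : Finset (Fin t)} {c : Fin t → V} (hc : Decomp.Fam D c) :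
    ∑ i ∈ J, c i ∈ blocks D J :=
  Submodule.sum_mem _ fun i hi => le_blocks hi (hc i)

include hF in
theorem blocks_nd (U : UW q k D K) (J : Finset (Fin t)) :
    IsNondegenerateOn (Cfsg.hermForm n F q) (blocks D J) := by
  intro x hx hx0
  obtain ⟨a, ha, ha0, rfl⟩ := mem_blocks U hx
  obtain ⟨i, hi, hai⟩ : ∃ i ∈ J, a i ≠ 0 := by
    by_contra hc
    push Not at hc
    exact hx0 (Finset.sum_eq_zero fun i _ => if hi : i ∈ J then hc i hi else ha0 i hi)
  obtain ⟨-, y, hy, hne⟩ := U.dec.nondegenerate i (a i) (ha i) hai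
  rw [← comp_left U ha hy] at hne
  exact ⟨⟨y, le_blocks hi hy, fun e => hne (h_symm0 hF e)⟩, ⟨y, le_blocks hi hy, hne⟩⟩

theorem le_finrank_blocks (U : UW q k D K) (J : Finset (Fin t)) :
    J.card ≤ finrank F (blocks D J) := by
  classical
  have h0 : ∀ i, ∃ x ∈ D i, x ≠ (0 : V) := fun i => Submodule.exists_mem_ne_zero_of_ne_bot fun e => by
    have := U.dec.decomp.finrank_eq i
    rw [e, finrank_bot] at this
    exact absurd this (Nat.ne_of_lt U.dec.decomp.pos)
  choose x hx hx0 using h0
  have hli := (U.dec.decomp.indep.linearIndependent D hx hx0).comp (Subtype.val : J → Fin t)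
    Subtype.val_injective
  have hle : Submodule.span F (Set.range fun i : J => x i) ≤ blocks D J :=
    Submodule.span_le.2 (Set.range_subset_iff.2 fun i => le_blocks i.2 (hx i))
  have := Submodule.finrank_mono hle
  rw [Function.comp_def] at hli
  rwa [finrank_span_eq_card hli, Fintype.card_coe] at this

theorem k_le_finrank_blocks (U : UW q k D K) {J : Finset (Fin t)} {j : Fin t} (hj : j ∈ J) :
    k ≤ finrank F (blocks D J) := by
  rw [← U.dec.decomp.finrank_eq j]
  exact Submodule.finrank_mono (le_blocks hj)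

include hF in
/-- Vectors with given product and norm in a non-degenerate subspace. -/
theorem solve {X : Submodule F V} (hX : IsNondegenerateOn (Cfsg.hermForm n F q) X)
    (hd : 2 ≤ finrank F X) {c : V} (hc : c ∈ X) (hc0 : c ≠ 0) {z R : F} (hR : σ R = R)
    (hcase : h c c ≠ 0 ∨ z ≠ 0 ∨ 3 ≤ finrank F X ∨ R = 0) :
    ∃ u ∈ X, h u c = z ∧ h u u = R := by
  obtain ⟨τ, -, hf⟩ := CfsgLib.Aschbacher.exists_unitary_hermForm (n := n) hF
  have hr := CfsgLib.Aschbacher.isRefl_of_unitary hf
  set Y := X ⊓ LinearMap.ker (hl q c)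
  have hY : finrank F X ≤ finrank F Y + 1 := by
    have h1 := LinearMap.finrank_range_add_finrank_ker (hl q c)
    have h2 := Submodule.finrank_le (LinearMap.range (hl q c))
    rw [Module.finrank_self] at h2
    have h3 := Submodule.finrank_sup_add_finrank_inf_eq X (LinearMap.ker (hl q c))
    have h4 := Submodule.finrank_le (X ⊔ LinearMap.ker (hl q c))
    change _ + finrank F Y = _ at h3
    omega
  -- a vector of `Y` of any norm
  have hnorm : ∀ R : F, σ R = R → (R = 0 ∨ ∃ p ∈ Y, h p p ≠ 0) → ∃ p ∈ Y, h p p = R := by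
    rintro R hR (rfl | ⟨p, hp, hpp⟩)
    · exact ⟨0, zero_mem _, h_zero_left _⟩
    obtain ⟨s, hs⟩ := exists_norm_eq hF (c := R / h p p) (by rw [map_div₀, hR, fix_self hF])
    rw [eq_div_iff hpp] at hs
    exact ⟨s • p, Y.smul_mem _ hp, by rw [h_smul_left, h_smul_right hF]; linear_combination hs⟩
  by_cases hcc : h c c = 0
  swap
  · have hR' : σ (R - z * σ z / h c c) = R - z * σ z / h c c := by
      rw [map_sub, map_div₀, hR, fix_norm, fix_self hF]
    obtain ⟨p, hp, hpR⟩ := hnorm _ hR' (Or.inr (by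
      by_contra hno
      push Not at hno
      obtain ⟨y, hy, hy0⟩ := Submodule.exists_mem_ne_zero_of_ne_bot (show Y ≠ ⊥ from fun e => by
        rw [e, finrank_bot] at hY; omega)
      obtain ⟨-, w, hw, hne⟩ := hX y hy.1 hy0
      set w' := w - (h w c / h c c) • c
      have hw' : w' ∈ Y := ⟨X.sub_mem hw (X.smul_mem _ hc), by
        show h w' c = 0
        rw [h_sub_left, h_smul_left, div_mul_cancel₀ _ hcc, sub_self]⟩
      have hyc : h y c = 0 := hy.2
      have hyw : h y w' = h y w := by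
        rw [h_sub_right hF, h_smul_right hF, hyc, mul_zero, sub_zero]
      obtain ⟨η, hη⟩ : ∃ η : F, σ η ≠ η := by
        by_contra e
        push Not at e
        exact frob_ne_id hF (RingHom.ext e)
      have key : ∀ a : F, h (y + a • w') (y + a • w') = 0 := fun a =>
        hno _ (Y.add_mem hy (Y.smul_mem a hw'))
      have e1 := key 1
      have e2 := key η
      simp only [one_smul, h_add_left, h_add_right hF, h_smul_left, h_smul_right hF, hno y hy,
        hno w' hw'] at e1 e2
      have : (σ η - η) * h y w' = 0 := by linear_combination e2 - η * e1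
      exact hne (hyw ▸ (mul_eq_zero.1 this).resolve_left (sub_ne_zero.2 hη))))
    refine ⟨(z / h c c) • c + p, X.add_mem (X.smul_mem _ hc) hp.1, ?_, ?_⟩
    · rw [h_add_left, h_smul_left, show h p c = 0 from hp.2, add_zero, div_mul_cancel₀ _ hcc]
    · rw [h_add_left, h_add_right hF, h_add_right hF, h_smul_left, h_smul_left, h_smul_right hF,
        h_smul_right hF, show h p c = 0 from hp.2, h_symm0 hF (show h p c = 0 from hp.2), hpR,
        map_div₀, fix_self hF c]
      field_simp
      ring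
  by_cases hz : z = 0
  swap
  · obtain ⟨a, ha, haa, hac⟩ := exists_iso_partner (hF := hF) hr hX hc hc0 hcc z
    obtain ⟨s, hs⟩ := WittExtension.exists_trace (frob_ne_id hF) (frob_frob hF) (c := R) hR
    have hσz : σ z ≠ 0 := fun e => hz (frob_eq_zero hF e)
    refine ⟨a + (s / σ z) • c, X.add_mem ha (X.smul_mem _ hc), by
      rw [h_add_left, h_smul_left, hcc, mul_zero, add_zero, hac], ?_⟩
    have hca : h c a = σ z := by rw [← h_swap hF a c, hac]
    simp only [h_add_left, h_add_right hF, h_smul_left, h_smul_right hF, haa, hcc, hac, hca, map_div₀,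
      frob_frob]
    field_simp
    linear_combination (σ z * z) * hs
  subst hz
  obtain ⟨p, hp, hpR⟩ := hnorm R hR (by
    rcases hcase with h1 | h1 | h1 | h1
    · exact absurd hcc h1
    · exact absurd rfl h1
    · refine Or.inr ?_
      by_contra hno
      push Not at hno
      obtain ⟨τ, B, H, hB⟩ := HermIso.exists_herm hF n
      have h0 : ∀ x ∈ Y, ∀ y ∈ Y, B x y = 0 :=
        HermIso.polar_zero H B fun x hx => by rw [hB]; exact hno x hx
      have hnd : HermIso.NDS B X := fun x hx hh => by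
        by_contra hx0
        obtain ⟨⟨y, hy, hne⟩, -⟩ := hX x hx hx0
        exact hne (by rw [← hB]; exact hh y hy)
      have : 2 * finrank F Y ≤ finrank F X := HermIso.two_mul_le H (inf_le_left : Y ≤ X) h0 hnd
      omega
    · exact Or.inl h1)
  exact ⟨p, hp.1, hp.2, hpR⟩

end CfsgLib.MaxSub.WreathUnitary
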