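/-
From one pair of blocks to all centres.
-/
import Cfsg.Agent.Lib.MaxSub.WreathUnitary.Base

set_option autoImplicit false
set_option maxHeartbeats 400000
set_option linter.unusedSectionVars false

namespace CfsgLib.MaxSub.WreathUnitary

open Matrix Module Cfsg Cfsg.Geo CfsgLib.UnitaryTransvection
open CfsgLib.MaxSub (Ctr sg sg_mem G_isometry)

variable {F : Type*} [Field F] [Fintype F] {n q : ℕ} (hF : Fintype.card F = q ^ 2)

local notation "h" => Cfsg.hermForm n F q
local notation "σ" => frob hF
local notation "V" => Fin n → F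
local notation "Mn" => Matrix (Fin n) (Fin n) F
local notation "G" => Cfsg.GU n F q ⊓ specialLinear (Fin n) F

variable {t k : ℕ} {D : Fin t → Submodule F (Fin n → F)} {K : Subgroup (GL (Fin n) F)}

/-- All anisotropic pairs from two blocks are centres. -/
def GoodPair (D : Fin t → Submodule F (Fin n → F)) (K : Subgroup (GL (Fin n) F)) (j l : Fin t) :
    Prop :=
  ∀ x ∈ D j, ∀ y ∈ D l, Cfsg.hermForm n F q x x ≠ 0 →
    Cfsg.hermForm n F q y y = -Cfsg.hermForm n F q x x → Ctr hF K (x + y)

include hF in
theorem exists_other_point (U : UW q k D K) {j l : Fin t} (hjl : j ≠ l) {b : V} (hb : b ∈ D l) :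
    ∃ (i : Fin t) (p : V), i ≠ j ∧ p ∈ D i ∧ h p p ≠ 0 ∧ h b p = 0 := by
  classical
  by_cases h3 : 3 ≤ t
  · obtain ⟨i, hi⟩ : ∃ i : Fin t, i ∉ ({j, l} : Finset (Fin t)) := by
      by_contra hc
      push Not at hc
      have := Finset.card_le_card (s := (Finset.univ : Finset (Fin t))) fun x _ => hc x
      rw [Finset.card_univ, Fintype.card_fin] at this
      have := Finset.card_le_two (a := j) (b := l)
      omega
    simp only [Finset.mem_insert, Finset.mem_singleton, not_or] at hi
    obtain ⟨p, hp, hpp⟩ := exists_unit hF U i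
    exact ⟨i, p, hi.1, hp, by rw [hpp]; exact one_ne_zero, ortho U (Ne.symm hi.2) hb hp⟩
  have hk : 3 ≤ k := by
    have h1 := t_mul U
    have := U.dim
    have := U.dec.decomp.two_le
    have := U.dim6
    have : t = 2 := by omega
    subst this
    omega
  obtain ⟨p, hp, hpp⟩ := exists_aniso_le hF U (X := D l ⊓ LinearMap.ker (hl q b)) inf_le_left (by
    have h1 := LinearMap.finrank_range_add_finrank_ker (hl q b)
    have h2 := Submodule.finrank_le (LinearMap.range (hl q b))
    rw [Module.finrank_self] at h2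
    have h3 := Submodule.finrank_sup_add_finrank_inf_eq (D l) (LinearMap.ker (hl q b))
    have h4 := Submodule.finrank_le (D l ⊔ LinearMap.ker (hl q b))
    rw [U.dec.decomp.finrank_eq] at h3
    omega)
  exact ⟨l, p, hjl.symm, hp.1, hpp, h_symm0 hF hp.2⟩

/-- Changing one component to another of the same norm. -/
theorem move (U : UW q k D K) {j l : Fin t} (hjl : j ≠ l) {a a' b : V} (ha : a ∈ D j) (ha' : a' ∈ D j)
    (hb : b ∈ D l) (heq : h a' a' = h a a) (hc : h a a ≠ 0) (hS : Ctr hF K (a + b)) :
    Ctr hF K (a' + b) := by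
  obtain ⟨i, p, hij, hp, hpp, hbp⟩ := exists_other_point hF U hjl hb
  have key : ∀ u v, u ∈ D j → v ∈ D j → h u (v - u) ≠ 0 → h v v = h u u → Ctr hF K (u + b) →
      Ctr hF K (v + b) := by
    intro u v hu hv hne he hcu
    have e1 : v + b = u + b + (v - u) := by abel
    rw [e1]
    refine step hF U ((D j).sub_mem hv hu) hp ?_ ?_ hpp ?_ hcu
    · rw [h_add_left, ortho U hjl.symm hb ((D j).sub_mem hv hu), add_zero]; exact hne
    · rw [← e1, h_add_left, h_add_right hF, h_add_right hF, h_add_left, h_add_right hF, h_add_right hF,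
        he, ortho U hjl.symm hb hu, ortho U hjl.symm hb hv, ortho U hjl hu hb, ortho U hjl hv hb]
    · rw [h_add_left, ortho U (Ne.symm hij) hu hp, hbp, add_zero]
  by_cases h0 : h a (a' - a) = 0
  · obtain ⟨ω, hω1, hω⟩ := exists_omega hF
    have hne1 : h a (ω • a - a) ≠ 0 := by
      rw [h_sub_right hF, h_smul_right hF]
      intro e
      have h2 : (σ ω - 1) * h a a = 0 := by linear_combination e
      have h3 : σ ω = 1 := sub_eq_zero.1 ((mul_eq_zero.1 h2).resolve_right hc)
      exact hω1 (by simpa [frob_frob hF] using congrArg σ h3)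
    have hne2 : h (ω • a) (a' - ω • a) ≠ 0 := by
      rw [h_sub_right hF, h_smul_left, h_smul_left, h_smul_right hF]
      rw [h_sub_right hF, sub_eq_zero] at h0
      rw [h0]
      intro e
      have h2 : (ω - 1) * h a a = 0 := by linear_combination e + (h a a) * hω
      exact hω1 (sub_eq_zero.1 ((mul_eq_zero.1 h2).resolve_right hc))
    have hωn : h (ω • a) (ω • a) = h a a := by
      rw [h_smul_left, h_smul_right hF]; linear_combination (h a a) * hω
    exact key (ω • a) a' ((D j).smul_mem _ ha) ha' hne2 (by rw [hωn, heq])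
      (key a (ω • a) ha ((D j).smul_mem _ ha) hne1 hωn hS)
  · exact key a a' ha ha' h0 heq hS

/-- One anisotropic pair gives all of them. -/
theorem goodPair_of_one (U : UW q k D K) {j l : Fin t} (hjl : j ≠ l) {a b : V} (ha : a ∈ D j)
    (hb : b ∈ D l) (hc : h a a ≠ 0) (hi : h b b = -h a a) (hS : Ctr hF K (a + b)) :
    GoodPair hF D K j l := by
  intro x hx y hy hxx hyy
  obtain ⟨s, hs⟩ := exists_norm_eq hF (c := h x x / h a a) (by rw [map_div₀, fix_self hF, fix_self hF])
  rw [eq_div_iff hc] at hs
  have h1 := hS.smul s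
  rw [smul_add] at h1
  have hn1 : h (s • a) (s • a) = h x x := by
    rw [h_smul_left, h_smul_right hF]; linear_combination hs
  have hn2 : h (s • b) (s • b) = h y y := by
    rw [h_smul_left, h_smul_right hF, hi, hyy]; linear_combination -hs
  have h2 := move hF U hjl ((D j).smul_mem s ha) hx ((D l).smul_mem s hb) hn1.symm
    (by rw [hn1]; exact hxx) h1
  rw [add_comm] at h2 ⊢
  exact move hF U hjl.symm ((D l).smul_mem s hb) hy hx hn2.symm
    (by rw [hn2, hyy]; exact neg_ne_zero.2 hxx) h2

theorem GoodPair.symm {j l : Fin t} (hG : GoodPair hF D K j l) : GoodPair hF D K l j := by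
  intro x hx y hy hxx hyy
  rw [add_comm]
  exact hG y hy x hx (by rw [hyy]; exact neg_ne_zero.2 hxx) (by rw [hyy, neg_neg])

theorem goodPair_swap (U : UW q k D K) {a l p : Fin t} (hG : GoodPair hF D K a l) (hla : l ≠ a)
    (hlp : l ≠ p) (hap : a ≠ p) : GoodPair hF D K p l := by
  obtain ⟨u, huK, huG, hsur, hfix, -, -, -⟩ := exists_swap hF U hap
  intro x hx z hz hxx hzz
  obtain ⟨y, hy, rfl⟩ := hsur x hx
  have hn : h y y = h ((u : Mn) *ᵥ y) ((u : Mn) *ᵥ y) := (G_isometry huG y y).symm
  have h1 := (hG y hy z hz (by rw [hn]; exact hxx) (by rw [hn]; exact hzz)).conj huK huG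
  rwa [Matrix.mulVec_add, hfix l hla hlp z hz] at h1

/-- One pair of blocks gives all pairs. -/
theorem goodPair_all (U : UW q k D K) {a b : Fin t} (hab : a ≠ b) (hG : GoodPair hF D K a b) :
    ∀ j l, j ≠ l → GoodPair hF D K j l := by
  intro j l hjl
  obtain ⟨x, hxj, hx⟩ : ∃ x, x ≠ j ∧ GoodPair hF D K j x := by
    by_cases hja : j = a
    · subst hja; exact ⟨b, hab.symm, hG⟩
    by_cases hjb : j = b
    · subst hjb; exact ⟨a, hab, hG.symm hF⟩
    exact ⟨b, Ne.symm hjb, goodPair_swap hF U hG hab.symm (Ne.symm hjb) (Ne.symm hja)⟩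
  by_cases hxl : x = l
  · exact hxl ▸ hx
  exact (goodPair_swap hF U (hx.symm hF) hxj.symm hjl hxl).symm hF

include hF in
theorem blocks_ortho (U : UW q k D K) {J J' : Finset (Fin t)} (hd : ∀ i ∈ J, i ∉ J') {x y : V}
    (hx : x ∈ blocks D J) (hy : y ∈ blocks D J') : h x y = 0 := by
  classical
  obtain ⟨a, ha, ha0, rfl⟩ := mem_blocks U hx
  obtain ⟨b, hb, hb0, rfl⟩ := mem_blocks U hy
  rw [sum_sum hF U ha hb]
  refine Finset.sum_eq_zero fun i _ => ?_
  by_cases hi : i ∈ J
  · rw [hb0 i (hd i hi), h_zero_right hF]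
  · rw [ha0 i hi, h_zero_left]

open Classical in
/-- The non-zero components. -/
noncomputable def supp (c : Fin t → (Fin n → F)) : Finset (Fin t) :=
  Finset.univ.filter fun i => c i ≠ 0

theorem mem_supp {c : Fin t → V} {i : Fin t} : i ∈ supp c ↔ c i ≠ 0 := by classical simp [supp]

theorem sum_eq_sum_supp (c : Fin t → V) : ∑ i, c i = ∑ i ∈ supp c, c i :=
  (Finset.sum_subset (Finset.subset_univ _) fun i _ hi => not_not.1 fun e => hi (mem_supp.2 e)).symm

/-- Isotropic vectors of small support suffice. -/
theorem ctr_all (U : UW q k D K) (N r : ℕ) (hr : 1 ≤ r) (hrN : r + 1 ≤ N)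
    (hdim : ∀ J : Finset (Fin t), J.card = r →
      2 ≤ finrank F (blocks D J) ∧ (3 ≤ q ∨ 3 ≤ finrank F (blocks D J)))
    (hbase : ∀ c, Decomp.Fam D c → h (∑ i, c i) (∑ i, c i) = 0 → (supp c).card ≤ N →
      Ctr hF K (∑ i, c i)) : ∀ v, h v v = 0 → Ctr hF K v := by
  classical
  suffices key : ∀ s c, Decomp.Fam D c → (supp c).card = s → h (∑ i, c i) (∑ i, c i) = 0 →
      Ctr hF K (∑ i, c i) by
    intro v hv
    obtain ⟨c, hc, rfl⟩ := Decomp.exists_comp U.dec.decomp v
    exact key _ c hc rfl hv
  intro s
  induction s using Nat.strong_induction_on with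
  | _ s IH =>
    intro c hc hs hiso
    by_cases hsN : s ≤ N
    · exact hbase c hc hiso (hs ▸ hsN)
    obtain ⟨i, hi⟩ := Finset.card_pos.1 (show 0 < (supp c).card by omega)
    obtain ⟨J, hJs, hJc⟩ := Finset.exists_subset_card_eq (s := (supp c).erase i) (n := r)
      (by rw [Finset.card_erase_of_mem hi]; omega)
    have hiJ : i ∉ J := fun e => Finset.notMem_erase i _ (hJs e)
    have hJS : J ⊆ supp c := hJs.trans (Finset.erase_subset _ _)
    set R' := (supp c).filter fun l => l ∉ insert i J with hR'
    set C := ∑ l ∈ J, c l with hC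
    set R := ∑ l ∈ R', c l with hR
    have hsum : ∑ l, c l = R + c i + C := by
      rw [sum_eq_sum_supp, ← Finset.sum_filter_add_sum_filter_not (supp c) (fun l => l ∉ insert i J),
        add_assoc]
      congr 1
      rw [show ((supp c).filter fun l => ¬ l ∉ insert i J) = insert i J by
        ext l
        simp only [Finset.mem_filter, not_not, Finset.mem_insert]
        exact ⟨fun e => e.2, fun e => ⟨e.elim (fun e => e ▸ hi) (fun e => hJS e), e⟩⟩,
        Finset.sum_insert hiJ]
    have hCX : C ∈ blocks D J := sum_mem_blocks hc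
    have hC0 : C ≠ 0 := by
      intro e
      obtain ⟨l, hl⟩ := Finset.card_pos.1 (show 0 < J.card by omega)
      refine (mem_supp.1 (hJS hl)) ?_
      have := Decomp.comp_zero U.dec.decomp (c := fun l => if l ∈ J then c l else 0) (fun l => by
        dsimp only; split_ifs; exacts [hc l, zero_mem _]) (by rw [Finset.sum_ite_mem, Finset.univ_inter]; exact e) l
      simpa [hl] using this
    have hRo : ∀ y ∈ blocks D (insert i J), h R y = 0 := fun y hy =>
      blocks_ortho hF U (fun l hl => (Finset.mem_filter.1 hl).2) (sum_mem_blocks hc) hy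
    have hio : ∀ y ∈ blocks D J, h (c i) y = 0 := fun y hy =>
      blocks_ortho hF U (J := {i}) (by simpa using hiJ) (le_blocks (Finset.mem_singleton_self i) (hc i)) hy
    have hCb : C ∈ blocks D (insert i J) := by
      exact Submodule.sum_mem _ fun l hl => le_blocks (Finset.mem_insert_of_mem hl) (hc l)
    have hib : c i ∈ blocks D (insert i J) := le_blocks (Finset.mem_insert_self i J) (hc i)
    have hN : h R R + h (c i) (c i) + h C C = 0 := by
      rw [hsum] at hiso
      simp only [h_add_left, h_add_right hF, hRo _ hib, hRo _ hCb, hio _ hCX, h_symm0 hF (hRo _ hib),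
        h_symm0 hF (hRo _ hCb), h_symm0 hF (hio _ hCX)] at hiso
      linear_combination hiso
    set M := h (c i) (c i) + h C C with hM
    obtain ⟨ζ, hζ, hζ0, hok⟩ : ∃ ζ : F, Skew hF ζ ∧ ζ ≠ 0 ∧
        (M + ζ ≠ 0 ∨ 3 ≤ finrank F (blocks D J)) := by
      obtain ⟨ζ, hζ0, hζ⟩ := exists_skew hF
      rcases (hdim J hJc).2 with hq | h3
      · by_cases hz : M + ζ = 0
        · obtain ⟨z, hz1, hz2, hz3⟩ := exists_skew_ne hF hq hζ hζ0
          exact ⟨z, hz1, hz2, Or.inl fun e => hz3 (by linear_combination e - hz)⟩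
        · exact ⟨ζ, hζ, hζ0, Or.inl hz⟩
      · exact ⟨ζ, hζ, hζ0, Or.inr h3⟩
    have hMf : σ M = M := by rw [hM, map_add, fix_self hF, fix_self hF]
    obtain ⟨a, haX, hac, haa⟩ := solve hF (blocks_nd hF U J) (hdim J hJc).1 hCX hC0 (z := M + ζ)
      (R := M) hMf (by rcases hok with h1 | h1; exacts [Or.inr (Or.inl h1), Or.inr (Or.inr (Or.inl h1))])
    obtain ⟨a', ha', ha'0, hsa⟩ := mem_blocks U haX
    have hab : a ∈ blocks D (insert i J) := by
      rw [← hsa, ← Finset.sum_subset (Finset.subset_univ J) fun l _ hl => ha'0 l hl]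
      exact Submodule.sum_mem _ fun l hl => le_blocks (Finset.mem_insert_of_mem hl) (ha' l)
    have hCa : h C a = σ (M + ζ) := by rw [← hac, h_swap hF]
    -- the two summands
    set w : Fin t → V := fun l => if l ∈ J then a' l else if l ∈ R' then c l else 0 with hw
    set u : Fin t → V := fun l => if l ∈ J then c l - a' l else if l = i then c i else 0 with hu
    have hwF : Decomp.Fam D w := fun l => by
      simp only [hw]; split_ifs; exacts [ha' l, hc l, zero_mem _]
    have huF : Decomp.Fam D u := fun l => by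
      simp only [hu]; split_ifs with h1 h2
      exacts [(D l).sub_mem (hc l) (ha' l), h2 ▸ hc l, zero_mem _]
    have hws : ∑ l, w l = R + a := by
      have e : ∀ l, w l = (if l ∈ R' then c l else 0) + a' l := fun l => by
        simp only [hw]
        split_ifs with h1 h2 h3
        · exact absurd h1 fun e => (Finset.mem_filter.1 h2).2 (Finset.mem_insert_of_mem e)
        · rw [zero_add]
        · rw [ha'0 l h1, add_zero]
        · rw [ha'0 l h1, add_zero]
      rw [Finset.sum_congr rfl fun l _ => e l, Finset.sum_add_distrib, hsa, Finset.sum_ite_mem,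
        Finset.univ_inter]
    have hus : ∑ l, u l = c i + (C - a) := by
      have e : ∀ l, u l = (if l = i then c i else 0) + ((if l ∈ J then c l else 0) - a' l) := fun l => by
        simp only [hu]
        split_ifs with h1 h2 h3
        · exact absurd (h2 ▸ h1) hiJ
        · rw [zero_add]
        · rw [ha'0 l h1, sub_zero, add_zero]
        · rw [ha'0 l h1, sub_zero, add_zero]
      rw [Finset.sum_congr rfl fun l _ => e l, Finset.sum_add_distrib, Finset.sum_sub_distrib, hsa,
        Finset.sum_ite_mem, Finset.univ_inter, Finset.sum_ite_eq', if_pos (Finset.mem_univ i)]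
    have hww : h (R + a) (R + a) = 0 := by
      simp only [h_add_left, h_add_right hF, hRo a hab, h_symm0 hF (hRo a hab), haa]
      linear_combination hN + hM
    have hia := hio a haX
    have hiC := hio C hCX
    have huu : h (c i + (C - a)) (c i + (C - a)) = 0 := by
      unfold Skew at hζ
      simp only [h_add_left, h_add_right hF, h_sub_left, h_sub_right hF, hia, hiC, h_symm0 hF hia,
        h_symm0 hF hiC, haa, hac, hCa, map_add, hMf]
      linear_combination -hM - hζ
    have hwu : h (R + a) (c i + (C - a)) = ζ := by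
      simp only [h_add_left, h_add_right hF, h_sub_right hF, hRo _ hib, hRo _ hCb, hRo a hab,
        h_symm0 hF hia, haa, hac]
      ring
    have hv : R + a + (c i + (C - a)) = ∑ l, c l := by rw [hsum]; abel
    rw [← hv]
    refine join hF U ?_ ?_ hww huu (by rw [hv]; exact hiso) (by rw [hwu]; exact hζ0)
    · rw [← hws]
      refine IH _ ?_ w hwF rfl (by rw [hws]; exact hww)
      rw [← hs]
      refine Finset.card_lt_card ((Finset.ssubset_iff_of_subset fun l hl => ?_).2 ⟨i, hi, fun e => ?_⟩)
      · by_contra hlS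
        refine mem_supp.1 hl ?_
        simp only [hw]
        rw [if_neg (fun e => hlS (hJS e)), if_neg (fun e => hlS (Finset.mem_filter.1 e).1)]
      · refine mem_supp.1 e ?_
        simp only [hw]
        rw [if_neg hiJ, if_neg (show i ∉ R' from fun e => (Finset.mem_filter.1 e).2 (Finset.mem_insert_self i J))]
    · rw [← hus]
      refine IH _ ?_ u huF rfl (by rw [hus]; exact huu)
      have h1 : supp u ⊆ insert i J := fun l hl => by
        by_contra hlS
        refine mem_supp.1 hl ?_
        simp only [Finset.mem_insert, not_or] at hlS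
        simp only [hu]
        rw [if_neg hlS.2, if_neg hlS.1]
      have h2 := Finset.card_le_card h1
      have h3 := Finset.card_insert_le i J
      omega

end CfsgLib.MaxSub.WreathUnitary
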