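/-
Monomial elements of `SU_n` as the stabiliser of the coordinate lines.
-/
import Cfsg.Agent.Lib.MaxSub.WreathUnitary.Base
import Cfsg.Agent.Lib.MaxSub.Monomial.Main

set_option autoImplicit false
set_option maxHeartbeats 400000
set_option linter.unusedSectionVars false

namespace CfsgLib.MaxSub.WreathUnitary

open Matrix Module Cfsg Cfsg.Geo CfsgLib.UnitaryTransvection
open CfsgLib.MaxSub (Ctr sg sg_mem G_isometry)
open CfsgLib.MaxSub.Monomial (Mono monM monM_apply monM_mulVec mono_monM det_monM)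

variable {F : Type*} [Field F] [Fintype F] {n q : ℕ} (hF : Fintype.card F = q ^ 2)

local notation "h" => Cfsg.hermForm n F q
local notation "σ" => frob hF
local notation "V" => Fin n → F
local notation "Mn" => Matrix (Fin n) (Fin n) F
local notation "G" => Cfsg.GU n F q ⊓ specialLinear (Fin n) F

/-- The coordinate lines. -/
def stdD (n : ℕ) (F : Type*) [Field F] : Fin n → Submodule F (Fin n → F) := fun i =>
  Submodule.span F {Pi.single i 1}

theorem mem_stdD {i : Fin n} {x : V} : x ∈ stdD n F i ↔ ∀ z, z ≠ i → x z = 0 := by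
  refine ⟨fun hx z hz => ?_, fun hx => Submodule.mem_span_singleton.2 ⟨x i, funext fun z => ?_⟩⟩
  · obtain ⟨a, rfl⟩ := Submodule.mem_span_singleton.1 hx
    simp [hz]
  · by_cases hz : z = i
    · subst hz; simp
    · simp [hz, hx z hz]

theorem single_mem_stdD (i : Fin n) (a : F) : (Pi.single i a : V) ∈ stdD n F i :=
  mem_stdD.2 fun z hz => Pi.single_eq_of_ne hz _

theorem eq_single {i : Fin n} {x : V} (hx : x ∈ stdD n F i) : x = Pi.single i (x i) :=
  funext fun z => by
    by_cases hz : z = i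
    · subst hz; simp
    · rw [mem_stdD.1 hx z hz, Pi.single_eq_of_ne hz]

include hF in
theorem h_single_right (x : V) (i : Fin n) : h x (Pi.single i 1) = x i := by
  simpa using UnitaryOrder.herm_single_right hF x i

include hF in
theorem h_single_left (x : V) (i : Fin n) : h (Pi.single i 1) x = σ (x i) := by
  rw [← h_swap hF, h_single_right hF]

variable {K : Subgroup (GL (Fin n) F)}

theorem mono_of_stab {g : GL (Fin n) F} (hg : g ∈ decompositionStabilizer (stdD n F)) :
    Mono (g : Mn) := by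
  obtain ⟨π, hπ⟩ := hg
  intro j
  refine ⟨π j, fun z hz => ?_⟩
  have h1 : Matrix.toLin' (g : Mn) (Pi.single j 1) ∈ stdD n F (π j) :=
    hπ j ▸ Submodule.mem_map_of_mem (single_mem_stdD j 1)
  rw [Matrix.toLin'_apply, Matrix.mulVec_single_one] at h1
  exact mem_stdD.1 h1 z hz

theorem maps_of_mono {A : Mn} (hA : Mono A) (j : Fin n) :
    ∃ i, ∀ x ∈ stdD n F j, A *ᵥ x ∈ stdD n F i := by
  obtain ⟨i, hi⟩ := hA j
  refine ⟨i, fun x hx => mem_stdD.2 fun z hz => ?_⟩
  rw [eq_single hx, Matrix.mulVec_single]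
  simp [hi z hz]

theorem mem_of_mono (U : UW q 1 (stdD n F) K) {g : GL (Fin n) F} (hg : g ∈ G)
    (hm : Mono (g : Mn)) : g ∈ K :=
  mem_of_maps U hg fun j => maps_of_mono hm j

include hF in
/-- Entries of the inverse. -/
theorem inv_apply {g : GL (Fin n) F} (hg : g ∈ G) (i j : Fin n) :
    ((g⁻¹ : GL (Fin n) F) : Mn) i j = σ ((g : Mn) j i) := by
  have e := G_isometry hg (((g⁻¹ : GL (Fin n) F) : Mn) *ᵥ Pi.single j 1) (Pi.single i 1)
  rw [Matrix.mulVec_mulVec, Units.mul_inv, Matrix.one_mulVec, h_single_left hF, h_single_right hF,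
    Matrix.mulVec_single_one, Matrix.mulVec_single_one] at e
  simpa [Matrix.col_apply] using e.symm

include hF in
theorem col_h {g : GL (Fin n) F} (hg : g ∈ G) (i j : Fin n) :
    h ((g : Mn).col i) ((g : Mn).col j) = if i = j then 1 else 0 := by
  rw [← Matrix.mulVec_single_one, ← Matrix.mulVec_single_one, G_isometry hg, h_single_right hF,
    Pi.single_apply]
  exact ite_congr (propext eq_comm) (fun _ => rfl) (fun _ => rfl)

/-- A monomial element with norm-one entries and determinant one. -/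
theorem exists_monM_mem (U : UW q 1 (stdD n F) K) (π : Equiv.Perm (Fin n)) (d : V)
    (hd : ∀ z, d z * σ (d z) = 1) (hdet : ((Equiv.Perm.sign π : ℤ) : F) * ∏ z, d z = 1) :
    ∃ u : GL (Fin n) F, u ∈ K ∧ u ∈ G ∧ (u : Mn) = monM π d := by
  have hM : (monM π d).det = 1 := by rw [det_monM]; exact hdet
  have hiso : ∀ u v, h (monM π d *ᵥ u) (monM π d *ᵥ v) = h u v := by
    intro u v
    show ∑ z, (monM π d *ᵥ u) z * (monM π d *ᵥ v) z ^ q = ∑ z, u z * v z ^ q
    rw [← Equiv.sum_comp π fun z => (monM π d *ᵥ u) z * (monM π d *ᵥ v) z ^ q]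
    refine Finset.sum_congr rfl fun z _ => ?_
    rw [monM_mulVec, monM_mulVec, Equiv.symm_apply_apply, mul_pow, ← frob_apply hF (d z)]
    linear_combination (u z * v z ^ q) * hd z
  exact ⟨sg _ hM, mem_of_mono U (sg_mem hiso hM) (mono_monM π d), sg_mem hiso hM, rfl⟩

theorem exists_diag_mem (U : UW q 1 (stdD n F) K) (d : V) (hd : ∀ z, d z * σ (d z) = 1)
    (hdet : ∏ z, d z = 1) : ∃ u : GL (Fin n) F, u ∈ K ∧ u ∈ G ∧ (u : Mn) = Matrix.diagonal d := by
  obtain ⟨u, h1, h2, h3⟩ := exists_monM_mem hF U 1 d hd (by simp [hdet])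
  exact ⟨u, h1, h2, h3.trans (Monomial.monM_one d)⟩

/-- Only monomial elements map a coordinate line to one. -/
def Fail (K : Subgroup (GL (Fin n) F)) : Prop :=
  ∀ A ∈ K, ∀ p j, (∀ i, i ≠ j → (A : Matrix (Fin n) (Fin n) F) i p = 0) →
    Mono (A : Matrix (Fin n) (Fin n) F)

end CfsgLib.MaxSub.WreathUnitary
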