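/-
All centres for the coordinate decomposition over the field of four elements.
-/
import Cfsg.Agent.Lib.MaxSub.WreathUnitary.MonoBasic
import Cfsg.Agent.Lib.MaxSub.WreathUnitary.General

set_option autoImplicit false
set_option maxHeartbeats 400000
set_option linter.unusedSectionVars false

namespace CfsgLib.MaxSub.WreathUnitary

open Matrix Module Cfsg Cfsg.Geo CfsgLib.UnitaryTransvection
open CfsgLib.MaxSub (Ctr sg sg_mem G_isometry)
open CfsgLib.MaxSub.Monomial (Mono monM monM_mulVec)

variable {F : Type*} [Field F] [Fintype F] {n q : ℕ} (hF : Fintype.card F = q ^ 2)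

local notation "h" => Cfsg.hermForm n F q
local notation "σ" => frob hF
local notation "V" => Fin n → F
local notation "Mn" => Matrix (Fin n) (Fin n) F
local notation "G" => Cfsg.GU n F q ⊓ specialLinear (Fin n) F

variable {K : Subgroup (GL (Fin n) F)}

open Classical in
/-- The non-zero coordinates. -/
noncomputable def vs (v : Fin n → F) : Finset (Fin n) := Finset.univ.filter fun z => v z ≠ 0

theorem mem_vs {v : V} {z : Fin n} : z ∈ vs v ↔ v z ≠ 0 := by classical simp [vs]

include hF in
theorem two_eq_zero' (hq : q = 2) : (2 : F) = 0 := by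
  have h1 := FiniteField.cast_card_eq_zero F
  rw [hF, hq] at h1
  norm_num at h1
  exact mul_self_eq_zero.1 (show (2 : F) * 2 = 0 by linear_combination h1)

theorem norm_eq_one (hq : q = 2) {a : F} (ha : a ≠ 0) : a * σ a = 1 := by
  rw [frob_apply, hq]
  have h1 := FiniteField.pow_card_sub_one_eq_one a ha
  rw [hF, hq] at h1
  rw [← h1]; ring

include hF in
theorem h_self_card (hq : q = 2) (v : V) : h v v = ((vs v).card : F) := by
  classical
  change ∑ z, v z * v z ^ q = _
  rw [show vs v = Finset.univ.filter fun z => v z ≠ 0 by ext; simp [mem_vs], Finset.natCast_card_filter]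
  refine Finset.sum_congr rfl fun z _ => ?_
  by_cases hz : v z = 0
  · simp [hz, hq]
  · rw [if_pos hz, ← frob_apply hF, norm_eq_one hF hq hz]

include hF in
theorem even_vs (hq : q = 2) {v : V} (hv : h v v = 0) : Even (vs v).card := by
  rcases Nat.even_or_odd (vs v).card with h1 | ⟨m, hm⟩
  · exact h1
  rw [h_self_card hF hq, hm, Nat.cast_add, Nat.cast_mul, Nat.cast_ofNat, two_eq_zero' hF hq] at hv
  simp at hv

include hF in
theorem odd_vs (hq : q = 2) {v : V} (hv : h v v = 1) : Odd (vs v).card := by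
  rcases Nat.even_or_odd (vs v).card with ⟨m, hm⟩ | h1
  swap
  · exact h1
  rw [h_self_card hF hq, hm, ← two_mul, Nat.cast_mul, Nat.cast_ofNat, two_eq_zero' hF hq] at hv
  simp at hv

include hF in
theorem iso_of_even (hq : q = 2) {v : V} (hv : Even (vs v).card) : h v v = 0 := by
  obtain ⟨m, hm⟩ := hv
  rw [h_self_card hF hq, hm, ← two_mul, Nat.cast_mul, Nat.cast_ofNat, two_eq_zero' hF hq, zero_mul]

/-- Isotropic vectors with two coordinates are centres. -/
theorem ctr_two' (U : UW q 1 (stdD n F) K) (hq : q = 2) {v : V} (hv : (vs v).card = 2) :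
    Ctr hF K v := by
  classical
  intro g c hc hg
  have hvv : h v v = 0 := iso_of_even hF hq (by rw [hv]; norm_num)
  have h2 := two_eq_zero' hF hq
  refine mem_of_mono U ⟨fun a b => by
      show h ((g : Mn) *ᵥ a) ((g : Mn) *ᵥ b) = h a b
      rw [hg]
      exact tmat_isometry hF (show Good hF v c by rw [Good, hvv, mul_zero, add_zero, hc]) a b,
    Units.ext (by
      show (g : Mn).det = 1
      rw [hg, det_tmat, hvv, mul_zero, add_zero])⟩ ?_
  obtain ⟨a, b, hab, hS⟩ := Finset.card_eq_two.1 hv
  have hout : ∀ z, z ≠ a → z ≠ b → v z = 0 := fun z h1 h3 => by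
    by_contra hz
    have := mem_vs.2 hz
    rw [hS] at this
    simp [h1, h3] at this
  have hent : ∀ z j, (g : Mn) z j = (if z = j then 1 else 0) + c * σ (v j) * v z := fun z j => by
    have := congrFun (tmat_mulVec (q := q) (z := v) (c := c) (x := (Pi.single j 1 : V))) z
    rw [← hg, Matrix.mulVec_single_one, h_single_left hF] at this
    simpa [Matrix.col_apply, Pi.single_apply] using this
  intro j
  have hc01 : c = 0 ∨ c = 1 := by
    rw [frob_apply, hq] at hc
    have : c * (c - 1) = 0 := by linear_combination hc - c * h2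
    rcases mul_eq_zero.1 this with h1 | h1
    exacts [Or.inl h1, Or.inr (sub_eq_zero.1 h1)]
  rcases hc01 with rfl | rfl
  · exact ⟨j, fun z hz => by rw [hent, if_neg hz]; simp⟩
  have hja : ∀ i i', (∀ z, z ≠ i → z ≠ i' → v z = 0) → v i ≠ 0 → j = i →
      ∀ z, z ≠ i' → (g : Mn) z j = 0 := fun i i' ho hi hji z hz => by
    subst hji
    rw [hent]
    by_cases hzi : z = j
    · subst hzi; rw [if_pos rfl, one_mul, mul_comm, norm_eq_one hF hq hi]; linear_combination h2
    · rw [if_neg hzi, ho z hzi hz]; ring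
  by_cases hj : v j = 0
  · exact ⟨j, fun z hz => by rw [hent, if_neg hz, hj]; simp⟩
  by_cases hja' : j = a
  · exact ⟨b, hja a b hout (hja' ▸ hj) hja'⟩
  by_cases hjb : j = b
  · exact ⟨a, hja b a (fun z h1 h3 => hout z h3 h1) (hjb ▸ hj) hjb⟩
  exact absurd (hout j hja' hjb) hj

/-- A centre with at least four coordinates. -/
theorem exists_ctr_wide (U : UW q 1 (stdD n F) K) (hn : 7 ≤ n) (hq : q = 2) {g : GL (Fin n) F} (hg : g ∈ K)
    (hm : ¬ Mono (g : Mn)) : ∃ v, h v v = 0 ∧ Ctr hF K v ∧ 4 ≤ (vs v).card := by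
  classical
  have hgG := U.le hg
  by_contra hno
  push Not at hno
  set L := (Finset.univ : Finset F).erase 0 with hLdef
  have hL : L.card = 3 := by
    rw [hLdef, Finset.card_erase_of_mem (Finset.mem_univ _), Finset.card_univ, hF, hq]; norm_num
  have hcol : ∀ i, (vs ((g : Mn).col i)).card % 2 = 1 := fun i =>
    Nat.odd_iff.1 (odd_vs hF hq (by rw [col_h hF hgG, if_pos rfl]))
  have htwo : ∀ i j, i ≠ j → ∀ l ∈ L, (vs ((g : Mn).col i + l • (g : Mn).col j)).card = 2 := by
    intro i j hij l hl
    have hl0 : l ≠ 0 := Finset.ne_of_mem_erase hl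
    set v : V := Pi.single i 1 + l • Pi.single j 1 with hv
    have hS : vs v = {i, j} := by
      ext z
      simp only [mem_vs, hv, Pi.add_apply, Pi.smul_apply, smul_eq_mul, Pi.single_apply, Finset.mem_insert,
        Finset.mem_singleton]
      by_cases hzi : z = i
      · simp [hzi, hij]
      by_cases hzj : z = j
      · simp [hzj, Ne.symm hij, hl0]
      · simp [hzi, hzj]
    have hc : (vs v).card = 2 := by rw [hS, Finset.card_pair hij]
    have h1 := (ctr_two' hF U hq hc).conj hg hgG
    have h3 : h ((g : Mn) *ᵥ v) ((g : Mn) *ᵥ v) = 0 := by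
      rw [G_isometry hgG]; exact iso_of_even hF hq (by rw [hc]; norm_num)
    have hlt := hno _ h3 h1
    obtain ⟨m, hm⟩ := even_vs hF hq h3
    have hpos : (vs ((g : Mn) *ᵥ v)).card ≠ 0 := fun e => by
      have h4 : (g : Mn) *ᵥ v = 0 := funext fun z => by
        by_contra hz
        have := mem_vs.2 hz
        rw [Finset.card_eq_zero.1 e] at this
        simp at this
      have h5 : v = 0 := by
        have := congrArg (fun u => ((g⁻¹ : GL (Fin n) F) : Mn) *ᵥ u) h4
        simpa [Matrix.mulVec_mulVec] using this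
      rw [h5] at hc
      simp [vs] at hc
    have heq : (g : Mn) *ᵥ v = (g : Mn).col i + l • (g : Mn).col j := by
      rw [hv, Matrix.mulVec_add, Matrix.mulVec_smul, Matrix.mulVec_single_one, Matrix.mulVec_single_one]
    rw [← heq]
    omega
  obtain ⟨i, hi⟩ : ∃ i, (vs ((g : Mn).col i)).card ≠ 1 := by
    by_contra hc
    push Not at hc
    refine hm fun i => ?_
    obtain ⟨z, hz⟩ := Finset.card_eq_one.1 (hc i)
    exact ⟨z, fun z' hz' => by
      by_contra e
      have := (mem_vs (v := (g : Mn).col i)).2 e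
      rw [hz, Finset.mem_singleton] at this
      exact hz' this⟩
  set A := vs ((g : Mn).col i)
  have key : ∀ j, i ≠ j → A.card = 3 ∧ vs ((g : Mn).col j) = A := by
    intro j hij
    set B := vs ((g : Mn).col j) with hB
    have hcount : ∀ z, (L.filter fun l => ((g : Mn).col i + l • (g : Mn).col j) z ≠ 0).card +
        4 * (if z ∈ A ∩ B then 1 else 0) = 3 * (if z ∈ A then 1 else 0) + 3 * (if z ∈ B then 1 else 0) := by
      intro z
      simp only [Finset.mem_inter, A, B, mem_vs, Pi.add_apply, Pi.smul_apply, smul_eq_mul]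
      set x := (g : Mn).col i z
      set y := (g : Mn).col j z
      by_cases hy : y = 0
      · by_cases hx : x = 0
        · simp [hx, hy]
        · simp [hx, hy, hL]
      by_cases hx : x = 0
      · rw [Finset.filter_true_of_mem fun l hl => by
          rw [hx, zero_add]; exact mul_ne_zero (Finset.ne_of_mem_erase hl) hy]
        simp [hx, hy, hL]
      · have : L.filter (fun l => x + l * y ≠ 0) = L.erase (-x / y) := by
          ext l
          simp only [Finset.mem_filter, Finset.mem_erase]
          refine ⟨fun hl => ⟨fun e => hl.2 (by rw [e, div_mul_cancel₀ _ hy, add_neg_cancel]), hl.1⟩,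
            fun hl => ⟨hl.2, fun e => hl.1 (by rw [eq_div_iff hy]; linear_combination e)⟩⟩
        rw [this, Finset.card_erase_of_mem (Finset.mem_erase.2
          ⟨div_ne_zero (neg_ne_zero.2 hx) hy, Finset.mem_univ _⟩), hL]
        simp [hx, hy]
    have hsum := Finset.sum_congr rfl (s₁ := (Finset.univ : Finset (Fin n))) fun z _ => hcount z
    simp only [Finset.sum_add_distrib, ← Finset.mul_sum] at hsum
    have hdc : ∑ z, (L.filter fun l => ((g : Mn).col i + l • (g : Mn).col j) z ≠ 0).card = 6 := by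
      simp only [Finset.card_filter]
      rw [Finset.sum_comm, Finset.sum_congr rfl fun l hl => show
        (∑ z, if ((g : Mn).col i + l • (g : Mn).col j) z ≠ 0 then 1 else 0) = 2 by
          rw [← htwo i j hij l hl, ← Finset.card_filter]
          exact congrArg Finset.card (by ext z; rw [mem_vs]; exact ⟨fun e => (Finset.mem_filter.1 e).2, fun e => Finset.mem_filter.2 ⟨Finset.mem_univ _, e⟩⟩), Finset.sum_const, hL]
      rfl
    rw [hdc] at hsum
    simp only [Finset.sum_ite_mem, Finset.univ_inter, Finset.sum_const, smul_eq_mul, mul_one] at hsum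
    have hi1 : (A ∩ B).card ≤ A.card := Finset.card_le_card Finset.inter_subset_left
    have hi2 : (A ∩ B).card ≤ B.card := Finset.card_le_card Finset.inter_subset_right
    have ha : A.card % 2 = 1 := hcol i
    have hb : B.card % 2 = 1 := hcol j
    obtain ⟨h1, h2, h3⟩ : A.card = 3 ∧ B.card = 3 ∧ (A ∩ B).card = 3 := by omega
    exact ⟨h1, (Finset.eq_of_subset_of_card_le Finset.inter_subset_right (by omega)).symm.trans
      (Finset.eq_of_subset_of_card_le Finset.inter_subset_left (by omega))⟩
  obtain ⟨j, hj⟩ := Monomial.exists_fresh ({i} : Finset (Fin n)) (by rw [Finset.card_singleton]; omega)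
  obtain ⟨z, hz⟩ := Monomial.exists_fresh A (by rw [(key j (fun e => hj (by simp [e]))).1]; omega)
  have hrow : ∀ l, (g : Mn) z l = 0 := fun l => by
    by_contra e
    have h1 := (mem_vs (v := (g : Mn).col l)).2 e
    by_cases hil : i = l
    · exact hz (by rw [← hil] at h1; exact h1)
    · exact hz (by rw [(key l hil).2] at h1; exact h1)
  have := congrFun (congrFun (Units.mul_inv g) z) z
  rw [Matrix.mul_apply, Finset.sum_eq_zero fun l _ => by rw [hrow, zero_mul], Matrix.one_apply_eq] at this
  exact zero_ne_one this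

/-- Adding a diagonal image. -/
theorem phase (U : UW q 1 (stdD n F) K) (hq : q = 2) {v : V} (hv : Ctr hF K v) (hvv : h v v = 0)
    {ω : F} (hω : ω * σ ω = 1) (hω1 : ω ≠ 1) (P Q : Finset (Fin n)) (hPQ : Disjoint P Q)
    (hprod : ω ^ (P.card + 2 * Q.card) = 1)
    (hsum : ((vs v ∩ P).card : F) * (ω + 1) + ((vs v ∩ Q).card : F) * (ω ^ 2 + 1) = 1) :
    ∃ w, h w w = 0 ∧ Ctr hF K w ∧ vs w = vs v ∩ (P ∪ Q) := by
  classical
  have h2 := two_eq_zero' hF hq
  set d : V := fun z => if z ∈ P then ω else if z ∈ Q then ω ^ 2 else 1 with hd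
  have hd' : ∀ z, d z * σ (d z) = 1 := fun z => by
    simp only [d]
    split_ifs
    exacts [hω, circ_pow hF hω 2, by simp]
  have hdp : ∏ z, d z = 1 := by
    have e : ∀ z, d z = (if z ∈ P then ω else 1) * (if z ∈ Q then ω ^ 2 else 1) := fun z => by
      simp only [d]
      split_ifs with h1 h3
      · exact absurd h3 (Finset.disjoint_left.1 hPQ h1)
      all_goals simp
    rw [Finset.prod_congr rfl fun z _ => e z, Finset.prod_mul_distrib, Finset.prod_ite_mem,
      Finset.univ_inter, Finset.prod_ite_mem, Finset.univ_inter, Finset.prod_const, Finset.prod_const,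
      ← pow_mul, ← pow_add, hprod]
  obtain ⟨u, huK, huG, hu⟩ := exists_diag_mem hF U d hd' hdp
  set x := (u : Mn) *ᵥ v with hx
  have hxz : ∀ z, x z = d z * v z := fun z => by rw [hx, hu, Matrix.mulVec_diagonal]
  have hxv : h x v = 1 := by
    have e : ∀ z, x z * v z ^ q = (if z ∈ vs v then 1 else 0) + ((if z ∈ vs v ∩ P then ω + 1 else 0) +
        if z ∈ vs v ∩ Q then ω ^ 2 + 1 else 0) := fun z => by
      rw [hxz, mul_assoc, ← frob_apply hF]
      simp only [Finset.mem_inter, mem_vs, d]
      by_cases hz : v z = 0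
      · simp [hz]
      rw [norm_eq_one hF hq hz]
      by_cases hP : z ∈ P
      · have hQ : z ∉ Q := Finset.disjoint_left.1 hPQ hP
        simp [hz, hP, hQ]
        linear_combination -h2
      by_cases hQ : z ∈ Q
      · simp [hz, hP, hQ]
        linear_combination -h2
      · simp [hz, hP, hQ]
    change ∑ z, x z * v z ^ q = 1
    rw [Finset.sum_congr rfl fun z _ => e z]
    simp only [Finset.sum_add_distrib, Finset.sum_ite_mem, Finset.univ_inter, Finset.sum_const,
      nsmul_eq_mul, mul_one]
    rw [← h_self_card hF hq v, hvv, zero_add]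
    linear_combination hsum
  have hxx : h x x = 0 := by rw [hx, G_isometry huG, hvv]
  have hiso : h (x + v) (x + v) = 0 := by
    rw [h_add_left, h_add_right hF, h_add_right hF, hxx, hvv, hxv, ← h_swap hF x, hxv, map_one]
    linear_combination h2
  refine ⟨x + v, hiso, join hF U (hv.conj huK huG) hv hxx hvv hiso (by rw [hxv]; exact one_ne_zero), ?_⟩
  ext z
  rw [mem_vs, Pi.add_apply, hxz, show d z * v z + v z = (d z + 1) * v z by ring, mul_ne_zero_iff,
    Finset.mem_inter, mem_vs, Finset.mem_union]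
  simp only [d]
  by_cases hP : z ∈ P
  · rw [if_pos hP]
    exact ⟨fun e => ⟨e.2, Or.inl hP⟩, fun e => ⟨fun e0 => hω1 (by linear_combination e0 - h2), e.1⟩⟩
  rw [if_neg hP]
  by_cases hQ : z ∈ Q
  · rw [if_pos hQ]
    refine ⟨fun e => ⟨e.2, Or.inr hQ⟩, fun e => ⟨fun e0 => hω1 ?_, e.1⟩⟩
    have h3 : ω ^ 3 = 1 := by rw [frob_apply, hq] at hω; linear_combination hω
    linear_combination -h3 + ω * e0 - h2
  rw [if_neg hQ]
  exact ⟨fun e => absurd (show (1 : F) + 1 = 0 by linear_combination h2) e.1,
    fun e => e.2.elim (absurd · hP) (absurd · hQ)⟩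

/-- A centre with exactly four coordinates. -/
theorem exists_ctr_four (U : UW q 1 (stdD n F) K) (hn : 7 ≤ n) (hq : q = 2) {v : V} (hvv : h v v = 0)
    (hv : Ctr hF K v) (h4 : 4 ≤ (vs v).card) : ∃ w, Ctr hF K w ∧ (vs w).card = 4 := by
  classical
  obtain ⟨ω, hω1, hω⟩ := exists_omega hF
  have h2 := two_eq_zero' hF hq
  have h3 : ω ^ 3 = 1 := by rw [frob_apply, hq] at hω; linear_combination hω
  have hω2 : ω ^ 2 + ω + 1 = 0 := by
    have : (ω - 1) * (ω ^ 2 + ω + 1) = 0 := by linear_combination h3
    exact (mul_eq_zero.1 this).resolve_left (sub_ne_zero.2 hω1)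
  -- four coordinates with a spare one
  have small : ∀ v : V, h v v = 0 → Ctr hF K v → 6 ≤ (vs v).card → (vs v).card < n →
      ∃ w, Ctr hF K w ∧ (vs w).card = 4 := by
    intro v hvv hv h6 hlt
    obtain ⟨y, hy⟩ := Monomial.exists_fresh (vs v) hlt
    obtain ⟨P, hP, hPc⟩ := Finset.exists_subset_card_eq (s := vs v) (n := 3) (by omega)
    obtain ⟨Q, hQ, hQc⟩ := Finset.exists_subset_card_eq (s := vs v \ P) (n := 1)
      (by rw [Finset.card_sdiff_of_subset hP]; omega)
    have hQv : Q ⊆ vs v := hQ.trans Finset.sdiff_subset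
    have hPQ : Disjoint P Q := Finset.disjoint_left.2 fun z hz hz' => (Finset.mem_sdiff.1 (hQ hz')).2 hz
    have hyP : y ∉ P := fun e => hy (hP e)
    obtain ⟨w, -, hw, hws⟩ := phase hF U hq hv hvv hω hω1 (insert y P) Q
      (Finset.disjoint_insert_left.2 ⟨fun e => hy (hQv e), hPQ⟩)
      (by rw [Finset.card_insert_of_notMem hyP, hPc, hQc, show 3 + 1 + 2 * 1 = 3 * 2 by rfl, pow_mul, h3,
        one_pow])
      (by
        rw [Finset.inter_insert_of_notMem hy, Finset.inter_eq_right.2 hP, Finset.inter_eq_right.2 hQv,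
          hPc, hQc]
        push_cast
        linear_combination hω2 + (ω + 1) * h2)
    refine ⟨w, hw, ?_⟩
    rw [hws, Finset.insert_union, Finset.inter_insert_of_notMem hy,
      Finset.inter_eq_right.2 (Finset.union_subset hP hQv), Finset.card_union_of_disjoint hPQ, hPc, hQc]
  obtain ⟨m, hm⟩ := even_vs hF hq hvv
  by_cases hs : (vs v).card = 4
  · exact ⟨v, hv, hs⟩
  by_cases hlt : (vs v).card < n
  · exact small v hvv hv (by omega) hlt
  obtain ⟨P, hP, hPc⟩ := Finset.exists_subset_card_eq (s := vs v) (n := 3) (by omega)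
  obtain ⟨Q, hQ, hQc⟩ := Finset.exists_subset_card_eq (s := vs v \ P) (n := 3)
    (by rw [Finset.card_sdiff_of_subset hP]; omega)
  have hQv : Q ⊆ vs v := hQ.trans Finset.sdiff_subset
  have hPQ : Disjoint P Q := Finset.disjoint_left.2 fun z hz hz' => (Finset.mem_sdiff.1 (hQ hz')).2 hz
  obtain ⟨w, hww, hw, hws⟩ := phase hF U hq hv hvv hω hω1 P Q hPQ
    (by rw [hPc, hQc, show 3 + 2 * 3 = 3 * 3 by rfl, pow_mul, h3, one_pow])
    (by
      rw [Finset.inter_eq_right.2 hP, Finset.inter_eq_right.2 hQv, hPc, hQc]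
      push_cast
      linear_combination 3 * hω2 + h2)
  have hwc : (vs w).card = 6 := by
    rw [hws, Finset.inter_eq_right.2 (Finset.union_subset hP hQv), Finset.card_union_of_disjoint hPQ, hPc,
      hQc]
  exact small w hww hw (by omega) (by omega)

/-- Any two vectors with four coordinates are equivalent. -/
theorem transport_four (U : UW q 1 (stdD n F) K) (hn : 5 ≤ n) (hq : q = 2) {v w : V} (hv : Ctr hF K v)
    (hv4 : (vs v).card = 4) (hw4 : (vs w).card = 4) : Ctr hF K w := by
  classical
  have h2 := two_eq_zero' hF hq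
  set e := Finset.equivOfCardEq (hv4.trans hw4.symm)
  set π : Equiv.Perm (Fin n) := Equiv.extendSubtype e
  have hπ : ∀ z ∈ vs v, π z ∈ vs w := fun z hz => Equiv.extendSubtype_mem e z hz
  have hπ' : ∀ z, z ∉ vs v → π z ∉ vs w := fun z hz => Equiv.extendSubtype_not_mem e z hz
  obtain ⟨y, hy⟩ := Monomial.exists_fresh (vs v) (by omega)
  set P := ∏ z ∈ vs v, w (π z) / v z
  have hP : P ≠ 0 :=
    Finset.prod_ne_zero_iff.2 fun z hz => div_ne_zero (mem_vs.1 (hπ z hz)) (mem_vs.1 hz)
  set d : V := fun z => if z ∈ vs v then w (π z) / v z else if z = y then P⁻¹ else 1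
  have hd : ∀ z, d z * σ (d z) = 1 := fun z => by
    refine norm_eq_one hF hq ?_
    simp only [d]
    split_ifs with h1
    exacts [div_ne_zero (mem_vs.1 (hπ z h1)) (mem_vs.1 h1), inv_ne_zero hP, one_ne_zero]
  have hdp : ∏ z, d z = 1 := by
    rw [← Finset.prod_sdiff (Finset.subset_univ (vs v)),
      Finset.prod_congr rfl (s₁ := vs v) fun z hz => show d z = w (π z) / v z from if_pos hz,
      Finset.prod_eq_single y (fun z hz hzy => by simp [d, (Finset.mem_sdiff.1 hz).2, hzy])
        (fun e => absurd (Finset.mem_sdiff.2 ⟨Finset.mem_univ y, hy⟩) e)]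
    simp only [d, if_neg hy, if_pos]
    exact inv_mul_cancel₀ hP
  obtain ⟨u, huK, huG, hu⟩ := exists_monM_mem hF U π d hd (by
    rcases Int.units_eq_one_or (Equiv.Perm.sign π) with hs | hs <;> rw [hs, hdp]
    · simp
    · simp; linear_combination -h2)
  have huv : (u : Mn) *ᵥ v = w := funext fun z => by
    obtain ⟨z, rfl⟩ := π.surjective z
    rw [hu, monM_mulVec, Equiv.symm_apply_apply]
    by_cases hz : z ∈ vs v
    · simp only [d, if_pos hz]; exact div_mul_cancel₀ _ (mem_vs.1 hz)
    · rw [show v z = 0 from not_not.1 fun e => hz (mem_vs.2 e),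
        show w (π z) = 0 from not_not.1 fun e => hπ' z hz (mem_vs.2 e), mul_zero]
  exact huv ▸ hv.conj huK huG

/-- All centres. -/
theorem ctr_all_binary (U : UW q 1 (stdD n F) K) (hn : 7 ≤ n) (hq : q = 2) {g : GL (Fin n) F} (hg : g ∈ K)
    (hm : ¬ Mono (g : Mn)) : ∀ v, h v v = 0 → Ctr hF K v := by
  classical
  obtain ⟨v₀, hv₀, hc₀, h4⟩ := exists_ctr_wide hF U hn hq hg hm
  obtain ⟨w₀, hw₀, hw4⟩ := exists_ctr_four hF U hn hq hv₀ hc₀ h4
  refine ctr_all hF U 4 3 (by norm_num) (by norm_num) (fun J hJ =>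
    ⟨by have := le_finrank_blocks U J; omega, Or.inr (hJ ▸ le_finrank_blocks U J)⟩) fun c hc hiso hN => ?_
  set v := ∑ i, c i with hv
  have hvz : ∀ z, v z = c z z := fun z => by
    rw [hv, Finset.sum_apply]
    exact Finset.sum_eq_single z (fun i _ hi => mem_stdD.1 (hc i) z (Ne.symm hi))
      (fun e => absurd (Finset.mem_univ z) e)
  have hS : vs v = supp c := by
    ext z
    rw [mem_vs, mem_supp, hvz]
    refine ⟨fun e e' => e (by rw [e', Pi.zero_apply]), fun e e' => e ?_⟩
    rw [eq_single (hc z), e', Pi.single_zero]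
  obtain ⟨m, hm⟩ := even_vs hF hq hiso
  rcases (show (vs v).card = 0 ∨ (vs v).card = 2 ∨ (vs v).card = 4 by rw [hS] at hm ⊢; omega) with
    h0 | h1 | h1
  · rw [show v = 0 from funext fun z => not_not.1 fun e => by
      have := mem_vs.2 e
      rw [Finset.card_eq_zero.1 h0] at this
      simp at this]
    exact ctr_zero hF U
  · exact ctr_two' hF U hq h1
  · exact transport_four hF U (by omega) hq hw₀ hw4 h1

end CfsgLib.MaxSub.WreathUnitary
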