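/-
Blocks of dimension at least two.
-/
import Cfsg.Agent.Lib.MaxSub.WreathUnitary.General
import Cfsg.Agent.Lib.Aschbacher.UnitaryProperGeneral

set_option autoImplicit false
set_option maxHeartbeats 400000
set_option linter.unusedSectionVars false

namespace CfsgLib.MaxSub.WreathUnitary

open Matrix Module Cfsg Cfsg.Geo CfsgLib.UnitaryTransvection
open CfsgLib.MaxSub (Ctr sg sg_mem G_isometry)

variable {F : Type*} [Field F] [Fintype F] {n q : ℕ} (hF : Fintype.card F = q ^ 2)

local notation "h" => Cfsg.hermForm n F q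
local notation "σ" => frob hF
local notation "V" => Fin n → F
local notation "Mn" => Matrix (Fin n) (Fin n) F
local notation "G" => Cfsg.GU n F q ⊓ specialLinear (Fin n) F

variable {t k : ℕ} {D : Fin t → Submodule F (Fin n → F)} {K : Subgroup (GL (Fin n) F)}

/-- A centre with two non-zero components gives their pair of blocks. -/
theorem goodPair_of_ctr (U : UW q k D K) (hk : 2 ≤ k) {c : Fin t → V} (hc : Decomp.Fam D c)
    (hiso : h (∑ i, c i) (∑ i, c i) = 0) (hS : Ctr hF K (∑ i, c i)) {j l : Fin t} (hjl : j ≠ l)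
    (hj : c j ≠ 0) (hl : c l ≠ 0) : GoodPair hF D K j l := by
  obtain ⟨z, hz1, hz2⟩ := exists_generic hF
  have hz0 : z ≠ 0 := fun e => hz1 (by rw [e, map_zero])
  have hσz0 : σ z ≠ 0 := fun e => hz0 (frob_eq_zero hF e)
  have hd : ∀ i, 2 ≤ finrank F (D i) := fun i => by rw [U.dec.decomp.finrank_eq]; exact hk
  obtain ⟨d, hdD, hdc, hdd⟩ := solve hF (U.dec.nondegenerate j) (hd j) (hc j) hj (z := σ z)
    (R := -(z + σ z)) (by rw [map_neg, fix_trace]) (Or.inr (Or.inl hσz0))
  obtain ⟨e, heD, hec, hee⟩ := solve hF (U.dec.nondegenerate l) (hd l) (hc l) hl (z := -z)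
    (R := z + σ z) (fix_trace hF z) (Or.inr (Or.inl (neg_ne_zero.2 hz0)))
  set x := ∑ i, c i
  have hxd : h x d = z := by
    rw [comp_left U hc hdD, ← h_swap hF d (c j), hdc, frob_frob]
  have hxe : h x e = -σ z := by
    rw [comp_left U hc heD, ← h_swap hF e (c l), hec, map_neg]
  have hde : h d e = 0 := ortho U hjl hdD heD
  have hdx : h d x = σ z := by rw [← h_swap hF x d, hxd]
  have hex : h e x = -z := by rw [← h_swap hF x e, hxe, map_neg, frob_frob]
  have h1 := step_two hF U hjl hdD heD hz0 (by rw [hdd]; ring) hxd hxe hee hS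
  have hwiso : h (x + d + e) (x + d + e) = 0 := by
    simp only [h_add_left, h_add_right hF, hiso, hxd, hdx, hxe, hex, hde, h_symm0 hF hde, hdd, hee]
    ring
  have hde0 : h (d + e) (d + e) = 0 := by
    simp only [h_add_left, h_add_right hF, hde, h_symm0 hF hde, hdd, hee]
    ring
  have hnx : h ((-1 : F) • x) ((-1 : F) • x) = 0 := by
    rw [h_smul_left, h_smul_right hF, hiso]; ring
  have e : x + d + e + (-1 : F) • x = d + e := by module
  have h2 := join hF U h1 (hS.smul (-1)) hwiso hnx (by rw [e]; exact hde0) (by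
    rw [h_smul_right hF, map_neg, map_one, h_add_left, h_add_left, hiso, hdx, hex]
    intro e0
    exact hz1 (by linear_combination -e0))
  rw [e] at h2
  exact goodPair_of_one hF U hjl hdD heD (by rw [hdd]; exact neg_ne_zero.2 hz2)
    (by rw [hdd, hee, neg_neg]) h2

/-- Isotropic vectors with at most two components. -/
theorem ctr_two (U : UW q k D K) (hk : 2 ≤ k) (hex : ¬ (k = 2 ∧ q = 2))
    (hG : ∀ j l, j ≠ l → GoodPair hF D K j l) (c : Fin t → V) (hc : Decomp.Fam D c)
    (hiso : h (∑ i, c i) (∑ i, c i) = 0) (hcard : (supp c).card ≤ 2) : Ctr hF K (∑ i, c i) := by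
  classical
  rw [sum_eq_sum_supp] at hiso ⊢
  rcases Nat.lt_or_ge (supp c).card 2 with h1 | h2
  · rcases Nat.lt_or_ge (supp c).card 1 with h0 | h0
    · rw [Finset.card_eq_zero.1 (by omega : (supp c).card = 0), Finset.sum_empty]
      exact ctr_zero hF U
    · obtain ⟨i, hi⟩ := Finset.card_eq_one.1 (by omega : (supp c).card = 1)
      rw [hi, Finset.sum_singleton] at hiso ⊢
      exact ctr_block hF U (hc i) hiso
  obtain ⟨j, l, hjl, hs⟩ := Finset.card_eq_two.1 (by omega : (supp c).card = 2)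
  have hj : c j ≠ 0 := mem_supp.1 (hs ▸ Finset.mem_insert_self _ _)
  have hl : c l ≠ 0 := mem_supp.1 (hs ▸ Finset.mem_insert_of_mem (Finset.mem_singleton_self _))
  rw [hs, Finset.sum_pair hjl] at hiso ⊢
  have hjl0 : h (c j) (c l) = 0 := ortho U hjl (hc j) (hc l)
  have hsum : h (c j) (c j) + h (c l) (c l) = 0 := by
    simp only [h_add_left, h_add_right hF, hjl0, h_symm0 hF hjl0] at hiso
    linear_combination hiso
  by_cases hjj : h (c j) (c j) = 0
  swap
  · exact hG j l hjl _ (hc j) _ (hc l) hjj (by linear_combination hsum)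
  have hll : h (c l) (c l) = 0 := by linear_combination hsum - hjj
  have hd : ∀ i, 2 ≤ finrank F (D i) := fun i => by rw [U.dec.decomp.finrank_eq]; exact hk
  -- two skew products
  obtain ⟨z, z', hz, hz', hzz, ho, ho'⟩ : ∃ z z' : F, Skew hF z ∧ Skew hF z' ∧ z + z' ≠ 0 ∧
      (z ≠ 0 ∨ 3 ≤ k) ∧ (z' ≠ 0 ∨ 3 ≤ k) := by
    obtain ⟨ζ, hζ0, hζ⟩ := exists_skew hF
    by_cases hq : 3 ≤ q
    · obtain ⟨z, hz1, hz2, hz3⟩ := exists_skew_ne hF hq hζ hζ0
      refine ⟨z, ζ - z, hz1, ?_, by rwa [add_sub_cancel], Or.inl hz2,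
        Or.inl (sub_ne_zero.2 (Ne.symm hz3))⟩
      have := skew_neg hF hz1
      unfold Skew at this ⊢
      rw [map_sub, map_neg] at *
      linear_combination hζ + this
    · have := (UnitaryBasic.frob_exists hF).1
      have h3 : 3 ≤ k := by
        by_contra hk3
        exact hex ⟨by omega, by omega⟩
      exact ⟨ζ, 0, hζ, skew_zero hF, by rwa [add_zero], Or.inl hζ0, Or.inr h3⟩
  have hcase : ∀ {i : Fin t} {y : F}, (y ≠ 0 ∨ 3 ≤ k) →
      (h (c i) (c i) ≠ 0 ∨ y ≠ 0 ∨ 3 ≤ finrank F (D i) ∨ (1 : F) = 0) := fun {i y} e => by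
    rcases e with e | e
    · exact Or.inr (Or.inl e)
    · exact Or.inr (Or.inr (Or.inl (by rw [U.dec.decomp.finrank_eq]; exact e)))
  obtain ⟨a, haD, hac, haa⟩ := solve hF (U.dec.nondegenerate j) (hd j) (hc j) hj (z := z) (R := 1)
    (map_one _) (hcase ho)
  obtain ⟨b, hbD, hbc, hbb⟩ := solve hF (U.dec.nondegenerate l) (hd l) (hc l) hl (z := z') (R := -1)
    (by rw [map_neg, map_one]) (by
      rcases ho' with e | e
      · exact Or.inr (Or.inl e)
      · exact Or.inr (Or.inr (Or.inl (by rw [U.dec.decomp.finrank_eq]; exact e))))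
  have hca : h (c j) a = σ z := by rw [← h_swap hF a (c j), hac]
  have hcb : h (c l) b = σ z' := by rw [← h_swap hF b (c l), hbc]
  have hab : h a b = 0 := ortho U hjl haD hbD
  have hal : h a (c l) = 0 := ortho U hjl haD (hc l)
  have hjb : h (c j) b = 0 := ortho U hjl (hc j) hbD
  unfold Skew at hz hz'
  have hn1 : h (c j - a) (c j - a) = 1 := by
    simp only [h_sub_left, h_sub_right hF, hjj, haa, hac, hca]
    linear_combination -hz
  have hn2 : h (c l - b) (c l - b) = -1 := by
    simp only [h_sub_left, h_sub_right hF, hll, hbb, hbc, hcb]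
    linear_combination -hz'
  have h1 := hG j l hjl a haD b hbD (by rw [haa]; exact one_ne_zero) (by rw [hbb, haa])
  have h2' := hG j l hjl _ ((D j).sub_mem (hc j) haD) _ ((D l).sub_mem (hc l) hbD)
    (by rw [hn1]; exact one_ne_zero) (by rw [hn1, hn2])
  have e : a + b + (c j - a + (c l - b)) = c j + c l := by abel
  rw [← e]
  refine join hF U h1 h2' ?_ ?_ (by rw [e]; exact hiso) ?_
  · simp only [h_add_left, h_add_right hF, haa, hbb, hab, h_symm0 hF hab]; ring
  · simp only [h_add_left, h_add_right hF, h_sub_left, h_sub_right hF, hjj, hll, haa, hbb, hac, hca,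
      hbc, hcb, hab, h_symm0 hF hab, hal, h_symm0 hF hal, hjb, h_symm0 hF hjb, hjl0, h_symm0 hF hjl0]
    linear_combination -hz - hz'
  · simp only [h_add_left, h_add_right hF, h_sub_right hF, haa, hbb, hac, hbc, hab, h_symm0 hF hab,
      hal, h_symm0 hF hjb]
    intro e0
    exact hzz (by linear_combination e0)

include hF in
/-- An element moving a block moves an isotropic vector out of all blocks. -/
theorem exists_iso_moved (U : UW q k D K) (hk : 2 ≤ k) {g : GL (Fin n) F} (hg : g ∈ G)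
    (hm : g ∉ decompositionStabilizer D) :
    ∃ i, ∃ e ∈ D i, h e e = 0 ∧ ∀ j, (g : Mn) *ᵥ e ∉ D j := by
  by_contra hc
  push Not at hc
  refine hm (Decomp.mem_stab_of U.dec.decomp fun i => ?_)
  obtain ⟨u, hu, hu1⟩ := exists_unit hF U i
  obtain ⟨e, he, heu, hee⟩ := solve hF (U.dec.nondegenerate i) (by rw [U.dec.decomp.finrank_eq]; exact hk)
    hu (fun e => by rw [e, h_zero_left] at hu1; exact zero_ne_one hu1) (z := 1) (R := 0) (map_zero _)
    (Or.inr (Or.inr (Or.inr rfl)))
  have he0 : e ≠ 0 := fun e0 => by rw [e0, h_zero_left] at heu; exact zero_ne_one heu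
  obtain ⟨j, hj⟩ := hc i e he hee
  have hge : ∀ p ∈ D i, h p e ≠ 0 → (g : Mn) *ᵥ p ∈ D j := fun p hp hpe => by
    obtain ⟨a, ha1, ha2⟩ := exists_add_iso (hF := hF) hee hpe
    obtain ⟨l, hl⟩ := hc i _ ((D i).add_mem hp ((D i).smul_mem a he)) ha1
    have hlj : l = j := by
      by_contra hlj
      refine hpe ?_
      rw [← ha2, ← G_isometry hg]
      exact ortho U hlj hl hj
    subst hlj
    have h2 := (D l).sub_mem hl ((D l).smul_mem a hj)
    rwa [Matrix.mulVec_add, Matrix.mulVec_smul, add_sub_cancel_right] at h2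
  refine ⟨j, fun x hx => ?_⟩
  by_cases hxe : h x e = 0
  · obtain ⟨⟨y, hy, hye⟩, -⟩ := U.dec.nondegenerate i e he he0
    have h2 := (D j).sub_mem (hge (x + y) ((D i).add_mem hx hy)
      (by rw [h_add_left, hxe, zero_add]; exact hye)) (hge y hy hye)
    rwa [Matrix.mulVec_add, add_sub_cancel_right] at h2
  · exact hge x hx hxe

include hF in
/-- An overgroup moving the blocks contains `SU`. -/
theorem block_case (U : UW q k D K) (hk : 2 ≤ k) (hex : ¬ (k = 2 ∧ q = 2)) {g : GL (Fin n) F}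
    (hg : g ∈ K) (hm : g ∉ decompositionStabilizer D) : G ≤ K := by
  classical
  have hgG := U.le hg
  obtain ⟨i, e, he, hee, hout⟩ := exists_iso_moved hF U hk hgG hm
  obtain ⟨c, hc, hce⟩ := Decomp.exists_comp U.dec.decomp ((g : Mn) *ᵥ e)
  have hS : Ctr hF K (∑ l, c l) := by
    rw [hce]; exact (ctr_block hF U he hee).conj hg hgG
  have hiso : h (∑ l, c l) (∑ l, c l) = 0 := by rw [hce, G_isometry hgG, hee]
  obtain ⟨a, ha⟩ : ∃ a, c a ≠ 0 := by
    by_contra hno
    push Not at hno
    exact hout i (by rw [← hce, Finset.sum_eq_zero fun j _ => hno j]; exact zero_mem _)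
  obtain ⟨b, hba, hb⟩ : ∃ b, b ≠ a ∧ c b ≠ 0 := by
    by_contra hno
    push Not at hno
    exact hout a (by
      rw [← hce, Finset.sum_eq_single a (fun j _ hj => hno j hj)
        (fun e => absurd (Finset.mem_univ a) e)]
      exact hc a)
  have hG := goodPair_all hF U hba.symm (goodPair_of_ctr hF U hk hc hiso hS hba.symm ha hb)
  refine SU_le_of_ctr (hF := hF) (by have := U.dim; omega)
    (ctr_all hF U 2 1 le_rfl le_rfl (fun J hJ => ?_) (ctr_two hF U hk hex hG))
  obtain ⟨j, hj⟩ := Finset.card_pos.1 (show 0 < J.card by omega)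
  have h1 := k_le_finrank_blocks U hj
  have := (UnitaryBasic.frob_exists hF).1
  refine ⟨by omega, ?_⟩
  by_contra hc3
  push Not at hc3
  exact hex ⟨by omega, by omega⟩

end CfsgLib.MaxSub.WreathUnitary
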