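/-
Circle vectors of small support with a prescribed weighted sum, over the field of sixty-four elements.
-/
import Cfsg.Agent.Lib.MaxSub.WreathUnitary.Circles

set_option autoImplicit false
set_option linter.unusedSectionVars false

namespace CfsgLib.MaxSub.WreathUnitary

open CfsgLib.UnitaryTransvection

variable {F : Type*} [Field F] [Fintype F] {q n : ℕ} (hF : Fintype.card F = q ^ 2)

local notation "σ" => frob hF

include hF in
/-- Completing a few circle values at a weightless point. -/
theorem complete_sum {w : Fin n → F} {Q : Finset (Fin n)} {f : Fin n → F} {p : Fin n} (hp : p ∉ Q)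
    (hwp : w p = 0) (hf : ∀ z ∈ Q, f z * σ (f z) = 1) (hsum : ∑ z ∈ Q, f z * w z = ∑ z ∈ Q, w z) :
    ∃ d : Fin n → F, (∀ z, d z * σ (d z) = 1) ∧ ∏ z, d z = 1 ∧ ∑ z, d z * w z = ∑ z, w z ∧
      (∀ z, z ≠ p → z ∉ Q → d z = 1) ∧ ∀ z ∈ Q, d z = f z := by
  classical
  set π := ∏ z ∈ Q, f z
  have hπ : π * σ π = 1 := by
    rw [map_prod, ← Finset.prod_mul_distrib, Finset.prod_eq_one hf]
  set d : Fin n → F := fun z => if z ∈ Q then f z else if z = p then σ π else 1 with hd
  have hQ : ∀ z ∈ Q, d z = f z := fun z hz => by simp [hd, hz]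
  refine ⟨d, fun z => ?_, ?_, ?_, fun z h1 h2 => by simp [hd, h1, h2], hQ⟩
  · simp only [hd]
    split_ifs with h1
    exacts [hf z h1, circ_conj hF hπ, by simp]
  · rw [← Finset.prod_sdiff (Finset.subset_univ Q), Finset.prod_congr rfl hQ,
      Finset.prod_eq_single p (fun z hz hzp => by simp [hd, (Finset.mem_sdiff.1 hz).2, hzp])
        (fun e => absurd (Finset.mem_sdiff.2 ⟨Finset.mem_univ p, hp⟩) e)]
    simp only [hd, if_neg hp, if_pos]
    rw [mul_comm]; exact hπ
  · rw [← Finset.sum_sdiff (Finset.subset_univ Q), ← Finset.sum_sdiff (Finset.subset_univ Q) (f := w),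
      Finset.sum_congr rfl (s₁ := Q) fun z hz => by rw [hQ z hz], hsum]
    congr 1
    refine Finset.sum_congr rfl fun z hz => ?_
    by_cases hzp : z = p
    · subst hzp; rw [hwp, mul_zero]
    · simp [hd, (Finset.mem_sdiff.1 hz).2, hzp]

include hF in
/-- Six weights admit a non-trivial change at three of them keeping the sum. -/
theorem exists_change (h2 : (2 : F) = 0) (hq : q = 8) {w : Fin n → F} {S : Finset (Fin n)}
    (hS : 6 ≤ S.card) (hw : ∀ z ∈ S, w z ≠ 0) :
    ∃ (Q : Finset (Fin n)) (f : Fin n → F), Q ⊆ S ∧ Q.card ≤ 3 ∧ (∀ z ∈ Q, f z * σ (f z) = 1) ∧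
      ∑ z ∈ Q, f z * w z = ∑ z ∈ Q, w z ∧ ∃ z ∈ Q, f z ≠ 1 := by
  classical
  obtain ⟨μ, hμ, hμ1⟩ := exists_gen hF
  have hμne : (μ : F) ≠ 1 := fun e => by
    have := Nat.le_of_dvd one_pos (orderOf_dvd_of_pow_eq_one
      (Units.ext (by simpa using e) : μ ^ 1 = 1))
    omega
  by_cases hex : ∃ i ∈ S, ∃ j ∈ S, w i * σ (w j) ≠ σ (w i) * w j
  · -- two weights of different direction
    obtain ⟨i, hi, j, hj, hne⟩ := hex
    have hij : i ≠ j := fun e => hne (by subst e; ring)
    have hab : w i + w j ≠ 0 := fun e => hne (by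
      rw [show w j = -w i by linear_combination e, map_neg]; ring)
    have hab' : σ (w i + w j) ≠ 0 := fun e => hab (frob_eq_zero hF e)
    have hai := hw i hi
    have haj := hw j hj
    have hsi : σ (w i) ≠ 0 := fun e => hai (frob_eq_zero hF e)
    have hsj : σ (w j) ≠ 0 := fun e => haj (frob_eq_zero hF e)
    set f : Fin n → F := fun z => σ (w z) * (w i + w j) / (w z * σ (w i + w j)) with hf
    refine ⟨{i, j}, f, by simp [Finset.insert_subset_iff, hi, hj], Finset.card_le_two.trans (by norm_num),
      fun z hz => ?_, ?_, i, by simp, fun e => hne ?_⟩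
    · have hz0 : w z ≠ 0 := by
        simp only [Finset.mem_insert, Finset.mem_singleton] at hz
        rcases hz with rfl | rfl <;> assumption
      have hsz : σ (w z) ≠ 0 := fun e => hz0 (frob_eq_zero hF e)
      simp only [hf, map_div₀, map_mul, frob_frob]
      field_simp
    · rw [Finset.sum_pair hij, Finset.sum_pair hij]
      simp only [hf]
      field_simp
      rw [map_add]
    · simp only [hf] at e
      rw [div_eq_one_iff_eq (mul_ne_zero hai hab'), map_add] at e
      linear_combination -e
  push Not at hex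
  obtain ⟨a, ha⟩ : S.Nonempty := Finset.card_pos.1 (by omega)
  by_cases heq : ∃ i ∈ S, ∃ j ∈ S, i ≠ j ∧ w i = w j
  · obtain ⟨i, hi, j, hj, hij, e⟩ := heq
    refine ⟨{i, j}, fun _ => μ, by simp [Finset.insert_subset_iff, hi, hj],
      Finset.card_le_two.trans (by norm_num), fun _ _ => hμ1, ?_, i, by simp, hμne⟩
    rw [Finset.sum_pair hij, Finset.sum_pair hij, e]
    linear_combination ((μ : F) * w j - w j) * h2
  push Not at heq
  -- seven points: six of them contain a triple adding up to zero
  set T := (((Finset.univ.filter fun r : F => σ r = r).image fun r => w a * r).erase 0).erase (w a)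
    with hT
  have hTc : T.card ≤ 6 := by
    have h1 := card_fix_le hF
    have h3 := Finset.card_image_le (s := Finset.univ.filter fun r : F => σ r = r) (f := fun r => w a * r)
    rw [hT, Finset.card_erase_of_mem, Finset.card_erase_of_mem]
    · omega
    · exact Finset.mem_image.2 ⟨0, by simp, mul_zero _⟩
    · exact Finset.mem_erase.2 ⟨hw a ha, Finset.mem_image.2 ⟨1, by simp, mul_one _⟩⟩
  have hline : ∀ z ∈ S, ∃ r, σ r = r ∧ w z = w a * r := fun z hz => by
    have h1 : w a ≠ 0 := hw a ha
    have h3 : σ (w a) ≠ 0 := fun e => h1 (frob_eq_zero hF e)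
    refine ⟨w z / w a, ?_, (mul_div_cancel₀ _ h1).symm⟩
    rw [map_div₀]
    field_simp
    linear_combination hex a ha z hz
  have hinj : Set.InjOn w S := fun x hx y hy e => by_contra fun hne => heq x hx y hy hne e
  set A := (S.erase a).image w with hA
  set B := (S.erase a).image fun z => w a + w z with hB
  have hAc : A.card = (S.erase a).card :=
    Finset.card_image_of_injOn (hinj.mono fun z hz => Finset.mem_of_mem_erase hz)
  have hBc : B.card = (S.erase a).card :=
    Finset.card_image_of_injOn fun x hx y hy e =>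
      hinj (Finset.mem_of_mem_erase hx) (Finset.mem_of_mem_erase hy) (add_left_cancel e)
  have hsub : A ∪ B ⊆ T := by
    intro x hx
    simp only [hA, hB, Finset.mem_union, Finset.mem_image] at hx
    rcases hx with ⟨z, hz, rfl⟩ | ⟨z, hz, rfl⟩ <;> obtain ⟨r, hr, er⟩ := hline z (Finset.mem_of_mem_erase hz)
    · exact Finset.mem_erase.2 ⟨fun e => Finset.ne_of_mem_erase hz (hinj (Finset.mem_of_mem_erase hz) ha e),
        Finset.mem_erase.2 ⟨hw z (Finset.mem_of_mem_erase hz), Finset.mem_image.2 ⟨r, by simp [hr], er.symm⟩⟩⟩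
    · refine Finset.mem_erase.2 ⟨fun e => hw z (Finset.mem_of_mem_erase hz) (by linear_combination e),
        Finset.mem_erase.2 ⟨fun e => Finset.ne_of_mem_erase hz (hinj (Finset.mem_of_mem_erase hz) ha
          (by linear_combination e - w a * h2)), Finset.mem_image.2 ⟨1 + r, by simp [map_add, hr], ?_⟩⟩⟩
      rw [er]; ring
  have hinter : (A ∩ B).Nonempty := by
    rw [← Finset.card_pos]
    have := Finset.card_union_add_card_inter A B
    have := Finset.card_le_card hsub
    rw [Finset.card_erase_of_mem ha] at hAc hBc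
    omega
  obtain ⟨x, hx⟩ := hinter
  simp only [hA, hB, Finset.mem_inter, Finset.mem_image] at hx
  obtain ⟨⟨y, hy, hyx⟩, ⟨z, hz, hzx⟩⟩ := hx
  have hyz : y ≠ z := fun e => hw a ha (by
    subst e; linear_combination hzx - hyx)
  refine ⟨{a, y, z}, fun _ => μ, by simp [Finset.insert_subset_iff, ha, Finset.mem_of_mem_erase hy,
    Finset.mem_of_mem_erase hz], Finset.card_le_three, fun _ _ => hμ1, ?_, a, by simp, hμne⟩
  have hay : a ≠ y := Ne.symm (Finset.ne_of_mem_erase hy)
  have haz : a ≠ z := Ne.symm (Finset.ne_of_mem_erase hz)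
  rw [Finset.sum_insert (by simp [hay, haz]), Finset.sum_pair hyz, Finset.sum_insert (by simp [hay, haz]),
    Finset.sum_pair hyz]
  linear_combination ((μ : F) - 1) * (hzx - hyx) + ((μ : F) - 1) * w y * h2

end CfsgLib.MaxSub.WreathUnitary
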