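/-
Monomial elements exchanging two pairs of coordinates, and the exceptional torus elements over sixteen
elements.
-/
import Cfsg.Agent.Lib.MaxSub.WreathUnitary.MonoBasic

set_option autoImplicit false
set_option maxHeartbeats 400000
set_option linter.unusedSectionVars false

namespace CfsgLib.MaxSub.WreathUnitary

open Matrix Module Cfsg Cfsg.Geo CfsgLib.UnitaryTransvection
open CfsgLib.MaxSub (Ctr sg sg_mem G_isometry)
open CfsgLib.MaxSub.Monomial (Mono monM monM_apply monM_mulVec mono_monM exists_fresh)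

variable {F : Type*} [Field F] [Fintype F] {n q : ℕ} (hF : Fintype.card F = q ^ 2)

local notation "h" => Cfsg.hermForm n F q
local notation "σ" => frob hF
local notation "V" => Fin n → F
local notation "Mn" => Matrix (Fin n) (Fin n) F
local notation "G" => Cfsg.GU n F q ⊓ specialLinear (Fin n) F

variable {K : Subgroup (GL (Fin n) F)}

include hF in
theorem h_sum (x y : V) : h x y = ∑ z, x z * σ (y z) :=
  Finset.sum_congr rfl fun z _ => by rw [frob_apply]

include hF in
/-- Two scaled circles have traces adding up to any fixed element. -/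
theorem exists_two_traces {a b s : F} (ha : a ≠ 0) (hb : b ≠ 0) (hs : σ s = s) :
    ∃ δ ε : F, δ * σ δ = 1 ∧ ε * σ ε = 1 ∧
      a * δ + σ (a * δ) + (b * ε + σ (b * ε)) = s := by
  classical
  have card : ∀ {c : F}, c ≠ 0 →
      q + 1 ≤ 2 * ((circ hF).image fun δ => c * δ + σ (c * δ)).card := fun {c} hc => by
    refine (two_mul_card_norms hF hc one_ne_zero).trans (Nat.mul_le_mul_left 2 ?_)
    refine le_trans (Finset.card_le_card (t := ((circ hF).image fun δ => c * δ + σ (c * δ)).image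
      fun t => c * σ c + t + 1) fun v hv => ?_) Finset.card_image_le
    obtain ⟨α, hα, rfl⟩ := Finset.mem_image.1 hv
    refine Finset.mem_image.2 ⟨_, Finset.mem_image_of_mem _ hα, ?_⟩
    simp only [map_add, map_mul, map_one]
    linear_combination -(c * σ c) * (mem_circ hF).1 hα
  obtain ⟨v, hv, hv'⟩ := inter_fix hF (A := (circ hF).image fun δ => a * δ + σ (a * δ))
    (B := ((circ hF).image fun ε => b * ε + σ (b * ε)).image fun t => s - t)
    (fun x hx => by obtain ⟨α, -, rfl⟩ := Finset.mem_image.1 hx; exact fix_trace hF _)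
    (fun x hx => by
      obtain ⟨t, ht, rfl⟩ := Finset.mem_image.1 hx
      obtain ⟨α, -, rfl⟩ := Finset.mem_image.1 ht
      rw [map_sub, hs, fix_trace hF])
    (by
      rw [Finset.card_image_of_injective _ fun x y e => sub_right_injective e]
      have := card ha
      have := card hb
      omega)
  obtain ⟨δ, hδ, rfl⟩ := Finset.mem_image.1 hv
  obtain ⟨t, ht, hts⟩ := Finset.mem_image.1 hv'
  obtain ⟨ε, hε, rfl⟩ := Finset.mem_image.1 ht
  exact ⟨δ, ε, (mem_circ hF).1 hδ, (mem_circ hF).1 hε, by linear_combination -hts⟩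

include hF in
/-- Exchanging two pairs of coordinates, with circle coefficients, makes a unit vector perpendicular to
its image. -/
theorem exists_double_swap {y c : V} (hy : h y y = 1) (hc : ∀ z, c z * σ (c z) = 1) (hcp : ∏ z, c z = 1)
    {i j k l : Fin n} (hij : i ≠ j) (hik : i ≠ k) (hil : i ≠ l) (hjk : j ≠ k) (hjl : j ≠ l) (hkl : k ≠ l)
    (hi : y i ≠ 0) (hj : y j ≠ 0) (hk : y k ≠ 0) (hl : y l ≠ 0) (hci : c i = 1) (hcj : c j = 1)
    (hck : c k = 1) (hcl : c l = 1)
    (hfix : σ (∑ z, (c z - 1) * (y z * σ (y z))) = ∑ z, (c z - 1) * (y z * σ (y z))) :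
    ∃ d : V, (∀ z, d z * σ (d z) = 1) ∧
      ((Equiv.Perm.sign (Equiv.swap i j * Equiv.swap k l) : ℤ) : F) * ∏ z, d z = 1 ∧
      (∀ z, d z * d ((Equiv.swap i j * Equiv.swap k l).symm z) = c z * c z) ∧
      h (monM (Equiv.swap i j * Equiv.swap k l) d *ᵥ y) y = 0 := by
  classical
  set N : Fin n → F := fun z => y z * σ (y z) with hN
  set C := ∑ z, (c z - 1) * N z with hCdef
  obtain ⟨δ, ε, hδ, hε, hsum⟩ := exists_two_traces hF (a := y j * σ (y i)) (b := y l * σ (y k))
    (s := N i + N j + N k + N l - 1 - C)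
    (mul_ne_zero hj fun e => hi (frob_eq_zero hF e)) (mul_ne_zero hl fun e => hk (frob_eq_zero hF e))
    (by
      have hC : σ C = C := hfix
      simp only [hN, map_sub, map_add, map_one, fix_norm hF] at hC ⊢
      rw [hC])
  set d : V := fun z =>
    if z = j then δ else if z = i then σ δ else if z = l then ε else if z = k then σ ε else c z
  set π : Equiv.Perm (Fin n) := Equiv.swap i j * Equiv.swap k l
  have hdj : d j = δ := by simp [d]
  have hdi : d i = σ δ := by simp [d, hij]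
  have hdl : d l = ε := by simp [d, hil.symm, hjl.symm]
  have hdk : d k = σ ε := by simp [d, hik.symm, hjk.symm, hkl]
  have hdo : ∀ z, z ≠ i → z ≠ j → z ≠ k → z ≠ l → d z = c z := fun z h1 h2 h3 h4 => by
    simp [d, h1, h2, h3, h4]
  have hπi : π.symm i = j := by
    rw [Equiv.symm_apply_eq]; simp [π, Equiv.swap_apply_of_ne_of_ne hjk hjl]
  have hπj : π.symm j = i := by
    rw [Equiv.symm_apply_eq]; simp [π, Equiv.swap_apply_of_ne_of_ne hik hil]
  have hπk : π.symm k = l := by
    rw [Equiv.symm_apply_eq]; simp [π, Equiv.swap_apply_of_ne_of_ne hik.symm hjk.symm]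
  have hπl : π.symm l = k := by
    rw [Equiv.symm_apply_eq]; simp [π, Equiv.swap_apply_of_ne_of_ne hil.symm hjl.symm]
  have hπo : ∀ z, z ≠ i → z ≠ j → z ≠ k → z ≠ l → π.symm z = z := fun z h1 h2 h3 h4 => by
    rw [Equiv.symm_apply_eq]
    simp [π, Equiv.swap_apply_of_ne_of_ne h3 h4, Equiv.swap_apply_of_ne_of_ne h1 h2]
  have hdet : ((Equiv.Perm.sign π : ℤ) : F) * ∏ z, d z = 1 := by
    have e : ∏ z, d z = (∏ z ∈ ({i, j, k, l} : Finset (Fin n)), d z) *
        ∏ z ∈ ({i, j, k, l} : Finset (Fin n))ᶜ, c z := by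
      rw [← Finset.prod_mul_prod_compl ({i, j, k, l} : Finset (Fin n))]
      congr 1
      refine Finset.prod_congr rfl fun z hz => ?_
      simp only [Finset.mem_compl, Finset.mem_insert, Finset.mem_singleton, not_or] at hz
      exact hdo z hz.1 hz.2.1 hz.2.2.1 hz.2.2.2
    have e' : ∏ z ∈ ({i, j, k, l} : Finset (Fin n))ᶜ, c z = 1 := by
      refine Eq.trans ?_ hcp
      refine Finset.prod_subset (Finset.subset_univ _) fun z _ hz => ?_
      simp only [Finset.mem_compl, not_not, Finset.mem_insert, Finset.mem_singleton] at hz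
      rcases hz with rfl | rfl | rfl | rfl <;> assumption
    rw [e, e', mul_one, Finset.prod_insert (by simp [hij, hik, hil]), Finset.prod_insert (by simp [hjk, hjl]),
      Finset.prod_pair hkl, hdi, hdj, hdk, hdl]
    simp only [π, map_mul, Equiv.Perm.sign_swap hij, Equiv.Perm.sign_swap hkl]
    push_cast
    linear_combination (σ ε * ε) * hδ + hε
  refine ⟨d, fun z => ?_, hdet, fun z => ?_, ?_⟩
  · simp only [d]
    split_ifs
    exacts [hδ, circ_conj hF hδ, hε, circ_conj hF hε, hc z]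
  · by_cases h1 : z = i
    · subst h1; rw [hπi, hdi, hdj, hci, one_mul]; linear_combination hδ
    by_cases h2 : z = j
    · subst h2; rw [hπj, hdi, hdj, hcj, one_mul]; exact hδ
    by_cases h3 : z = k
    · subst h3; rw [hπk, hdk, hdl, hck, one_mul]; linear_combination hε
    by_cases h4 : z = l
    · subst h4; rw [hπl, hdk, hdl, hcl, one_mul]; exact hε
    rw [hπo z h1 h2 h3 h4, hdo z h1 h2 h3 h4]
  have e0 : h (monM π d *ᵥ y - y) y = -1 := by
    rw [h_sum hF]
    have e : ∀ z, (monM π d *ᵥ y - y) z * σ (y z) = (c z - 1) * N z +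
        if z ∈ ({i, j, k, l} : Finset (Fin n)) then d (π.symm z) * y (π.symm z) * σ (y z) - c z * N z else 0 := by
      intro z
      rw [Pi.sub_apply, monM_mulVec]
      split_ifs with hz
      · simp only [hN]; ring
      · simp only [Finset.mem_insert, Finset.mem_singleton, not_or] at hz
        rw [hπo z hz.1 hz.2.1 hz.2.2.1 hz.2.2.2, hdo z hz.1 hz.2.1 hz.2.2.1 hz.2.2.2]
        simp only [hN]; ring
    rw [Finset.sum_congr rfl fun z _ => e z, Finset.sum_add_distrib, Finset.sum_ite_mem, Finset.univ_inter,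
      ← hCdef, Finset.sum_insert (by simp [hij, hik, hil]), Finset.sum_insert (by simp [hjk, hjl]),
      Finset.sum_pair hkl]
    simp only [hπi, hπj, hπk, hπl, hdi, hdj, hdk, hdl, hci, hcj, hck, hcl]
    simp only [hN, map_mul, frob_frob] at hsum ⊢
    linear_combination hsum
  rw [h_sub_left, hy] at e0
  linear_combination e0

/-- The double transpositions of five points. -/
def dts : List (Fin 5 × Fin 5 × Fin 5 × Fin 5) :=
  [(0,1,2,3),(0,2,1,3),(0,3,1,2),(0,1,2,4),(0,2,1,4),(0,4,1,2),(0,1,3,4),(0,3,1,4),(0,4,1,3),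
   (0,2,3,4),(0,3,2,4),(0,4,2,3),(1,2,3,4),(1,3,2,4),(1,4,2,3)]

/-- The action of a double transposition. -/
def dtf (x : Fin 5 × Fin 5 × Fin 5 × Fin 5) (z : Fin 5) : Fin 5 :=
  if z = x.1 then x.2.1 else if z = x.2.1 then x.1 else if z = x.2.2.1 then x.2.2.2
  else if z = x.2.2.2 then x.2.2.1 else z

theorem dts_ne : ∀ x ∈ dts, x.1 ≠ x.2.1 ∧ x.1 ≠ x.2.2.1 ∧ x.1 ≠ x.2.2.2 ∧ x.2.1 ≠ x.2.2.1 ∧
    x.2.1 ≠ x.2.2.2 ∧ x.2.2.1 ≠ x.2.2.2 := by decide +kernel

theorem dtf_eq : ∀ x ∈ dts, ∀ z,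
    (Equiv.swap x.1 x.2.1 * Equiv.swap x.2.2.1 x.2.2.2).symm z = dtf x z := by decide +kernel

/-- Five different images of a subset under double transpositions. -/
theorem five_images : ∀ s : Fin 5 → Bool, (∃ a b, s a ≠ s b) →
    5 ≤ ((dts.map fun x => s ∘ dtf x).toFinset.card) := by decide +kernel

/-- The alternating group of five points has no subgroup of index two, three or four. -/
theorem top_of_index_le_four {S : Subgroup (alternatingGroup (Fin 5))} (hle : S.index ≤ 4) : S = ⊤ := by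
  have : IsSimpleGroup (alternatingGroup (Fin 5)) := alternatingGroup.isSimpleGroup (by simp)
  rcases (Subgroup.normalCore_normal S).eq_bot_or_eq_top with e | e
  · exfalso
    rw [Subgroup.normalCore_eq_ker] at e
    have h1 := Nat.card_le_card_of_injective _ ((MonoidHom.ker_eq_bot_iff _).1 e)
    rw [Nat.card_perm, ← Subgroup.index_eq_card, nat_card_alternatingGroup, Nat.card_fin] at h1
    have := Nat.factorial_le hle
    simp [Nat.factorial] at this h1
    omega
  · exact top_le_iff.1 (e ▸ S.normalCore_le)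

include hF in
/-- In dimension five a full unit vector has five images perpendicular to it, so they are not all axes. -/
theorem five_false {g : Matrix (Fin 5) (Fin 5) F} (hg : IsUnit g) {y : Fin 5 → F} (hy : Cfsg.hermForm 5 F q y y = 1) (hy0 : ∀ z, y z ≠ 0)
    {p : Fin 5}
    (haxis : ∀ (π : Equiv.Perm (Fin 5)) (d : Fin 5 → F), (∀ z, d z * σ (d z) = 1) →
      ((Equiv.Perm.sign π : ℤ) : F) * ∏ z, d z = 1 → Cfsg.hermForm 5 F q (monM π d *ᵥ y) y = 0 →
      ∃ c ∈ Finset.univ.erase p, ∃ a : F, a * σ a = 1 ∧ g *ᵥ (monM π d *ᵥ y) = a • Pi.single c 1) :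
    False := by
  classical
  choose c hc a ha he using haxis
  -- equal axes give proportional images
  have hprop : ∀ π d (h1 : ∀ z, d z * σ (d z) = 1) (h2 : _) (h3 : _) π' d' (h1' : ∀ z, d' z * σ (d' z) = 1)
      (h2' : _) (h3' : _), c π d h1 h2 h3 = c π' d' h1' h2' h3' →
      ∃ l : F, l * σ l = 1 ∧ ∀ z, d (π.symm z) * y (π.symm z) = l * (d' (π'.symm z) * y (π'.symm z)) := by
    intro π d h1 h2 h3 π' d' h1' h2' h3' e
    refine ⟨a π d h1 h2 h3 / a π' d' h1' h2' h3', by
      rw [map_div₀, div_mul_div_comm, ha, ha, div_one], fun z => ?_⟩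
    have hv : monM π d *ᵥ y = (a π d h1 h2 h3 / a π' d' h1' h2' h3') • (monM π' d' *ᵥ y) := by
      refine Matrix.mulVec_injective_iff_isUnit.2 hg ?_
      rw [Matrix.mulVec_smul, he, he, e, smul_smul, div_mul_cancel₀ _ (circ_ne_zero hF (ha ..))]
    have := congrFun hv z
    rwa [Pi.smul_apply, smul_eq_mul, monM_mulVec, monM_mulVec] at this
  have hcard : (Finset.univ.erase p).card = 4 := by
    rw [Finset.card_erase_of_mem (Finset.mem_univ p), Finset.card_univ, Fintype.card_fin]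
  have hswap : ∀ x ∈ dts, ∃ d : Fin 5 → F, (∀ z, d z * σ (d z) = 1) ∧
      ((Equiv.Perm.sign (Equiv.swap x.1 x.2.1 * Equiv.swap x.2.2.1 x.2.2.2) : ℤ) : F) * ∏ z, d z = 1 ∧
      Cfsg.hermForm 5 F q (monM (Equiv.swap x.1 x.2.1 * Equiv.swap x.2.2.1 x.2.2.2) d *ᵥ y) y = 0 := fun x hx => by
    obtain ⟨e1, e2, e3, e4, e5, e6⟩ := dts_ne x hx
    obtain ⟨d, h1, h2, -, h3⟩ := exists_double_swap hF hy (c := fun _ => 1) (fun _ => by simp)
      Finset.prod_const_one e1 e2 e3 e4 e5 e6 (hy0 _) (hy0 _) (hy0 _) (hy0 _) rfl rfl rfl rfl (by simp)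
    exact ⟨d, h1, h2, h3⟩
  set N : Fin 5 → F := fun z => y z * σ (y z) with hN
  by_cases hne : ∃ i j, N i ≠ N j
  · obtain ⟨i, j, hij⟩ := hne
    let s : Fin 5 → Bool := fun z => decide (N z = N i)
    have h5 := five_images s ⟨i, j, by simp [s, Ne.symm hij]⟩
    have hsel : ∀ S ∈ (dts.map fun x => s ∘ dtf x).toFinset, ∃ k ∈ Finset.univ.erase p,
        ∃ (x : Fin 5 × Fin 5 × Fin 5 × Fin 5) (_ : x ∈ dts) (d : Fin 5 → F) (h1 : _) (h2 : _) (h3 : _),
          S = s ∘ dtf x ∧ k = c (Equiv.swap x.1 x.2.1 * Equiv.swap x.2.2.1 x.2.2.2) d h1 h2 h3 := by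
      intro S hS
      rw [List.mem_toFinset, List.mem_map] at hS
      obtain ⟨x, hx, rfl⟩ := hS
      obtain ⟨d, h1, h2, h3⟩ := hswap x hx
      exact ⟨_, hc _ d h1 h2 h3, x, hx, d, h1, h2, h3, rfl, rfl⟩
    choose! k hk hkx using hsel
    obtain ⟨S, hS, S', hS', hne', hkk⟩ := Finset.exists_ne_map_eq_of_card_lt_of_maps_to
      (s := (dts.map fun x => s ∘ dtf x).toFinset) (t := Finset.univ.erase p) (f := k)
      (by omega) fun S hS => hk S hS
    obtain ⟨x, hx, d, h1, h2, h3, rfl, ek⟩ := hkx S hS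
    obtain ⟨x', hx', d', h1', h2', h3', rfl, ek'⟩ := hkx S' hS'
    obtain ⟨l, hl, hz⟩ := hprop _ d h1 h2 h3 _ d' h1' h2' h3' (ek.symm.trans (hkk.trans ek'))
    refine hne' (funext fun z => ?_)
    have e1 := hz z
    rw [dtf_eq x hx z, dtf_eq x' hx' z] at e1
    have e2 : N (dtf x z) = N (dtf x' z) := by
      have e3 := congrArg (fun v => v * σ v) e1
      simp only [map_mul] at e3
      simp only [hN]
      linear_combination e3 - (y (dtf x z) * σ (y (dtf x z))) * h1 (dtf x z) +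
        (d' (dtf x' z) * σ (d' (dtf x' z)) * (y (dtf x' z) * σ (y (dtf x' z)))) * hl +
        (y (dtf x' z) * σ (y (dtf x' z))) * h1' (dtf x' z)
    simp [s, e2]
  -- all norms are equal: permute the ratios
  push Not at hne
  obtain ⟨d₀, hd₀, hdet₀, hz₀⟩ := hswap (0, 1, 2, 3) (by decide)
  set π₀ : Equiv.Perm (Fin 5) := Equiv.swap 0 1 * Equiv.swap 2 3
  have hsign : ((Equiv.Perm.sign π₀ : ℤ) : F) = 1 := by
    simp [π₀, Equiv.Perm.sign_swap]
  rw [hsign, one_mul] at hdet₀
  set r : Fin 5 → F := fun z => d₀ (π₀.symm z) * y (π₀.symm z) / y z with hr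
  have hr1 : ∀ z, r z * σ (r z) = 1 := fun z => by
    have : σ (y z) ≠ 0 := fun e => hy0 z (frob_eq_zero hF e)
    simp only [hr, map_div₀, map_mul]
    rw [div_mul_div_comm, div_eq_one_iff_eq (mul_ne_zero (hy0 z) this)]
    have e1 := hne (π₀.symm z) z
    simp only [hN] at e1
    linear_combination (y (π₀.symm z) * σ (y (π₀.symm z))) * hd₀ (π₀.symm z) + e1
  have hr0 : ∀ z, r z ≠ 0 := fun z => circ_ne_zero hF (hr1 z)
  have hprod : ∏ z, r z = 1 := by
    simp only [hr]
    rw [Finset.prod_div_distrib, Finset.prod_mul_distrib, Equiv.prod_comp π₀.symm d₀, hdet₀, one_mul,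
      Equiv.prod_comp π₀.symm y, div_self (Finset.prod_ne_zero_iff.2 fun z _ => hy0 z)]
  have hN5 : (5 : F) * N 0 = 1 := by
    rw [← hy, h_sum hF, Finset.sum_congr rfl fun z _ => show y z * σ (y z) = N 0 from hne z 0,
      Finset.sum_const, Finset.card_univ, Fintype.card_fin, nsmul_eq_mul, Nat.cast_ofNat]
  have hN0 : N 0 ≠ 0 := fun e => zero_ne_one (α := F) (by rw [← hN5, e, mul_zero])
  have hsum : ∑ z, r z = 0 := by
    refine (mul_eq_zero.1 ?_).resolve_right hN0
    rw [Finset.sum_mul, ← hz₀, h_sum hF]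
    refine Finset.sum_congr rfl fun z _ => ?_
    rw [monM_mulVec, ← show y z * σ (y z) = N 0 from hne z 0, hr]
    have := hy0 z
    field_simp
  let S : Subgroup (alternatingGroup (Fin 5)) :=
    { carrier := {τ | ∃ l : F, ∀ z, r ((τ : Equiv.Perm (Fin 5)) z) = l * r z}
      one_mem' := ⟨1, fun z => by simp⟩
      mul_mem' := by
        rintro τ τ' ⟨l, hl⟩ ⟨l', hl'⟩
        exact ⟨l * l', fun z => by
          rw [Subgroup.coe_mul, Equiv.Perm.mul_apply, hl, hl', mul_assoc]⟩
      inv_mem' := by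
        rintro τ ⟨l, hl⟩
        refine ⟨l⁻¹, fun z => ?_⟩
        have e := hl (((τ⁻¹ : alternatingGroup (Fin 5)) : Equiv.Perm (Fin 5)) z)
        rw [Subgroup.coe_inv, Equiv.Perm.coe_inv, Equiv.apply_symm_apply] at e
        have hl0 : l ≠ 0 := fun e0 => hr0 z (by rw [e, e0, zero_mul])
        rw [Subgroup.coe_inv, Equiv.Perm.coe_inv, e, ← mul_assoc, inv_mul_cancel₀ hl0, one_mul] }
  have hdia : ∀ τ : alternatingGroup (Fin 5),
      (∀ z, r ((τ : Equiv.Perm (Fin 5)) z) * σ (r ((τ : Equiv.Perm (Fin 5)) z)) = 1) ∧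
      ((Equiv.Perm.sign (1 : Equiv.Perm (Fin 5)) : ℤ) : F) * ∏ z, r ((τ : Equiv.Perm (Fin 5)) z) = 1 ∧
      Cfsg.hermForm 5 F q (monM 1 (fun z => r ((τ : Equiv.Perm (Fin 5)) z)) *ᵥ y) y = 0 := fun τ => by
    refine ⟨fun z => hr1 _, by rw [Equiv.prod_comp (τ : Equiv.Perm (Fin 5)) r, hprod]; simp, ?_⟩
    rw [h_sum hF, Finset.sum_congr rfl fun z _ => show _ = r ((τ : Equiv.Perm (Fin 5)) z) * N 0 by
      rw [monM_mulVec, ← show y z * σ (y z) = N 0 from hne z 0]
      simp [Equiv.Perm.one_symm, mul_assoc], ← Finset.sum_mul, Equiv.sum_comp (τ : Equiv.Perm (Fin 5)) r, hsum, zero_mul]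
  let f : alternatingGroup (Fin 5) → (Finset.univ.erase p : Finset (Fin 5)) := fun τ =>
    ⟨c 1 _ (hdia τ).1 (hdia τ).2.1 (hdia τ).2.2, hc ..⟩
  have hS : S = ⊤ := by
    refine top_of_index_le_four ?_
    rw [Subgroup.index_eq_card]
    refine le_trans (Nat.card_le_card_of_injective (fun q => f (Quotient.out q)⁻¹) fun q q' e => ?_) (by simp)
    rw [← QuotientGroup.out_eq' q, ← QuotientGroup.out_eq' q', QuotientGroup.eq]
    obtain ⟨l, hl, hz⟩ := hprop _ _ _ _ _ _ _ _ _ _ (congrArg Subtype.val e)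
    refine ⟨l, fun w => ?_⟩
    have e1 := hz (((Quotient.out q' : alternatingGroup (Fin 5)) : Equiv.Perm (Fin 5)) w)
    simp only [Equiv.Perm.one_symm, Equiv.Perm.coe_one, id, Subgroup.coe_inv, Equiv.Perm.coe_inv,
      Equiv.symm_apply_apply] at e1
    rw [Subgroup.coe_mul, Subgroup.coe_inv, Equiv.Perm.mul_apply, Equiv.Perm.coe_inv]
    exact mul_right_cancel₀ (hy0 _) (e1.trans (mul_assoc _ _ _).symm)
  -- the ratios are constant
  have hconst : ∀ u, r u = r 0 := by
    intro u
    by_cases hu : u = 0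
    · rw [hu]
    obtain ⟨w, hw⟩ := exists_fresh ({u, 0} : Finset (Fin 5)) (lt_of_le_of_lt Finset.card_le_two (by omega))
    simp only [Finset.mem_insert, Finset.mem_singleton, not_or] at hw
    obtain ⟨v, hv⟩ := exists_fresh ({u, 0, w} : Finset (Fin 5)) (lt_of_le_of_lt Finset.card_le_three (by omega))
    simp only [Finset.mem_insert, Finset.mem_singleton, not_or] at hv
    have hm : Equiv.swap u 0 * Equiv.swap u w ∈ alternatingGroup (Fin 5) := by
      rw [Equiv.Perm.mem_alternatingGroup, map_mul, Equiv.Perm.sign_swap hu,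
        Equiv.Perm.sign_swap (Ne.symm hw.1)]
      rfl
    obtain ⟨l, hl⟩ : (⟨_, hm⟩ : alternatingGroup (Fin 5)) ∈ S := hS ▸ Subgroup.mem_top _
    have hv' := hl v
    simp only [Equiv.Perm.mul_apply, Equiv.swap_apply_of_ne_of_ne hv.1 hv.2.2,
      Equiv.swap_apply_of_ne_of_ne hv.1 hv.2.1] at hv'
    have h0 := hl 0
    simp only [Equiv.Perm.mul_apply, Equiv.swap_apply_of_ne_of_ne (Ne.symm hu) (Ne.symm hw.2),
      Equiv.swap_apply_right] at h0
    rw [h0, show l = 1 from (mul_left_eq_self₀.1 hv'.symm).resolve_right (hr0 v), one_mul]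
  rw [Finset.sum_congr rfl fun z _ => hconst z, Finset.sum_const, Finset.card_univ, Fintype.card_fin,
    nsmul_eq_mul, Nat.cast_ofNat, mul_eq_zero, or_iff_left (hr0 0)] at hsum
  rw [hsum, zero_mul] at hN5
  exact zero_ne_one hN5

include hF in
/-- A conjugate of a torus element on two coordinates is monomial only if the column has a zero. -/
theorem conj_tor_not_mono {g u : GL (Fin n) F} (h0 : ∀ x p, (g : Mn) x p ≠ 0) (hn : 5 ≤ n) {z z' : Fin n}
    (hzz : z ≠ z') {e : F} (he : e ≠ 1)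
    (hu : ∀ x w, ((u : Mn) *ᵥ x) w = (if w = z then e else if w = z' then σ e else 1) * x w) :
    ¬ Mono ((g * u * g⁻¹ : GL (Fin n) F) : Mn) := by
  intro hM
  set T := g * u * g⁻¹
  obtain ⟨π, d, -, hd⟩ := Monomial.exists_monM hM
    ((Matrix.isUnit_iff_isUnit_det _).1 T.isUnit).ne_zero
  let W := Submodule.span F (Set.range ![(g : Mn).col z, (g : Mn).col z'])
  have hu' : ∀ x : V, (u : Mn) *ᵥ x - x =
      ((e - 1) * x z) • (Pi.single z 1 : V) + ((σ e - 1) * x z') • Pi.single z' 1 := fun x => funext fun w => by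
    simp only [Pi.sub_apply, hu, Pi.add_apply, Pi.smul_apply, smul_eq_mul, Pi.single_apply]
    by_cases h1 : w = z
    · subst h1; simp [hzz]; ring
    by_cases h2 : w = z'
    · subst h2; simp [h1]; ring
    · simp [h1, h2]
  have hT : ∀ x : V, (T : Mn) *ᵥ x - x = ((e - 1) * (((g⁻¹ : GL (Fin n) F) : Mn) *ᵥ x) z) • (g : Mn).col z +
      ((σ e - 1) * (((g⁻¹ : GL (Fin n) F) : Mn) *ᵥ x) z') • (g : Mn).col z' := fun x => by
    have ex : x = (g : Mn) *ᵥ (((g⁻¹ : GL (Fin n) F) : Mn) *ᵥ x) := by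
      rw [Matrix.mulVec_mulVec, Units.mul_inv, Matrix.one_mulVec]
    rw [show (T : Mn) *ᵥ x = (g : Mn) *ᵥ ((u : Mn) *ᵥ (((g⁻¹ : GL (Fin n) F) : Mn) *ᵥ x)) by
      simp only [T, Units.val_mul, ← Matrix.mulVec_mulVec]]
    conv_lhs => rw [← sub_add_cancel ((u : Mn) *ᵥ (((g⁻¹ : GL (Fin n) F) : Mn) *ᵥ x))
      (((g⁻¹ : GL (Fin n) F) : Mn) *ᵥ x), Matrix.mulVec_add, ← ex, hu', add_sub_cancel_right,
      Matrix.mulVec_add, Matrix.mulVec_smul, Matrix.mulVec_smul, Matrix.mulVec_single_one,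
      Matrix.mulVec_single_one]
  obtain ⟨M, hMc, -, hMs⟩ := Monomial.exists_supp W fun x => show monM π d *ᵥ x - x ∈ W by
    rw [← hd, hT]
    exact add_mem (Submodule.smul_mem _ _ (Submodule.subset_span ⟨0, rfl⟩))
      (Submodule.smul_mem _ _ (Submodule.subset_span ⟨1, rfl⟩))
  have hW : finrank F W ≤ 2 := (finrank_range_le_card _).trans (by simp)
  obtain ⟨w, hw⟩ := exists_fresh M (by omega)
  have := hMs ((g : Mn).col z) w hw
  rw [← hd, hT, ← Matrix.mulVec_single_one, Matrix.mulVec_mulVec, Units.inv_mul, Matrix.one_mulVec] at this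
  simp [hzz.symm, sub_eq_zero, he, h0 w z] at this

include hF in
/-- A full row of a non-monomial element gives a non-monomial element with a zero. -/
theorem exists_zero_entry (U : UW q 1 (stdD n F) K) (hn5 : 5 ≤ n) (hq : 3 ≤ q) {g : GL (Fin n) F} (hg : g ∈ K)
    (h0 : ∀ x p, (g : Mn) x p ≠ 0) :
    ∃ A ∈ K, ¬ Mono ((A : GL (Fin n) F) : Mn) ∧ ∃ x p, (A : Mn) x p = 0 := by
  classical
  have hn := U.dim
  have hgG := U.le hg
  obtain ⟨p⟩ : Nonempty (Fin n) := ⟨⟨0, by omega⟩⟩
  set y : V := ((g⁻¹ : GL (Fin n) F) : Mn).col p with hydef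
  have hy0 : ∀ z, y z ≠ 0 := fun z e => h0 p z (frob_eq_zero hF (by
    rw [← inv_apply hF hgG]; exact e))
  have hyy : h y y = 1 := by rw [hydef, col_h hF (inv_mem hgG), if_pos rfl]
  have hgy : (g : Mn) *ᵥ y = Pi.single p 1 := by
    rw [hydef, ← Matrix.mulVec_single_one, Matrix.mulVec_mulVec, Units.mul_inv, Matrix.one_mulVec]
  have hT : ∀ u : GL (Fin n) F, ((g * u * g⁻¹ : GL (Fin n) F) : Mn) *ᵥ Pi.single p 1 =
      (g : Mn) *ᵥ ((u : Mn) *ᵥ y) := fun u => by
    rw [Units.val_mul, Units.val_mul, ← Matrix.mulVec_mulVec, ← Matrix.mulVec_mulVec,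
      Matrix.mulVec_single_one]
  have hTp : ∀ u : GL (Fin n) F, h ((u : Mn) *ᵥ y) y = 0 →
      ((g * u * g⁻¹ : GL (Fin n) F) : Mn) p p = 0 := fun u hu => by
    have h1 := congrFun (hT u) p
    rw [Matrix.mulVec_single_one, Matrix.col_apply] at h1
    rw [h1, ← h_single_right hF ((g : Mn) *ᵥ ((u : Mn) *ᵥ y)) p, ← hgy, G_isometry hgG, hu]
  by_contra hcon
  push Not at hcon
  have hmono : ∀ u ∈ K, h ((u : Mn) *ᵥ y) y = 0 → Mono ((g * u * g⁻¹ : GL (Fin n) F) : Mn) :=
    fun u hu hz => by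
      by_contra hm
      exact hcon _ (mul_mem (mul_mem hg hu) (inv_mem hg)) hm p p (hTp u hz)
  set N : Fin n → F := fun z => y z * σ (y z) with hN
  by_cases hn5 : n = 5
  · subst hn5
    refine five_false hF g.isUnit hyy hy0 (p := p) fun π d hd hdet hzero => ?_
    obtain ⟨u, huK, huG, hu⟩ := exists_monM_mem hF U π d hd hdet
    rw [← hu] at hzero ⊢
    obtain ⟨c, hc⟩ := hmono u huK hzero p
    set a := ((g * u * g⁻¹ : GL (Fin 5) F) : Matrix (Fin 5) (Fin 5) F) c p
    have heq' : (g : Matrix (Fin 5) (Fin 5) F) *ᵥ ((u : Matrix (Fin 5) (Fin 5) F) *ᵥ y) =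
        a • Pi.single c 1 := by
      rw [← hT, Matrix.mulVec_single_one]
      funext z
      by_cases hz : z = c
      · subst hz; simp [a]
      · rw [Matrix.col_apply, Pi.smul_apply, Pi.single_eq_of_ne hz, smul_zero]; exact hc z hz
    have ha : a * σ a = 1 := by
      have h1 := G_isometry huG y y
      rw [← G_isometry hgG, heq', hyy, h_smul_left, h_smul_right hF, h_single_right hF,
        Pi.single_eq_same, mul_one] at h1
      exact h1
    refine ⟨c, Finset.mem_erase.2 ⟨fun e => ?_, Finset.mem_univ c⟩, a, ha, heq'⟩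
    have := hTp u hzero
    exact circ_ne_zero hF ha (by simpa [a, e] using this)
  have hn6 : 6 ≤ n := by omega
  by_cases heq : ∃ z z', z ≠ z' ∧ N z = N z'
  · -- two coordinates of equal norm
    obtain ⟨z, z', hzz, hNz⟩ := heq
    obtain ⟨μ, hμ, hμ2⟩ : ∃ μ : F, μ * σ μ = 1 ∧ μ * μ ≠ 1 := by
      obtain ⟨x, hx, hx1⟩ := exists_gen hF
      exact ⟨x, hx1, fun e => by
        have := Nat.le_of_dvd two_pos (orderOf_dvd_of_pow_eq_one
          (Units.ext (by simpa [sq] using e) : x ^ 2 = 1))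
        omega⟩
    obtain ⟨i, hi⟩ := exists_fresh ({z, z'} : Finset (Fin n)) (lt_of_le_of_lt Finset.card_le_two (by omega))
    simp only [Finset.mem_insert, Finset.mem_singleton, not_or] at hi
    obtain ⟨j, hj⟩ := exists_fresh ({z, z', i} : Finset (Fin n))
      (lt_of_le_of_lt Finset.card_le_three (by omega))
    simp only [Finset.mem_insert, Finset.mem_singleton, not_or] at hj
    obtain ⟨k, hk⟩ := exists_fresh ({z, z', i, j} : Finset (Fin n))
      (lt_of_le_of_lt Finset.card_le_four (by omega))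
    simp only [Finset.mem_insert, Finset.mem_singleton, not_or] at hk
    obtain ⟨l, hl⟩ := exists_fresh (insert k ({z, z', i, j} : Finset (Fin n)))
      (lt_of_le_of_lt ((Finset.card_insert_le _ _).trans (Nat.add_le_add_right Finset.card_le_four 1))
        (by omega))
    simp only [Finset.mem_insert, Finset.mem_singleton, not_or] at hl
    set c : V := fun w => if w = z then μ else if w = z' then σ μ else 1
    have hc : ∀ w, c w * σ (c w) = 1 := fun w => by
      simp only [c]; split_ifs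
      exacts [hμ, circ_conj hF hμ, by simp]
    have hcp : ∏ w, c w = 1 := by
      rw [Fintype.prod_eq_mul z z' hzz fun w hw => by simp [c, hw.1, hw.2]]
      simp [c, hzz.symm, hμ]
    obtain ⟨d, hd, hdet, hd2, hzero⟩ := exists_double_swap hF hyy hc hcp (i := i) (j := j) (k := k) (l := l)
      (Ne.symm hj.2.2) (Ne.symm hk.2.2.1) (Ne.symm hl.2.2.2.1) (Ne.symm hk.2.2.2) (Ne.symm hl.2.2.2.2)
      (Ne.symm hl.1) (hy0 _) (hy0 _) (hy0 _) (hy0 _) (by simp [c, hi.1, hi.2]) (by simp [c, hj.1, hj.2.1])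
      (by simp [c, hk.1, hk.2.1]) (by simp [c, hl.2.1, hl.2.2.1]) (by
        have e : ∑ w, (c w - 1) * (y w * σ (y w)) = (μ + σ μ - 2) * N z := by
          rw [Fintype.sum_eq_add z z' hzz fun w hw => by simp [c, hw.1, hw.2]]
          simp only [c, if_pos, if_neg hzz.symm, hN] at hNz ⊢
          linear_combination -(σ μ - 1) * hNz
        rw [e]; simp only [hN, map_mul, map_sub, map_ofNat, fix_trace hF, frob_frob hF]; ring)
    set π := Equiv.swap i j * Equiv.swap k l
    obtain ⟨u, huK, -, hu⟩ := exists_monM_mem hF U π d hd hdet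
    have hM := hmono u huK (by rw [hu]; exact hzero)
    have hM2 := hM.mul hM
    rw [← Units.val_mul, show g * u * g⁻¹ * (g * u * g⁻¹) = g * (u * u) * g⁻¹ by group] at hM2
    have hinv : ∀ w, π.symm (π.symm w) = w := fun w => by
      have hπ : π * π = 1 := by
        have hd' : Commute (Equiv.swap i j) (Equiv.swap k l) :=
          (Equiv.Perm.disjoint_swap_swap (by simp [Ne.symm hj.2.2, Ne.symm hk.2.2.1, Ne.symm hl.2.2.2.1,
            Ne.symm hk.2.2.2, Ne.symm hl.2.2.2.2, Ne.symm hl.1])).commute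
        show Equiv.swap i j * Equiv.swap k l * (Equiv.swap i j * Equiv.swap k l) = 1
        rw [mul_assoc, ← mul_assoc (Equiv.swap k l), ← hd'.eq, mul_assoc (Equiv.swap i j), Equiv.swap_mul_self,
          mul_one, Equiv.swap_mul_self]
      have := congrArg (fun (s : Equiv.Perm (Fin n)) => s (π.symm (π.symm w))) hπ
      simp only [Equiv.Perm.mul_apply, Equiv.apply_symm_apply, Equiv.Perm.one_apply] at this
      exact this.symm
    refine conj_tor_not_mono hF h0 (by omega) hzz hμ2 (fun x w => ?_) hM2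
    rw [Units.val_mul, hu, ← Matrix.mulVec_mulVec, monM_mulVec, monM_mulVec, hinv, ← mul_assoc,
      mul_comm (d _) (d w), hd2]
    simp only [c]
    split_ifs <;> simp [map_mul]
  -- all norms are different
  push Not at heq
  haveI : Nonempty (Fin n) := ⟨p⟩
  obtain ⟨i, hi⟩ : ∃ i : Fin n, True := ⟨p, trivial⟩
  obtain ⟨j, hj⟩ := exists_fresh ({i} : Finset (Fin n)) (by rw [Finset.card_singleton]; omega)
  simp only [Finset.mem_singleton] at hj
  set R : Finset (Finset (Fin n)) := ((Finset.univ.erase i).erase j).powersetCard 2 with hR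
  have hline : ∀ S ∈ R, ∃ (c : Fin n) (a : F) (k l : Fin n) (d : V), S = {k, l} ∧ k ≠ l ∧ k ≠ i ∧ k ≠ j ∧
      l ≠ i ∧ l ≠ j ∧ (∀ z, d z * σ (d z) = 1) ∧ c ∈ Finset.univ.erase p ∧ a * σ a = 1 ∧
      (g : Mn) *ᵥ (monM (Equiv.swap i j * Equiv.swap k l) d *ᵥ y) = a • Pi.single c 1 := by
    intro S hS
    obtain ⟨hSs, hS2⟩ := Finset.mem_powersetCard.1 hS
    obtain ⟨k, l, hkl, rfl⟩ := Finset.card_eq_two.1 hS2
    have hk := hSs (Finset.mem_insert_self k _)
    have hl := hSs (Finset.mem_insert_of_mem (Finset.mem_singleton_self l))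
    simp only [Finset.mem_erase, Finset.mem_univ, and_true] at hk hl
    obtain ⟨d, hd, hdet, -, hzero⟩ := exists_double_swap hF hyy (c := fun _ => 1) (fun _ => by simp)
      Finset.prod_const_one (Ne.symm hj) (Ne.symm hk.2) (Ne.symm hl.2) (Ne.symm hk.1) (Ne.symm hl.1) hkl
      (hy0 i) (hy0 j) (hy0 k) (hy0 l) rfl rfl rfl rfl (by simp)
    obtain ⟨u, huK, huG, hu⟩ := exists_monM_mem hF U _ d hd hdet
    rw [← hu] at hzero
    obtain ⟨c, hc⟩ := hmono u huK hzero p
    set a := ((g * u * g⁻¹ : GL (Fin n) F) : Mn) c p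
    have heq' : (g : Mn) *ᵥ ((u : Mn) *ᵥ y) = a • Pi.single c 1 := by
      rw [← hT, Matrix.mulVec_single_one]
      funext z
      by_cases hz : z = c
      · subst hz; simp [a]
      · rw [Matrix.col_apply, Pi.smul_apply, Pi.single_eq_of_ne hz, smul_zero]; exact hc z hz
    have ha : a * σ a = 1 := by
      have h1 := G_isometry huG y y
      rw [← G_isometry hgG, heq', hyy, h_smul_left, h_smul_right hF, h_single_right hF,
        Pi.single_eq_same, mul_one] at h1
      exact h1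
    refine ⟨c, a, k, l, d, rfl, hkl, hk.2, hk.1, hl.2, hl.1, hd,
      Finset.mem_erase.2 ⟨fun e => ?_, Finset.mem_univ c⟩, ha, hu ▸ heq'⟩
    have := hTp u hzero
    exact circ_ne_zero hF ha (by simpa [a, e] using this)
  choose! c a k l d hS hkl hki hkj hli hlj hd hcp ha hgv using hline
  have hcard : (Finset.univ.erase p).card < R.card := by
    rw [hR, Finset.card_powersetCard, Finset.card_erase_of_mem (Finset.mem_erase.2 ⟨hj, Finset.mem_univ j⟩),
      Finset.card_erase_of_mem (Finset.mem_univ i), Finset.card_erase_of_mem (Finset.mem_univ p),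
      Finset.card_univ, Fintype.card_fin]
    obtain ⟨m, rfl⟩ : ∃ m, n = m + 6 := ⟨n - 6, by omega⟩
    have e : ∀ m, m + 5 < (m + 4).choose 2 := fun m => by
      induction m with
      | zero => decide
      | succ m ih =>
        have e : (m + 1 + 4).choose 2 = (m + 4).choose 1 + (m + 4).choose 2 := Nat.choose_succ_succ' (m + 4) 1
        rw [Nat.choose_one_right] at e
        omega
    exact e m
  obtain ⟨S, hSR, S', hSR', hne, hcc⟩ := Finset.exists_ne_map_eq_of_card_lt_of_maps_to hcard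
    (fun S hS => hcp S hS)
  refine hne ?_
  set π := Equiv.swap i j * Equiv.swap (k S) (l S)
  set π' := Equiv.swap i j * Equiv.swap (k S') (l S')
  have hv : monM π (d S) *ᵥ y = (a S / a S') • (monM π' (d S') *ᵥ y) := by
    refine Matrix.mulVec_injective_iff_isUnit.2 g.isUnit ?_
    rw [Matrix.mulVec_smul, hgv S hSR, hgv S' hSR', hcc, smul_smul,
      div_mul_cancel₀ _ (circ_ne_zero hF (ha S' hSR'))]
  have hnorm : ∀ z, N (π.symm z) = N (π'.symm z) := fun z => by
    have e := congrFun hv z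
    rw [Pi.smul_apply, smul_eq_mul, monM_mulVec, monM_mulVec] at e
    have e' := congrArg (fun x => x * σ x) e
    have hq0 : a S / a S' * σ (a S / a S') = 1 := by
      rw [map_div₀, div_mul_div_comm, ha S hSR, ha S' hSR', div_one]
    simp only [map_mul] at e'
    simp only [hN]
    linear_combination e' - (y (π.symm z) * σ (y (π.symm z))) * hd S hSR (π.symm z) +
      (d S' (π'.symm z) * σ (d S' (π'.symm z)) * (y (π'.symm z) * σ (y (π'.symm z)))) * hq0 +
      (y (π'.symm z) * σ (y (π'.symm z))) * hd S' hSR' (π'.symm z)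
  have hinj : ∀ z, π.symm z = π'.symm z := fun z => by
    by_contra hc'
    exact heq _ _ hc' (hnorm z)
  have hp : Equiv.swap (k S) (l S) = Equiv.swap (k S') (l S') :=
    mul_left_cancel (Equiv.symm_bijective.injective (Equiv.ext hinj) : π = π')
  have h1 : Equiv.swap (k S') (l S') (k S) = l S := by rw [← hp, Equiv.swap_apply_left]
  rw [hS S hSR, hS S' hSR']
  by_cases e1 : k S = k S'
  · rw [e1, Equiv.swap_apply_left] at h1
    rw [e1, h1]
  by_cases e2 : k S = l S'
  · rw [e2, Equiv.swap_apply_right] at h1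
    rw [e2, ← h1, Finset.pair_comm]
  rw [Equiv.swap_apply_of_ne_of_ne e1 e2] at h1
  exact absurd h1 (hkl S hSR)

include hF in
/-- Over sixteen elements, the size of a small case. -/
theorem small_eq (h2 : (2 : F) = 0) (hq : 3 ≤ q) (hn : 6 ≤ n) (hn9 : n ≠ 9) (hn' : n < 13)
    (hd : q + 1 ∣ n) : q = 4 ∧ n = 10 := by
  haveI : CharP F 2 := CharTwo.of_one_ne_zero_of_two_eq_zero one_ne_zero h2
  obtain ⟨k, -, hk⟩ := FiniteField.card F 2
  obtain ⟨j, -, rfl⟩ := (Nat.dvd_prime_pow Nat.prime_two).1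
    (show q ∣ 2 ^ (k : ℕ) by rw [← hk, hF]; exact dvd_pow_self q two_ne_zero)
  have hle := Nat.le_of_dvd (by omega) hd
  have hj : j < 4 := by
    by_contra hc
    have := Nat.pow_le_pow_right (show 1 ≤ 2 by omega) (show 4 ≤ j by omega)
    omega
  interval_cases j <;> norm_num at * <;> omega

include hF in
/-- Over sixteen elements: a torus element making a conjugate non-monomial with a zero. -/
theorem exists_torus_ten (U : UW q 1 (stdD n F) K) (hq : q = 4) (hn : n = 10) {A : GL (Fin n) F}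
    (hA : A ∈ K) {a c : Fin n} (hac : a ≠ c) {P : Finset (Fin n)} (hP : P.card ≤ 3)
    (hw : ∀ z ∉ P, (A : Mn) a z ≠ 0 ∧ (A : Mn) c z ≠ 0) :
    ∃ u : GL (Fin n) F, u ∈ K ∧ (∃ d : V, (u : Mn) = Matrix.diagonal d ∧ ∀ z ∈ P, d z = 1) ∧
      ¬ Mono ((A * u * A⁻¹ : GL (Fin n) F) : Mn) ∧ ((A * u * A⁻¹ : GL (Fin n) F) : Mn) a c = 0 := by
  classical
  have hAG := U.le hA
  have h2 : (2 : F) = 0 := CfsgLib.Aschbacher.two_eq_zero_iff.2 (by
    rw [hF, hq]; decide)
  set w : V := fun z => (A : Mn) a z * σ ((A : Mn) c z) with hwdef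
  have hw0 : ∀ z ∉ P, w z ≠ 0 := fun z hz =>
    mul_ne_zero (hw z hz).1 fun e => (hw z hz).2 (frob_eq_zero hF e)
  set T := (Finset.univ.filter fun x : F => σ x = x).erase 0 with hTdef
  have hT : T.card ≤ 3 := by
    have := card_fix_le hF
    rw [hTdef, Finset.card_erase_of_mem (show (0 : F) ∈ Finset.univ.filter fun x : F => σ x = x from
      Finset.mem_filter.2 ⟨Finset.mem_univ _, map_zero _⟩)]
    omega
  have hmaps : ∀ z ∉ P, w z * σ (w z) ∈ T := fun z hz => Finset.mem_erase.2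
    ⟨mul_ne_zero (hw0 z hz) fun e => hw0 z hz (frob_eq_zero hF e),
      Finset.mem_filter.2 ⟨Finset.mem_univ _, fix_norm hF _⟩⟩
  -- two sets of coordinates with opposite weights
  obtain ⟨I, J, μ, hμ, hμ1, hIJ, hcard, hIP, hJP, hIne, hIJc, hrel⟩ : ∃ (I J : Finset (Fin n)) (μ : F),
      μ * σ μ = 1 ∧ μ ≠ 1 ∧ Disjoint I J ∧ I.card = J.card ∧ Disjoint I P ∧ Disjoint J P ∧ I.Nonempty ∧
      I.card ≤ 2 ∧ ∑ z ∈ I, w z = σ μ * ∑ z ∈ J, w z := by
    by_cases hex : ∃ i j, i ∉ P ∧ j ∉ P ∧ w i * σ (w i) = w j * σ (w j) ∧ w i ≠ w j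
    · obtain ⟨i, j, hi, hj, hN, hne⟩ := hex
      have hsi : σ (w i) ≠ 0 := fun e => hw0 i hi (frob_eq_zero hF e)
      have hsj : σ (w j) ≠ 0 := fun e => hw0 j hj (frob_eq_zero hF e)
      have hij : i ≠ j := fun e => hne (by rw [e])
      have hwi := hw0 i hi
      have hμ : w j / w i * σ (w j / w i) = 1 := by
        rw [map_div₀, div_mul_div_comm, ← hN, div_self (mul_ne_zero hwi hsi)]
      refine ⟨{i}, {j}, w j / w i, hμ, fun e => hne ((div_eq_one_iff_eq hwi).1 e).symm, by simpa,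
        rfl, by simpa, by simpa, Finset.singleton_nonempty i, by simp, ?_⟩
      rw [Finset.sum_singleton, Finset.sum_singleton, map_div₀, div_mul_eq_mul_div, eq_div_iff hsi]
      linear_combination hN
    push Not at hex
    obtain ⟨z₁, -, hz₁⟩ := exists_gen hF
    have hgen : ∃ μ : F, μ * σ μ = 1 ∧ μ ≠ 1 := by
      obtain ⟨ω, hω1, hω⟩ := exists_omega hF
      exact ⟨ω, hω, hω1⟩
    obtain ⟨μ, hμ, hμ1⟩ := hgen
    have hS : 7 ≤ (Finset.univ \ P).card := by
      rw [Finset.card_univ_diff, Fintype.card_fin]; omega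
    obtain ⟨i, hi, k, hk, hik, hNik⟩ := Finset.exists_ne_map_eq_of_card_lt_of_maps_to
      (s := Finset.univ \ P) (t := T) (by omega) fun z hz => hmaps z (Finset.mem_sdiff.1 hz).2
    obtain ⟨j, hj, l, hl, hjl, hNjl⟩ := Finset.exists_ne_map_eq_of_card_lt_of_maps_to
      (s := ((Finset.univ \ P).erase i).erase k) (t := T)
      (by
        rw [Finset.card_erase_of_mem (Finset.mem_erase.2 ⟨hik.symm, hk⟩), Finset.card_erase_of_mem hi]
        omega)
      fun z hz => hmaps z (Finset.mem_sdiff.1 (Finset.mem_of_mem_erase (Finset.mem_of_mem_erase hz))).2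
    simp only [Finset.mem_erase, Finset.mem_sdiff, Finset.mem_univ, true_and] at hi hk hj hl
    have e1 := hex i k hi hk hNik
    have e2 := hex j l hj.2.2 hl.2.2 hNjl
    refine ⟨{i, k}, {j, l}, μ, hμ, hμ1, ?_, by rw [Finset.card_pair hik, Finset.card_pair hjl], ?_, ?_,
      Finset.insert_nonempty _ _, Finset.card_le_two, ?_⟩
    · simp [Finset.disjoint_insert_left, Ne.symm hj.2.1, Ne.symm hl.2.1, hj.1, hl.1, hj.2.1, hl.2.1, Ne.symm hj.1, Ne.symm hl.1]
    · simp [Finset.disjoint_insert_left, hi, hk]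
    · simp [Finset.disjoint_insert_left, hj.2.2, hl.2.2]
    · rw [Finset.sum_pair hik, Finset.sum_pair hjl, e1, e2]
      linear_combination (w k - σ μ * w l) * h2
  have hμ0 : μ ≠ 0 := circ_ne_zero hF hμ
  have hμ5 : μ ^ 5 = 1 := by have := circ_pow_succ hF hμ; rwa [hq] at this
  have hμ2 : μ ^ 2 ≠ 1 := fun e => hμ1 (by linear_combination hμ5 - (μ * (μ ^ 2 + 1)) * e)
  -- torus elements
  let dd : F → V := fun ν z => if z ∈ I then ν else if z ∈ J then σ ν else 1
  have hout : ∀ ν z, z ∉ I → z ∉ J → dd ν z = 1 := fun ν z h1 h3 => by simp [dd, h1, h3]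
  have hdd : ∀ ν, ν * σ ν = 1 → ∀ z, dd ν z * σ (dd ν z) = 1 := fun ν hν z => by
    simp only [dd]; split_ifs
    exacts [hν, circ_conj hF hν, by simp]
  have hnI : ∀ z ∈ J, z ∉ I := fun z hz hz' => Finset.disjoint_left.1 hIJ hz' hz
  have hsumdd : ∀ ν (x : V), ∑ z, dd ν z * x z =
      ∑ z, x z + (ν - 1) * ∑ z ∈ I, x z + (σ ν - 1) * ∑ z ∈ J, x z := fun ν x => by
    have e : ∀ z, dd ν z * x z = x z + (if z ∈ I then (ν - 1) * x z else 0) +
        (if z ∈ J then (σ ν - 1) * x z else 0) := fun z => by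
      by_cases h1 : z ∈ I
      · have h3 : z ∉ J := fun h3 => hnI z h3 h1
        simp only [dd, if_pos h1, if_neg h3]; ring
      · by_cases h3 : z ∈ J
        · simp only [dd, if_pos h3, if_neg h1]; ring
        · simp only [dd, if_neg h3, if_neg h1]; ring
    rw [Finset.sum_congr rfl fun z _ => e z, Finset.sum_add_distrib, Finset.sum_add_distrib,
      Finset.sum_ite_mem, Finset.sum_ite_mem, Finset.univ_inter, Finset.univ_inter, Finset.mul_sum,
      Finset.mul_sum]
  have hprod : ∀ ν, ν * σ ν = 1 → ∏ z, dd ν z = 1 := fun ν hν => by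
    rw [← Finset.prod_subset (Finset.subset_univ (I ∪ J)) fun z _ hz => by
      rw [Finset.mem_union, not_or] at hz; exact hout ν z hz.1 hz.2]
    rw [Finset.prod_union hIJ, Finset.prod_congr rfl fun z hz => show dd ν z = ν by simp [dd, hz],
      Finset.prod_congr rfl (s₁ := J) fun z hz => show dd ν z = σ ν by simp [dd, hz, hnI z hz],
      Finset.prod_const, Finset.prod_const, ← hcard, ← mul_pow, hν, one_pow]
  obtain ⟨u, huK, huG, hu⟩ := exists_diag_mem hF U (dd μ) (hdd μ hμ) (hprod μ hμ)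
  set y : V := ((A⁻¹ : GL (Fin n) F) : Mn).col c with hydef
  have hyz : ∀ z, y z = σ ((A : Mn) c z) := fun z => inv_apply hF hAG z c
  have hyy : h y y = 1 := by rw [hydef, col_h hF (inv_mem hAG), if_pos rfl]
  have hAy : (A : Mn) *ᵥ y = Pi.single c 1 := by
    rw [hydef, ← Matrix.mulVec_single_one, Matrix.mulVec_mulVec, Units.mul_inv, Matrix.one_mulVec]
  have hac0 : ∑ z, w z = 0 := by
    have := congrFun hAy a
    rw [Pi.single_eq_of_ne hac] at this
    rw [← this]
    exact Finset.sum_congr rfl fun z _ => by rw [hyz]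
  refine ⟨u, huK, ⟨dd μ, hu, fun z hz => hout μ z (fun e => Finset.disjoint_left.1 hIP e hz)
    (fun e => Finset.disjoint_left.1 hJP e hz)⟩, fun hM => ?_, ?_⟩
  · set Tm := A * u * A⁻¹ with hTm
    have hTc : ∀ (k : ℕ), ((Tm ^ k : GL (Fin n) F) : Mn) *ᵥ Pi.single c 1 =
        (A : Mn) *ᵥ ((fun z => dd μ z ^ k * y z)) := fun k => by
      have e : Tm ^ k = A * u ^ k * A⁻¹ := conj_pow
      rw [e, Units.val_mul, Units.val_mul, ← Matrix.mulVec_mulVec, ← Matrix.mulVec_mulVec,
        Matrix.mulVec_single_one, Units.val_pow_eq_pow_val, hu, Matrix.diagonal_pow]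
      congr 1
      funext z
      rw [Matrix.mulVec_diagonal, Pi.pow_apply]
    have hMk : ∀ k : ℕ, k = 1 ∨ k = 2 → Mono ((Tm ^ k : GL (Fin n) F) : Mn) := by
      rintro k (rfl | rfl)
      · rwa [pow_one]
      · rw [pow_two, Units.val_mul]; exact hM.mul hM
    have key : ∀ k : ℕ, k = 1 ∨ k = 2 → μ ^ k ≠ 1 → h (fun z => dd μ z ^ k * y z) y = 0 := by
      intro k hk hne
      obtain ⟨c', hc'⟩ := hMk k hk c
      set lam := ((Tm ^ k : GL (Fin n) F) : Mn) c' c
      have hcol : (A : Mn) *ᵥ (fun z => dd μ z ^ k * y z) = lam • Pi.single c' 1 := by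
        rw [← hTc, Matrix.mulVec_single_one]
        funext z
        by_cases hz : z = c'
        · subst hz; simp [lam]
        · rw [Matrix.col_apply, Pi.smul_apply, Pi.single_eq_of_ne hz, smul_zero]; exact hc' z hz
      by_cases hcc : c' = c
      · exfalso
        rw [hcc, ← hAy, ← Matrix.mulVec_smul] at hcol
        have he := Matrix.mulVec_injective_iff_isUnit.2 A.isUnit hcol
        obtain ⟨z₀, hz₀⟩ := exists_fresh (I ∪ J ∪ P) (by
          have h1 := Finset.card_union_le (I ∪ J) P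
          have h3 := Finset.card_union_le I J
          omega)
        simp only [Finset.mem_union, not_or] at hz₀
        have hy0 : ∀ z ∉ P, y z ≠ 0 := fun z hz e =>
          (hw z hz).2 (frob_eq_zero hF (by rw [← hyz]; exact e))
        have e0 := congrFun he z₀
        simp only [Pi.smul_apply, smul_eq_mul, hout μ z₀ hz₀.1.1 hz₀.1.2, one_pow, one_mul] at e0
        have hlam : lam = 1 := mul_right_cancel₀ (hy0 z₀ hz₀.2) (by rw [one_mul]; exact e0.symm)
        obtain ⟨i, hi⟩ := hIne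
        have e1 := congrFun he i
        simp only [Pi.smul_apply, smul_eq_mul, dd, if_pos hi, hlam, one_mul] at e1
        exact hne (mul_right_cancel₀ (hy0 i (Finset.disjoint_left.1 hIP hi)) (by rw [one_mul]; exact e1))
      · rw [← G_isometry hAG, hcol, hAy, h_smul_left, h_single_right hF, Pi.single_eq_of_ne (Ne.symm hcc),
          mul_zero]
    set SI := ∑ z ∈ I, y z * σ (y z)
    set SJ := ∑ z ∈ J, y z * σ (y z)
    have hN1 : ∑ z, y z * σ (y z) = 1 := by rw [← h_sum hF, hyy]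
    have hSI : σ SI = SI := by rw [map_sum]; exact Finset.sum_congr rfl fun z _ => fix_norm hF _
    have hSJ : σ SJ = SJ := by rw [map_sum]; exact Finset.sum_congr rfl fun z _ => fix_norm hF _
    have e1 := key 1 (Or.inl rfl) (by rwa [pow_one])
    have e2 := key 2 (Or.inr rfl) hμ2
    rw [h_sum hF] at e1 e2
    have h1' : ∑ z, dd μ z * (y z * σ (y z)) = 0 := by
      rw [← e1]; exact Finset.sum_congr rfl fun z _ => by rw [pow_one]; ring
    have h2' : ∑ z, dd (μ ^ 2) z * (y z * σ (y z)) = 0 := by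
      rw [← e2]
      refine Finset.sum_congr rfl fun z _ => ?_
      rw [show dd (μ ^ 2) z = dd μ z ^ 2 by simp only [dd]; split_ifs <;> simp [map_pow]]
      ring
    rw [hsumdd, hN1] at h1' h2'
    change 1 + (μ - 1) * SI + (σ μ - 1) * SJ = 0 at h1'
    change 1 + (μ ^ 2 - 1) * SI + (σ (μ ^ 2) - 1) * SJ = 0 at h2'
    have h1c := congrArg σ h1'
    simp only [map_add, map_mul, map_sub, map_one, map_zero, hSI, hSJ, frob_frob] at h1c
    rw [map_pow] at h2'
    have hsame : (μ - σ μ) * (SI - SJ) = 0 := by linear_combination h1' - h1c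
    have hne : μ - σ μ ≠ 0 := fun e => hμ2 (by linear_combination hμ + μ * e)
    have hS : SI = SJ := sub_eq_zero.1 ((mul_eq_zero.1 hsame).resolve_left hne)
    rw [hS] at h1' h2'
    set t := μ + σ μ
    have ht1 : SJ * t + 1 = 0 := by simp only [t]; linear_combination h1' + SJ * h2
    have ht2 : SJ * t ^ 2 + 1 = 0 := by
      simp only [t]; linear_combination h2' + (SJ + SJ * μ * σ μ) * h2
    have ht0 : SJ * t ≠ 0 := fun e => one_ne_zero (α := F) (by linear_combination ht1 - e)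
    have ht : t = 1 := mul_left_cancel₀ ht0 (by linear_combination ht2 - ht1)
    have h3 : μ ^ 3 = 1 := by
      have : μ ^ 2 + μ + 1 = 0 := by
        simp only [t] at ht; linear_combination μ * ht - hμ + μ * h2
      linear_combination (μ - 1) * this
    exact hμ2 (by linear_combination hμ5 - μ ^ 2 * h3)
  · rw [Units.val_mul, Units.val_mul, hu, Matrix.mul_apply]
    rw [Finset.sum_congr rfl (g := fun z => dd μ z * w z) fun z _ => by
      rw [Matrix.mul_diagonal, inv_apply hF hAG]; simp only [hwdef]; ring]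
    rw [hsumdd, hac0, hrel]
    linear_combination (∑ z ∈ J, w z) * hμ

end CfsgLib.MaxSub.WreathUnitary
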