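/-
Circle vectors of product one orthogonal to a given vector.
-/
import Cfsg.Agent.Lib.MaxSub.WreathUnitary.Circles

set_option autoImplicit false
set_option linter.unusedSectionVars false

namespace CfsgLib.MaxSub.WreathUnitary

open CfsgLib.UnitaryTransvection

variable {F : Type*} [Field F] [Fintype F] {q n : ℕ} (hF : Fintype.card F = q ^ 2)

local notation "σ" => frob hF

theorem exists_block_size {n : ℕ} (hn : 13 ≤ n) :
    ∃ b, 4 ≤ b ∧ Nat.Coprime b n ∧ b + 9 ≤ n ∧ n < 4 ^ (n - b - 7) := by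
  rcases Nat.even_or_odd n with hev | ⟨j, rfl⟩
  swap
  · refine ⟨4, le_rfl, ?_, by omega, ?_⟩
    · rw [show 4 = 2 ^ 2 from rfl]
      exact Nat.Coprime.pow_left 2 (Nat.coprime_two_left.2 (odd_two_mul_add_one j))
    · calc 2 * j + 1 < 4 ^ (j - 4) := by
            obtain ⟨i, rfl⟩ := Nat.exists_eq_add_of_le (show 6 ≤ j by omega)
            rw [show 6 + i - 4 = i + 2 by omega]
            clear hn
            induction i with
            | zero => norm_num
            | succ i ih => rw [show i + 1 + 2 = i + 2 + 1 by omega, pow_succ]; omega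
        _ ≤ 4 ^ (2 * j + 1 - 4 - 7) := Nat.pow_le_pow_right (by norm_num) (by omega)
  obtain ⟨m, rfl⟩ := hev
  by_cases h8 : m ≤ 8
  · obtain rfl | rfl : m = 7 ∨ m = 8 := by omega
    · exact ⟨5, by norm_num, by norm_num, by norm_num, by norm_num⟩
    · exact ⟨5, by norm_num, by norm_num, by norm_num, by norm_num⟩
  have hbig : ∀ i, 9 + i + (9 + i) < 4 ^ (i + 3) := fun i => by
    induction i with
    | zero => norm_num
    | succ i ih => rw [show i + 1 + 3 = i + 3 + 1 by omega, pow_succ]; omega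
  obtain ⟨i, rfl⟩ := Nat.exists_eq_add_of_le (show 9 ≤ m by omega)
  rcases Nat.even_or_odd (9 + i) with hm | hm
  · refine ⟨8 + i, by omega, ?_, by omega, (hbig i).trans_le (Nat.pow_le_pow_right (by norm_num) (by omega))⟩
    have hodd : Odd (8 + i) := by obtain ⟨a, ha⟩ := hm; exact ⟨a - 1, by omega⟩
    rw [show 9 + i + (9 + i) = 2 + (8 + i) * 2 by omega, Nat.coprime_add_mul_left_right]
    exact Nat.coprime_two_right.2 hodd
  · refine ⟨7 + i, by omega, ?_, by omega, (hbig i).trans_le (Nat.pow_le_pow_right (by norm_num) (by omega))⟩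
    have hodd : Odd (7 + i) := by obtain ⟨a, ha⟩ := hm; exact ⟨a - 1, by omega⟩
    rw [show 9 + i + (9 + i) = 4 + (7 + i) * 2 by omega, Nat.coprime_add_mul_left_right,
      show 4 = 2 ^ 2 from rfl]
    exact Nat.Coprime.pow_right 2 (Nat.coprime_two_right.2 hodd)

include hF in
/-- Adjusting four points of a block. -/
theorem block_zero {w d : Fin n → F} {B : Finset (Fin n)} {i j k l : Fin n} (hiB : i ∈ B) (hjB : j ∈ B)
    (hkB : k ∈ B) (hlB : l ∈ B) (hij : i ≠ j) (hik : i ≠ k) (hil : i ≠ l) (hjk : j ≠ k) (hjl : j ≠ l)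
    (hkl : k ≠ l) (hi : w i ≠ 0) (hj : w j ≠ 0) (hk : w k ≠ 0) (hl : w l ≠ 0)
    (hd : ∀ z, d z * σ (d z) = 1) :
    ∃ d' : Fin n → F, (∀ z, d' z * σ (d' z) = 1) ∧
      (∀ z, z ≠ i → z ≠ j → z ≠ k → z ≠ l → d' z = d z) ∧ ∑ z ∈ B, d' z * w z = 0 := by
  classical
  set Rest := (((B.erase i).erase j).erase k).erase l
  set C := ∑ z ∈ Rest, d z * w z
  obtain ⟨ω, hω1, hω⟩ := exists_omega hF
  obtain ⟨x, hx, hxC⟩ : ∃ x : F, x * σ x = 1 ∧ C + x * w l ≠ 0 := by
    by_cases h1 : C + 1 * w l = 0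
    · refine ⟨ω, hω, fun e => hω1 ?_⟩
      exact mul_right_cancel₀ hl (by linear_combination e - h1)
    · exact ⟨1, by simp, h1⟩
  obtain ⟨α, β, γ, hα, hβ, hγ, hsum⟩ := circle3 hF hi hj hk (neg_ne_zero.2 hxC)
  refine ⟨fun z => if z = i then α else if z = j then β else if z = k then γ else
    if z = l then x else d z, fun z => ?_, fun z h1 h2 h3 h4 => by simp [h1, h2, h3, h4], ?_⟩
  · dsimp only
    split_ifs
    exacts [hα, hβ, hγ, hx, hd z]
  rw [← Finset.add_sum_erase _ _ hiB, ← Finset.add_sum_erase _ _ (Finset.mem_erase.2 ⟨hij.symm, hjB⟩),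
    ← Finset.add_sum_erase _ _ (Finset.mem_erase.2 ⟨hjk.symm, Finset.mem_erase.2 ⟨hik.symm, hkB⟩⟩),
    ← Finset.add_sum_erase _ _ (Finset.mem_erase.2
      ⟨hkl.symm, Finset.mem_erase.2 ⟨hjl.symm, Finset.mem_erase.2 ⟨hil.symm, hlB⟩⟩⟩)]
  rw [Finset.sum_congr rfl (g := fun z => d z * w z) fun z hz => by
    simp only [Finset.mem_erase] at hz
    simp [hz.1, hz.2.1, hz.2.2.1, hz.2.2.2.1]]
  simp only [if_pos, hij.symm, hik.symm, hjk.symm, hil.symm, hjl.symm, hkl.symm, if_false]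
  linear_combination hsum

include hF in
/-- Many circle vectors of product one with weighted sum zero. -/
theorem zero_sum (hn : 13 ≤ n) (hq : 3 ≤ q) {w : Fin n → F} {P : Finset (Fin n)} {f₀ : Fin n}
    (hf₀ : f₀ ∈ P) (hP : P.card ≤ 3) (hw : ∀ z ∉ P, w z ≠ 0) {y : Fin n → F}
    (hy : ∀ z ∉ P, y z ≠ 0) (hy₀ : y f₀ ≠ 0) (Y : Fin n → Fin n → F) :
    ∃ d : Fin n → F, (∀ z, d z * σ (d z) = 1) ∧ ∏ z, d z = 1 ∧ ∑ z, d z * w z = 0 ∧
      (∀ z ∈ P, d z = d f₀) ∧ ∀ c (φ : F), (fun z => d z * y z) ≠ φ • Y c := by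
  classical
  obtain ⟨b, hb4, hbn, hb9, hpow⟩ := exists_block_size hn
  obtain ⟨B, hBs, hBc⟩ := Finset.exists_subset_card_eq (s := (Finset.univ \ P : Finset (Fin n))) (n := b)
    (by rw [Finset.card_univ_diff, Fintype.card_fin]; omega)
  obtain ⟨Q₁, hQ₁, hQ₁c⟩ := Finset.exists_subset_card_eq (s := B) (n := 4) (by omega)
  obtain ⟨Q₂, hQ₂, hQ₂c⟩ := Finset.exists_subset_card_eq
    (s := (Finset.univ \ (B ∪ P) : Finset (Fin n))) (n := 4) (by
      rw [Finset.card_univ_diff, Fintype.card_fin]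
      have := Finset.card_union_le B P
      omega)
  set Fr : Finset (Fin n) := Finset.univ \ (B ∪ P ∪ Q₂) with hFr
  have hFrc : n - b - 7 ≤ Fr.card := by
    rw [Finset.card_univ_diff, Fintype.card_fin]
    have := Finset.card_union_le (B ∪ P) Q₂
    have := Finset.card_union_le B P
    omega
  -- a tuple avoiding the forbidden ratios
  obtain ⟨f, hf, hfY⟩ : ∃ f : Fin n → F, (∀ z, f z * σ (f z) = 1) ∧
      ∀ c, ¬ ∀ z ∈ Fr, f z * (y z * Y c f₀) = Y c z * y f₀ ∧ Y c f₀ ≠ 0 := by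
    let T := {z : Fin n // z ∈ Fr} → {x : F // x ∈ circ hF}
    let bad : Fin n → T := fun c z =>
      if h : Y c z * y f₀ / (y z * Y c f₀) ∈ circ hF then ⟨_, h⟩ else ⟨1, one_mem_circ hF⟩
    have hcard : (Finset.univ.image bad).card < Fintype.card T := by
      refine lt_of_le_of_lt Finset.card_image_le ?_
      rw [Finset.card_univ, Fintype.card_fin, Fintype.card_fun, Fintype.card_coe, Fintype.card_coe]
      refine hpow.trans_le ((Nat.pow_le_pow_left (show 4 ≤ (circ hF).card by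
        have := le_card_circ hF; omega) _).trans (Nat.pow_le_pow_right (by
          have := le_card_circ hF; omega) hFrc))
    obtain ⟨g, hg⟩ : ∃ g : T, g ∉ Finset.univ.image bad := by
      by_contra hc
      push Not at hc
      exact absurd hcard (not_lt.2 (Finset.card_le_card fun g _ => hc g))
    refine ⟨fun z => if h : z ∈ Fr then (g ⟨z, h⟩ : F) else 1, fun z => ?_, fun c hall => hg ?_⟩
    · dsimp only
      split_ifs with h
      · exact (mem_circ hF).1 (g ⟨z, h⟩).2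
      · simp
    refine Finset.mem_image.2 ⟨c, Finset.mem_univ c, funext fun z => ?_⟩
    obtain ⟨h1, h2⟩ := hall z z.2
    dsimp only at h1
    rw [dif_pos z.2] at h1
    have hz : y (z : Fin n) ≠ 0 := hy _ fun e => (Finset.mem_sdiff.1 z.2).2
      (Finset.mem_union_left _ (Finset.mem_union_right _ e))
    have e : Y c z * y f₀ / (y z * Y c f₀) = (g z : F) := by
      rw [div_eq_iff (mul_ne_zero hz h2), h1]
    simp only [bad]
    rw [dif_pos (by rw [e]; exact (g z).2)]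
    exact Subtype.ext e
  set d₀ : Fin n → F := fun z => if z ∈ Fr then f z else 1 with hd₀
  have hd₀n : ∀ z, d₀ z * σ (d₀ z) = 1 := fun z => by
    simp only [hd₀]; split_ifs; exacts [hf z, by simp]
  have four : ∀ {Q : Finset (Fin n)}, Q.card = 4 → ∃ i j k l, i ≠ j ∧ i ≠ k ∧ i ≠ l ∧ j ≠ k ∧ j ≠ l ∧
      k ≠ l ∧ Q = {i, j, k, l} := fun {Q} h => Finset.card_eq_four.1 h
  obtain ⟨i, j, k, l, hij, hik, hil, hjk, hjl, hkl, hQ1⟩ := four hQ₁c
  obtain ⟨i', j', k', l', hij', hik', hil', hjk', hjl', hkl', hQ2⟩ := four hQ₂c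
  have hBP : ∀ z ∈ B, z ∉ P := fun z hz => (Finset.mem_sdiff.1 (hBs hz)).2
  have hQ2m : ∀ z ∈ Q₂, z ∉ B ∧ z ∉ P := fun z hz => by
    have := (Finset.mem_sdiff.1 (hQ₂ hz)).2
    rwa [Finset.mem_union, not_or] at this
  subst hQ1
  subst hQ2
  have m1 : ∀ z, (z = i ∨ z = j ∨ z = k ∨ z = l) → z ∈ B := fun z hz => hQ₁ (by simpa using hz)
  obtain ⟨d₁, hd₁, hd₁o, hs₁⟩ := block_zero hF (w := w) (B := B) (m1 i (by simp)) (m1 j (by simp))
    (m1 k (by simp)) (m1 l (by simp)) hij hik hil hjk hjl hkl (hw _ (hBP _ (m1 i (by simp))))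
    (hw _ (hBP _ (m1 j (by simp)))) (hw _ (hBP _ (m1 k (by simp)))) (hw _ (hBP _ (m1 l (by simp)))) hd₀n
  have m2 : ∀ z, (z = i' ∨ z = j' ∨ z = k' ∨ z = l') → z ∉ B ∧ z ∉ P := fun z hz => hQ2m z (by simpa using hz)
  have m2' : ∀ z, (z = i' ∨ z = j' ∨ z = k' ∨ z = l') → z ∈ Bᶜ := fun z hz => Finset.mem_compl.2 (m2 z hz).1
  obtain ⟨d₂, hd₂, hd₂o, hs₂⟩ := block_zero hF (w := w) (B := Bᶜ) (m2' i' (by simp)) (m2' j' (by simp))
    (m2' k' (by simp)) (m2' l' (by simp)) hij' hik' hil' hjk' hjl' hkl' (hw _ (m2 i' (by simp)).2)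
    (hw _ (m2 j' (by simp)).2) (hw _ (m2 k' (by simp)).2) (hw _ (m2 l' (by simp)).2) hd₁
  have hsB : ∑ z ∈ B, d₂ z * w z = 0 := by
    rw [Finset.sum_congr rfl fun z hz => ?_]
    · exact hs₁
    · rw [hd₂o z (fun e => (m2 z (by simp [e])).1 hz) (fun e => (m2 z (by simp [e])).1 hz)
        (fun e => (m2 z (by simp [e])).1 hz) (fun e => (m2 z (by simp [e])).1 hz)]
  -- the product
  set π := ∏ z, d₂ z with hπ
  have hπ1 : π * σ π = 1 := by
    rw [hπ, map_prod, ← Finset.prod_mul_distrib, Finset.prod_eq_one fun z _ => hd₂ z]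
  obtain ⟨x, -, hx⟩ := Nat.exists_mul_mod_eq_one_of_coprime hbn (by omega)
  have hxy : b * x = 1 + b * x / n * n := by
    have := Nat.div_add_mod (b * x) n
    rw [hx, mul_comm n] at this
    omega
  set ρ := σ π ^ x
  set lam := π ^ (b * x / n)
  have hρ : ρ * σ ρ = 1 := circ_pow hF (circ_conj hF hπ1) x
  have hlam : lam * σ lam = 1 := circ_pow hF hπ1 _
  refine ⟨fun z => (if z ∈ B then ρ else 1) * lam * d₂ z, fun z => ?_, ?_, ?_, fun z hz => ?_,
    fun c φ e => ?_⟩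
  · dsimp only
    split_ifs
    · exact circ_mul hF (circ_mul hF hρ hlam) (hd₂ z)
    · rw [one_mul]; exact circ_mul hF hlam (hd₂ z)
  · rw [Finset.prod_mul_distrib, Finset.prod_mul_distrib, Finset.prod_const, Finset.card_univ,
      Fintype.card_fin, Finset.prod_ite_mem, Finset.univ_inter, Finset.prod_const, hBc, ← hπ]
    show (σ π ^ x) ^ b * (π ^ (b * x / n)) ^ n * π = 1
    rw [← pow_mul, ← pow_mul, mul_comm x b, mul_assoc, ← pow_succ, add_comm, ← hxy, ← mul_pow,
      mul_comm (σ π), hπ1, one_pow]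
  · rw [← Finset.sum_add_sum_compl B]
    rw [Finset.sum_congr rfl (g := fun z => ρ * lam * (d₂ z * w z)) fun z hz => by dsimp only; rw [if_pos hz]; ring,
      ← Finset.mul_sum, hsB, mul_zero, zero_add,
      Finset.sum_congr rfl (g := fun z => lam * (d₂ z * w z)) fun z hz => by
        dsimp only; rw [if_neg (Finset.mem_compl.1 hz)]; ring,
      ← Finset.mul_sum, hs₂, mul_zero]
  all_goals
    have hval : ∀ z, z ∉ B → z ∉ ({i', j', k', l'} : Finset (Fin n)) →
        (if z ∈ B then ρ else 1) * lam * d₂ z = lam * d₀ z := fun z h1 h2 => by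
      simp only [Finset.mem_insert, Finset.mem_singleton, not_or] at h2
      rw [if_neg h1, one_mul, hd₂o z h2.1 h2.2.1 h2.2.2.1 h2.2.2.2,
        hd₁o z (fun e => h1 (m1 z (by simp [e]))) (fun e => h1 (m1 z (by simp [e])))
          (fun e => h1 (m1 z (by simp [e]))) (fun e => h1 (m1 z (by simp [e])))]
    have hPz : ∀ z ∈ P, (if z ∈ B then ρ else 1) * lam * d₂ z = lam := fun z hz => by
      rw [hval z (fun e => hBP z e hz) (fun e => (hQ2m z e).2 hz), hd₀]
      simp only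
      rw [if_neg (fun e => (Finset.mem_sdiff.1 e).2 (Finset.mem_union_left _ (Finset.mem_union_right _ hz))),
        mul_one]
  · show (if z ∈ B then ρ else 1) * lam * d₂ z = (if f₀ ∈ B then ρ else 1) * lam * d₂ f₀
    rw [hPz z hz, hPz f₀ hf₀]
  · have hlam0 : lam ≠ 0 := circ_ne_zero hF hlam
    have e0 := congrFun e f₀
    simp only [Pi.smul_apply, smul_eq_mul] at e0
    rw [hPz f₀ hf₀] at e0
    refine hfY c fun z hz => ?_
    have hz' := (Finset.mem_sdiff.1 hz).2
    simp only [Finset.mem_union, not_or] at hz'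
    have e1 := congrFun e z
    simp only [Pi.smul_apply, smul_eq_mul] at e1
    rw [hval z hz'.1.1 hz'.2, hd₀] at e1
    simp only at e1
    rw [if_pos hz] at e1
    refine ⟨mul_left_cancel₀ hlam0 ?_, fun h0 => mul_ne_zero hlam0 hy₀ (by rw [e0, h0, mul_zero])⟩
    linear_combination Y c f₀ * e1 - Y c z * e0

end CfsgLib.MaxSub.WreathUnitary
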