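/-
An overgroup of the monomial group has a non-monomial element fixing a coordinate line.
-/
import Cfsg.Agent.Lib.MaxSub.WreathUnitary.MonoBasic
import Cfsg.Agent.Lib.MaxSub.WreathUnitary.ZeroSum
import Cfsg.Agent.Lib.MaxSub.WreathUnitary.NineSum
import Cfsg.Agent.Lib.MaxSub.WreathUnitary.Swap

set_option autoImplicit false
set_option maxHeartbeats 400000
set_option linter.unusedSectionVars false

namespace CfsgLib.MaxSub.WreathUnitary

open Matrix Module Cfsg Cfsg.Geo CfsgLib.UnitaryTransvection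
open CfsgLib.MaxSub (Ctr sg sg_mem G_isometry)
open CfsgLib.MaxSub.Monomial (Mono monM monM_apply monM_mulVec mono_monM mono_inverse exists_monM
  exists_supp plane_of_mono tor tor_other tor_fst tor_snd prod_tor conj_diag_mem exists_fresh)

variable {F : Type*} [Field F] [Fintype F] {n q : ℕ} (hF : Fintype.card F = q ^ 2)

local notation "h" => Cfsg.hermForm n F q
local notation "σ" => frob hF
local notation "V" => Fin n → F
local notation "Mn" => Matrix (Fin n) (Fin n) F
local notation "G" => Cfsg.GU n F q ⊓ specialLinear (Fin n) F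

variable {K : Subgroup (GL (Fin n) F)}

/-- Three columns of an invertible matrix are not in a coordinate plane. -/
theorem three_cols {A B : Mn} (hAB : A * B = 1) (hBA : B * A = 1) {z₁ z₂ z₃ a b : Fin n}
    (h12 : z₁ ≠ z₂) (h13 : z₁ ≠ z₃) (h23 : z₂ ≠ z₃)
    (hcol : ∀ z ∈ ({z₁, z₂, z₃} : Finset (Fin n)), ∀ k, k ≠ a → k ≠ b → A k z = 0) : False := by
  classical
  let W := Submodule.span F (Set.range ![(Pi.single a 1 : V), Pi.single b 1])
  have hW : finrank F W ≤ 2 := (finrank_range_le_card _).trans (by simp)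
  have hin : ∀ z : ({z₁, z₂, z₃} : Finset (Fin n)), A.col z ∈ W := by
    rintro ⟨z, hz⟩
    by_cases hab : a = b
    · rw [show A.col z = A a z • (Pi.single a 1 : V) from funext fun k => by
        by_cases hka : k = a
        · subst hka; simp
        · simp [Matrix.col_apply, hka, hcol z hz k hka (hab ▸ hka)]]
      exact Submodule.smul_mem _ _ (Submodule.subset_span ⟨0, rfl⟩)
    rw [show A.col z = A a z • (Pi.single a 1 : V) + A b z • Pi.single b 1 from funext fun k => by
      simp only [Matrix.col_apply, Pi.add_apply, Pi.smul_apply, smul_eq_mul, Pi.single_apply]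
      by_cases hka : k = a
      · subst hka; simp [hab]
      by_cases hkb : k = b
      · subst hkb; simp [Ne.symm hab]
      · simp [hka, hkb, hcol z hz k hka hkb]]
    exact add_mem (Submodule.smul_mem _ _ (Submodule.subset_span ⟨0, rfl⟩))
      (Submodule.smul_mem _ _ (Submodule.subset_span ⟨1, rfl⟩))
  have hli : LinearIndependent F fun z : ({z₁, z₂, z₃} : Finset (Fin n)) => (⟨_, hin z⟩ : W) := by
    refine LinearIndependent.of_comp W.subtype ?_
    exact (Matrix.linearIndependent_cols_of_isUnit ⟨⟨A, B, hAB, hBA⟩, rfl⟩).comp Subtype.val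
      Subtype.val_injective
  have := hli.fintype_card_le_finrank
  rw [Fintype.card_coe, Finset.card_insert_of_notMem (by simp [h12, h13]),
    Finset.card_pair h23] at this
  omega

include hF in
theorem exists_mu (hq : 3 ≤ q) :
    ∃ μ : F, μ * σ μ = 1 ∧ μ ≠ 0 ∧ μ ≠ 1 ∧ μ ^ 2 ≠ 1 ∧ μ ^ 3 ≠ 1 := by
  obtain ⟨z, hz, hz1⟩ := exists_gen hF
  have key : ∀ i, 0 < i → i < q + 1 → (z : F) ^ i ≠ 1 := fun i h0 hi e => by
    have := Nat.le_of_dvd h0 (orderOf_dvd_of_pow_eq_one (Units.ext (by simpa using e) : z ^ i = 1))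
    omega
  exact ⟨z, hz1, z.ne_zero, by simpa using key 1 (by omega) (by omega), key 2 (by omega) (by omega),
    key 3 (by omega) (by omega)⟩

include hF in
theorem tor_circ {z z' : Fin n} {μ : F} (hμ : μ * σ μ = 1) (i : Fin n) :
    tor z z' μ i * σ (tor z z' μ i) = 1 := by
  unfold Monomial.tor
  split_ifs
  · exact hμ
  · rw [← circ_inv hF hμ, frob_frob, mul_comm]; exact hμ
  · simp

include hF in
/-- Under the failure hypothesis columns of non-monomial elements have at most one zero. -/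
theorem two_zeros (U : UW q 1 (stdD n F) K) (hn5 : 5 ≤ n) (hq : 3 ≤ q) (hf : Fail K) {A : GL (Fin n) F}
    (hA : A ∈ K) (hm : ¬ Mono (A : Mn)) {p z z' : Fin n} (hne : z ≠ z') (hz : (A : Mn) z p = 0)
    (hz' : (A : Mn) z' p = 0) : False := by
  classical
  have hn := U.dim
  obtain ⟨μ, hμ, hμ0, -, hμ2, hμ3⟩ := exists_mu hF hq
  -- the plane of two zeros
  have plane : ∀ {A : GL (Fin n) F}, A ∈ K → ∀ {p z z' : Fin n}, z ≠ z' → (A : Mn) z p = 0 →
      (A : Mn) z' p = 0 → ∃ a b, ∀ k, k ≠ a → k ≠ b →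
        ((A⁻¹ : GL (Fin n) F) : Mn) k z = 0 ∧ ((A⁻¹ : GL (Fin n) F) : Mn) k z' = 0 := by
    intro A hA p z z' hne hz hz'
    obtain ⟨u, huK, -, hu⟩ := exists_diag_mem hF U (tor z z' μ) (fun i => tor_circ hF hμ i) (prod_tor hne hμ0)
    refine plane_of_mono (Units.inv_mul A) (Units.mul_inv A) hne hμ0 hμ2 hμ3 ?_
    rw [← hu, ← Units.val_mul, ← Units.val_mul]
    refine hf _ (mul_mem (mul_mem (inv_mem hA) huK) hA) p p fun i hi => ?_
    rw [Units.val_mul, Units.val_mul, hu, ← Matrix.one_apply_ne (α := F) hi, ← Units.inv_mul A,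
      Matrix.mul_apply, Matrix.mul_apply]
    refine Finset.sum_congr rfl fun k _ => ?_
    rw [Matrix.mul_diagonal]
    by_cases hk : k = z
    · rw [hk, hz, mul_zero, mul_zero]
    by_cases hk' : k = z'
    · rw [hk', hz', mul_zero, mul_zero]
    · rw [tor_other hk hk', mul_one]
  obtain ⟨a, b, hab⟩ := plane hA hne hz hz'
  have hpair : ∀ x y, x ≠ a → x ≠ b → y ≠ a → y ≠ b → x ≠ y →
      ∃ c d, ∀ k, k ≠ c → k ≠ d → (A : Mn) k x = 0 ∧ (A : Mn) k y = 0 := by
    intro x y hxa hxb hya hyb hxy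
    have := plane (inv_mem hA) (p := z) hxy (hab x hxa hxb).1 (hab y hya hyb).1
    rwa [inv_inv] at this
  obtain ⟨x₁, hx₁⟩ := exists_fresh ({a, b} : Finset (Fin n)) (lt_of_le_of_lt Finset.card_le_two (by omega))
  simp only [Finset.mem_insert, Finset.mem_singleton, not_or] at hx₁
  obtain ⟨x₂, hx₂⟩ := exists_fresh ({a, b, x₁} : Finset (Fin n)) (lt_of_le_of_lt Finset.card_le_three (by omega))
  simp only [Finset.mem_insert, Finset.mem_singleton, not_or] at hx₂
  obtain ⟨x₃, hx₃⟩ := exists_fresh ({a, b, x₁, x₂} : Finset (Fin n))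
    (lt_of_le_of_lt Finset.card_le_four (by omega))
  simp only [Finset.mem_insert, Finset.mem_singleton, not_or] at hx₃
  obtain ⟨c, d, hcd⟩ := hpair x₁ x₂ hx₁.1 hx₁.2 hx₂.1 hx₂.2.1 (Ne.symm hx₂.2.2)
  obtain ⟨c', d', hcd'⟩ := hpair x₁ x₃ hx₁.1 hx₁.2 hx₃.1 hx₃.2.1 (Ne.symm hx₃.2.2.1)
  by_cases hone : ∃ j, ∀ i, i ≠ j → (A : Mn) i x₁ = 0
  · obtain ⟨j, hj⟩ := hone
    exact hm (hf A hA x₁ j hj)
  push Not at hone
  obtain ⟨i₁, hi₁', hi₁⟩ := hone c
  obtain ⟨i₂, hi₂', hi₂⟩ := hone d
  have e1 : i₁ = d := by_contra fun h' => hi₁ (hcd i₁ hi₁' h').1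
  have e2 : i₂ = c := by_contra fun h' => hi₂ (hcd i₂ h' hi₂').1
  rw [e1] at hi₁ hi₁'
  rw [e2] at hi₂
  have hd' : d = c' ∨ d = d' := by_contra fun h' => by
    push Not at h'; exact hi₁ (hcd' d h'.1 h'.2).1
  have hc' : c = c' ∨ c = d' := by_contra fun h' => by
    push Not at h'; exact hi₂ (hcd' c h'.1 h'.2).1
  refine three_cols (Units.mul_inv A) (Units.inv_mul A) (a := c) (b := d) (Ne.symm hx₂.2.2)
    (Ne.symm hx₃.2.2.1) (Ne.symm hx₃.2.2.2) fun x hx k hkc hkd => ?_
  simp only [Finset.mem_insert, Finset.mem_singleton] at hx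
  rcases hx with rfl | rfl | rfl
  · exact (hcd k hkc hkd).1
  · exact (hcd k hkc hkd).2
  · refine (hcd' k ?_ ?_).2 <;> intro e <;> grind

include hF in
theorem not_mono_inv {A : GL (Fin n) F} (hm : ¬ Mono (A : Mn)) :
    ¬ Mono ((A⁻¹ : GL (Fin n) F) : Mn) := fun h' => hm (mono_inverse h' (Units.inv_mul A))

include hF in
/-- A conjugate of a diagonal matrix. -/
theorem conj_entry {A : GL (Fin n) F} (hA : A ∈ G) (d : V) (i j : Fin n) :
    ((A : Mn) * Matrix.diagonal d * ((A⁻¹ : GL (Fin n) F) : Mn)) i j =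
      ∑ z, d z * ((A : Mn) i z * σ ((A : Mn) j z)) := by
  rw [Matrix.mul_apply]
  refine Finset.sum_congr rfl fun z _ => ?_
  rw [Matrix.mul_diagonal, inv_apply hF hA]
  ring

include hF in
/-- Columns of a conjugate of a diagonal matrix. -/
theorem conj_not_mono (U : UW q 1 (stdD n F) K) (hf : Fail K) {A u : GL (Fin n) F} (hA : A ∈ K)
    {d : V} (huK : u ∈ K) (hu : (u : Mn) = Matrix.diagonal d) (c : Fin n)
    (hd : ∀ c' (φ : F), (fun z => d z * ((A⁻¹ : GL (Fin n) F) : Mn) z c) ≠
      φ • ((A⁻¹ : GL (Fin n) F) : Mn).col c') :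
    A * u * A⁻¹ ∈ K ∧ ¬ Mono ((A * u * A⁻¹ : GL (Fin n) F) : Mn) := by
  refine ⟨mul_mem (mul_mem hA huK) (inv_mem hA), fun hM => ?_⟩
  obtain ⟨c', hc'⟩ := hM c
  refine hd c' (((A * u * A⁻¹ : GL (Fin n) F) : Mn) c' c) (funext fun z => ?_)
  have e : ((A⁻¹ : GL (Fin n) F) : Mn) * ((A * u * A⁻¹ : GL (Fin n) F) : Mn) =
      Matrix.diagonal d * ((A⁻¹ : GL (Fin n) F) : Mn) := by
    rw [← hu, ← Units.val_mul, ← Units.val_mul]
    congr 1
    group
  have e1 := congrFun (congrFun e z) c
  rw [Matrix.diagonal_mul, Matrix.mul_apply,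
    Finset.sum_eq_single c' (fun k _ hk => by rw [hc' k hk, mul_zero])
      (fun h' => absurd (Finset.mem_univ c') h')] at e1
  simp only [Pi.smul_apply, smul_eq_mul, Matrix.col_apply]
  rw [← e1, mul_comm]

include hF in
/-- Under the failure hypothesis some non-monomial element has a zero. -/
theorem first_zero (U : UW q 1 (stdD n F) K) (hn5 : 5 ≤ n) (hq : 3 ≤ q) (hf : Fail K) {g : GL (Fin n) F}
    (hg : g ∈ K) (hm : ¬ Mono (g : Mn)) :
    ∃ A ∈ K, ¬ Mono ((A : GL (Fin n) F) : Mn) ∧ ∃ x p, (A : Mn) x p = 0 := by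
  classical
  by_cases h0 : ∃ x p, (g : Mn) x p = 0
  · exact ⟨g, hg, hm, h0⟩
  push Not at h0
  have hn := U.dim
  let p : Fin n := ⟨0, by omega⟩
  exact exists_zero_entry hF U hn5 hq hg h0

include hF in
/-- An element of the monomial group fixing a column gives a sparse column of the inverse. -/
theorem sparse_of_fix (U : UW q 1 (stdD n F) K) (hq : 3 ≤ q) (hf : Fail K) {A H : GL (Fin n) F}
    (hA : A ∈ K) (hm : ¬ Mono (A : Mn)) (hH : H ∈ K) {p : Fin n} {lam c : F} (hc : c ≠ 0)
    (hfix : (H : Mn) *ᵥ (A : Mn).col p = lam • (A : Mn).col p) (W : Submodule F V)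
    (hW : ∀ x, c • (((A⁻¹ * H * A : GL (Fin n) F) : Mn) *ᵥ x) - x ∈ W) :
    ∃ M : Finset (Fin n), M.card ≤ 2 * finrank F W ∧
      ∀ x i, i ∉ M → (c • (((A⁻¹ * H * A : GL (Fin n) F) : Mn) *ᵥ x) - x) i = 0 := by
  set T := A⁻¹ * H * A
  have hT : T ∈ K := mul_mem (mul_mem (inv_mem hA) hH) hA
  have hMono : Mono (T : Mn) := by
    refine hf T hT p p fun i hi => ?_
    have : (T : Mn) *ᵥ Pi.single p 1 = lam • (Pi.single p 1 : V) := by
      simp only [T, Units.val_mul, ← Matrix.mulVec_mulVec]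
      rw [Matrix.mulVec_single_one (A : Mn), hfix, Matrix.mulVec_smul, ← Matrix.mulVec_single_one,
        Matrix.mulVec_mulVec, Units.inv_mul, Matrix.one_mulVec]
    have := congrFun this i
    simpa [Matrix.mulVec_single_one, hi] using this
  obtain ⟨π, e, -, he⟩ := exists_monM hMono
    ((Matrix.isUnit_iff_isUnit_det _).1 T.isUnit).ne_zero
  have he' : ∀ x, monM π (fun j => c * e j) *ᵥ x = c • ((T : Mn) *ᵥ x) := fun x => funext fun i => by
    rw [he, Pi.smul_apply, monM_mulVec, monM_mulVec, smul_eq_mul, mul_assoc]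
  obtain ⟨M, hM, -, hMs⟩ := exists_supp W
    (fun x => show monM π (fun j => c * e j) *ᵥ x - x ∈ W by rw [he']; exact hW x)
  exact ⟨M, hM, fun x i hi => by rw [← he']; exact hMs x i hi⟩

include hF in
theorem sparse_false (U : UW q 1 (stdD n F) K) (hn5 : 5 ≤ n) (hq : 3 ≤ q) (hf : Fail K) {A : GL (Fin n) F}
    (hA : A ∈ K) (hm : ¬ Mono (A : Mn)) {j : Fin n} {M : Finset (Fin n)} (hM : M.card + 2 ≤ n)
    (hz : ∀ i ∉ M, ((A⁻¹ : GL (Fin n) F) : Mn) i j = 0) : False := by
  classical
  obtain ⟨z, hz1⟩ := exists_fresh M (by omega)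
  obtain ⟨z', hz'⟩ := exists_fresh (insert z M) (lt_of_le_of_lt (Finset.card_insert_le _ _) (by omega))
  simp only [Finset.mem_insert, not_or] at hz'
  exact two_zeros hF U hn5 hq hf (inv_mem hA) (not_mono_inv hF hm) (Ne.symm hz'.1) (hz z hz1) (hz z' hz'.2)

include hF in
/-- The case of nine lines over sixty-four elements. -/
theorem nine_false (U : UW q 1 (stdD n F) K) (hn : n = 9) (hq : q = 8) (h2 : (2 : F) = 0) (hf : Fail K)
    {A : GL (Fin n) F} (hA : A ∈ K) (hm : ¬ Mono (A : Mn)) {a b x p : Fin n} (hab : a ≠ b) (hax : a ≠ x)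
    (hbx : b ≠ x) (hxp : (A : Mn) x p = 0) {φ : F} (hσφ : σ φ ≠ 0) {M : Finset (Fin n)} (hM : M.card ≤ 2)
    {Af : V} (hAf : ∀ i ∉ M, Af i = 0) (hAfp : Af p = 0)
    (hAAf : (A : Mn) *ᵥ Af = Pi.single a 1 - φ • Pi.single b 1) (hnz : ∀ z ∉ M, (A : Mn) a z ≠ 0) : False := by
  classical
  have hAG := U.le hA
  have hinv : ∀ z, ((A⁻¹ : GL (Fin n) F) : Mn) z x = σ ((A : Mn) x z) := fun z => inv_apply hF hAG z x
  have hone : ∀ z, z ≠ p → (A : Mn) x z ≠ 0 := fun z hz e =>
    two_zeros hF U (by omega) (by omega) hf (inv_mem hA) (not_mono_inv hF hm) hz (p := x)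
      (by rw [hinv, e, map_zero]) (by rw [hinv, hxp, map_zero])
  set w : V := fun z => (A : Mn) a z * σ ((A : Mn) x z) with hw
  set S := Finset.univ \ insert p M with hSdef
  have hSm : ∀ z ∈ S, z ≠ p ∧ z ∉ M := fun z hz => by
    have := (Finset.mem_sdiff.1 hz).2
    rwa [Finset.mem_insert, not_or] at this
  obtain ⟨Q, f, hQS, hQc, hfc, hfs, z₀, hz₀, hf₀⟩ := exists_change hF h2 hq (w := w) (S := S) (by
      rw [hSdef, Finset.card_univ_sdiff, Fintype.card_fin]
      have := Finset.card_insert_le p M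
      omega)
    fun z hz => mul_ne_zero (hnz z (hSm z hz).2) fun e => hone z (hSm z hz).1 (frob_eq_zero hF e)
  have hpQ : p ∉ Q := fun e => (hSm p (hQS e)).1 rfl
  obtain ⟨d, hd, hdp, hds, hdo, hdQ⟩ := complete_sum hF (w := w) hpQ (by simp [hw, hxp]) hfc hfs
  obtain ⟨u, huK, -, hu⟩ := exists_diag_mem hF U d hd hdp
  set T := A * u * A⁻¹ with hTdef
  have hTK : T ∈ K := mul_mem (mul_mem hA huK) (inv_mem hA)
  by_cases hTm : Mono (T : Mn)
  · -- a sparse conjugate
    set R := insert p Q with hR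
    obtain ⟨π, e, -, he⟩ := exists_monM hTm ((Matrix.isUnit_iff_isUnit_det _).1 T.isUnit).ne_zero
    have hW' : ∀ y, monM π e *ᵥ y - y ∈ Submodule.span F (Set.range fun i : R => (A : Mn).col i) :=
      fun y => by
        rw [← he, hTdef, Units.val_mul, Units.val_mul, hu]
        exact Monomial.conj_diag_mem (Units.mul_inv A) (fun i hi => by
          rw [hR, Finset.mem_insert, not_or] at hi; exact hdo i hi.1 hi.2) y
    obtain ⟨M', hM', -, hMs⟩ := exists_supp _ hW'
    have hRc : R.card ≤ 4 := (Finset.card_insert_le p Q).trans (by omega)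
    have hW : finrank F (Submodule.span F (Set.range fun i : R => (A : Mn).col i)) ≤ 4 :=
      (finrank_range_le_card _).trans (by rw [Fintype.card_coe]; exact hRc)
    obtain ⟨o, ho⟩ := exists_fresh M' (by omega)
    have hzero : ∀ z, d z ≠ 1 → (A : Mn) o z = 0 := fun z hz => by
      have h1 := hMs ((A : Mn).col z) o ho
      rw [← he, hTdef, Units.val_mul, Units.val_mul, hu, ← Matrix.mulVec_mulVec, ← Matrix.mulVec_mulVec,
        ← Matrix.mulVec_single_one (A : Mn), Matrix.mulVec_mulVec (Pi.single z 1 : V) ((A⁻¹ : GL (Fin n) F) : Mn),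
        Units.inv_mul, Matrix.one_mulVec] at h1
      simp [Matrix.mulVec_single, Matrix.diagonal_apply] at h1
      exact (mul_eq_zero.1 (show (d z - 1) * (A : Mn) o z = 0 by linear_combination h1)).resolve_left
        (sub_ne_zero.2 hz)
    obtain ⟨z₁, hz₁, hne⟩ : ∃ z₁, d z₁ ≠ 1 ∧ z₁ ≠ z₀ := by
      by_contra hc
      push Not at hc
      refine hf₀ ?_
      rw [← hdQ z₀ hz₀, ← hdp]
      exact (Finset.prod_eq_single z₀ (fun z _ hz => not_not.1 fun e => hz (hc z e)) (by simp)).symm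
    exact two_zeros hF U (by omega) (by omega) hf (inv_mem hA) (not_mono_inv hF hm) hne (p := o)
      (by rw [inv_apply hF hAG, hzero z₁ hz₁, map_zero])
      (by rw [inv_apply hF hAG, hzero z₀ (by rw [hdQ z₀ hz₀]; exact hf₀), map_zero])
  have hTax : (T : Mn) a x = 0 := by
    rw [hTdef, Units.val_mul, Units.val_mul, hu, conj_entry hF hAG]
    show ∑ z, d z * w z = 0
    rw [hds]
    have h1 := congrFun (congrFun (Units.mul_inv A) a) x
    rw [Matrix.mul_apply, Matrix.one_apply_ne hax] at h1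
    rw [← h1]
    exact Finset.sum_congr rfl fun z _ => by rw [hinv]
  have hTf : (T : Mn) *ᵥ (Pi.single a 1 - φ • Pi.single b 1) = Pi.single a 1 - φ • Pi.single b 1 := by
    have e1 : (u : Mn) *ᵥ Af = Af := funext fun i => by
      rw [hu, Matrix.mulVec_diagonal]
      by_cases hi : i = p ∨ i ∉ M
      · rw [show Af i = 0 from hi.elim (fun e => e ▸ hAfp) (hAf i), mul_zero]
      · rw [not_or, not_not] at hi
        rw [hdo i hi.1 (fun e => (hSm i (hQS e)).2 hi.2), one_mul]
    rw [← hAAf, Matrix.mulVec_mulVec, hTdef, ← Units.val_mul, inv_mul_cancel_right, Units.val_mul,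
      ← Matrix.mulVec_mulVec, e1]
  have e1 := G_isometry (U.le hTK) (Pi.single x 1) (Pi.single a 1 - φ • Pi.single b 1)
  rw [hTf, h_sub_right hF, h_sub_right hF, h_smul_right hF, h_smul_right hF,
    h_single_right hF, h_single_right hF, h_single_right hF, h_single_right hF, Matrix.mulVec_single_one,
    Matrix.col_apply, Matrix.col_apply, hTax, Pi.single_eq_of_ne hax, Pi.single_eq_of_ne hbx] at e1
  exact two_zeros hF U (by omega) (by omega) hf hTK hTm hab hTax (by simpa [hσφ] using e1)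

include hF in
/-- The failure hypothesis is false. -/
theorem fail_false (U : UW q 1 (stdD n F) K) (hn5 : 5 ≤ n) (hn6 : 6 ≤ n ∨ ¬ q + 1 ∣ n) (hq : 3 ≤ q) (hf : Fail K) {g : GL (Fin n) F}
    (hg : g ∈ K) (hmg : ¬ Mono (g : Mn)) : False := by
  classical
  obtain ⟨A, hA, hm, x, p, hxp⟩ := first_zero hF U hn5 hq hf hg hmg
  have hn := U.dim
  have hAG := U.le hA
  obtain ⟨ζ, hζ, hζ1⟩ := exists_gen hF
  by_cases hR : (ζ : F) ^ n = 1
  swap
  · -- a scaled pseudo-reflection at `x`
    have hζ0 : (ζ : F) ≠ 0 := ζ.ne_zero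
    set d : V := fun z => (if z = x then ((ζ : F) ^ n)⁻¹ else 1) * ζ
    have hd : ∀ z, d z * σ (d z) = 1 := fun z => by
      refine circ_mul hF ?_ hζ1
      split_ifs
      · rw [← circ_inv hF (circ_pow hF hζ1 n)]; exact circ_conj hF (circ_pow hF hζ1 n)
      · simp
    have hdp : ∏ z, d z = 1 := by
      rw [Finset.prod_mul_distrib, Finset.prod_ite_eq', if_pos (Finset.mem_univ x), Finset.prod_const,
        Finset.card_univ, Fintype.card_fin, inv_mul_cancel₀ (pow_ne_zero _ hζ0)]
    obtain ⟨H, hHK, -, hH⟩ := exists_diag_mem hF U d hd hdp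
    set Be := ((A⁻¹ : GL (Fin n) F) : Mn).col x
    have hdiff : ∀ y, (ζ : F)⁻¹ • (((A⁻¹ * H * A : GL (Fin n) F) : Mn) *ᵥ y) - y =
        ((((ζ : F) ^ n)⁻¹ - 1) * ((A : Mn) *ᵥ y) x) • Be := by
      intro y
      have e1 : (ζ : F)⁻¹ • ((H : Mn) *ᵥ ((A : Mn) *ᵥ y)) = (A : Mn) *ᵥ y +
          ((((ζ : F) ^ n)⁻¹ - 1) * ((A : Mn) *ᵥ y) x) • (Pi.single x 1 : V) := funext fun z => by
        rw [hH, Pi.smul_apply, Pi.add_apply, Pi.smul_apply, Matrix.mulVec_diagonal]
        simp only [d, smul_eq_mul, Pi.single_apply]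
        split_ifs with hz
        · subst hz; field_simp; ring
        · field_simp; ring
      rw [Units.val_mul, Units.val_mul, ← Matrix.mulVec_mulVec, ← Matrix.mulVec_mulVec,
        ← Matrix.mulVec_smul, e1, Matrix.mulVec_add, Matrix.mulVec_smul, Matrix.mulVec_mulVec,
        Units.inv_mul, Matrix.one_mulVec, Matrix.mulVec_single_one, add_sub_cancel_left]
    obtain ⟨M, hM, hMs⟩ := sparse_of_fix hF U hq hf hA hm hHK (inv_ne_zero hζ0) (p := p) (lam := ζ)
      (funext fun z => by
        rw [hH, Matrix.mulVec_diagonal, Pi.smul_apply, Matrix.col_apply]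
        simp only [d, smul_eq_mul]
        split_ifs with hz
        · subst hz; rw [hxp, mul_zero, mul_zero]
        · rw [one_mul])
      (Submodule.span F {Be}) fun y => by
        rw [hdiff]; exact Submodule.smul_mem _ _ (Submodule.mem_span_singleton_self Be)
    have hc0 : ((ζ : F) ^ n)⁻¹ - 1 ≠ 0 := sub_ne_zero.2 fun e => hR (inv_eq_one.1 e)
    have h1 : finrank F (Submodule.span F {Be}) ≤ 1 := by
      refine le_trans (finrank_span_le_card ({Be} : Set V)) ?_
      simp
    refine sparse_false hF U hn5 hq hf hA hm (j := x) (M := M) (by omega) fun i hi => ?_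
    have := hMs Be i hi
    rw [hdiff, show (A : Mn) *ᵥ Be = Pi.single x 1 by
      show (A : Mn) *ᵥ ((A⁻¹ : GL (Fin n) F) : Mn).col x = _
      rw [← Matrix.mulVec_single_one, Matrix.mulVec_mulVec, Units.mul_inv, Matrix.one_mulVec]] at this
    simpa [hc0, Be] using this
  -- two coordinates of equal norm
  have hdvd : q + 1 ∣ n := by
    rw [← hζ]; exact orderOf_dvd_of_pow_eq_one (Units.ext (by simpa using hR))
  have hn : 6 ≤ n := hn6.resolve_right (not_not.2 hdvd)
  have hqn : q + 1 ≤ n := Nat.le_of_dvd (by omega) hdvd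
  set v := (A : Mn).col p with hv
  have hvz : ∀ z, z ≠ x → v z ≠ 0 := fun z hz e => two_zeros hF U hn5 hq hf hA hm hz e hxp
  obtain ⟨a, ha, b, hb, hab, hN⟩ : ∃ a ∈ Finset.univ.erase x, ∃ b ∈ Finset.univ.erase x,
      a ≠ b ∧ v a * σ (v a) = v b * σ (v b) := by
    refine Finset.exists_ne_map_eq_of_card_lt_of_maps_to
      (t := (Finset.univ.filter fun y : F => σ y = y).erase 0) ?_ fun z hz => ?_
    · rw [Finset.card_erase_of_mem (Finset.mem_univ x), Finset.card_univ, Fintype.card_fin,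
        Finset.card_erase_of_mem (show (0 : F) ∈ Finset.univ.filter fun y : F => σ y = y from
          Finset.mem_filter.2 ⟨Finset.mem_univ _, map_zero _⟩)]
      have := card_fix_le hF
      omega
    · refine Finset.mem_erase.2 ⟨mul_ne_zero (hvz z (Finset.ne_of_mem_erase hz))
        fun e => hvz z (Finset.ne_of_mem_erase hz) (frob_eq_zero hF e),
        Finset.mem_filter.2 ⟨Finset.mem_univ _, fix_norm hF _⟩⟩
  have hax := Finset.ne_of_mem_erase ha
  have hbx := Finset.ne_of_mem_erase hb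
  set φ := v b / v a
  have hva := hvz a hax
  have hvb := hvz b hbx
  have hφ : φ * σ φ = 1 := by
    have : σ (v a) ≠ 0 := fun e => hva (frob_eq_zero hF e)
    simp only [φ, map_div₀]
    field_simp
    linear_combination -hN
  set e : V := fun z => if z = a then φ else if z = b then σ φ else if z = x then -1 else 1
  have he : ∀ z, e z * σ (e z) = 1 := fun z => by
    simp only [e]
    split_ifs
    exacts [hφ, circ_conj hF hφ, by simp, by simp]
  have hdet : ((Equiv.Perm.sign (Equiv.swap a b) : ℤ) : F) * ∏ z, e z = 1 := by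
    rw [Equiv.Perm.sign_swap hab, ← Finset.mul_prod_erase _ _ (Finset.mem_univ a),
      ← Finset.mul_prod_erase _ _ (Finset.mem_erase.2 ⟨hab.symm, Finset.mem_univ b⟩),
      ← Finset.mul_prod_erase _ _ (Finset.mem_erase.2 ⟨hbx.symm, Finset.mem_erase.2 ⟨hax.symm, Finset.mem_univ x⟩⟩),
      Finset.prod_eq_one fun z hz => by
        simp only [Finset.mem_erase] at hz
        simp [e, hz.1, hz.2.1, hz.2.2.1]]
    simp only [e, if_pos, hab.symm, hax.symm, hbx.symm, if_false]
    push_cast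
    linear_combination hφ
  obtain ⟨H, hHK, hHG, hH⟩ := exists_monM_mem hF U (Equiv.swap a b) e he hdet
  have hHy : ∀ (y : V) z, ((H : Mn) *ᵥ y) z = if z = a then σ φ * y b else if z = b then φ * y a
      else if z = x then -y x else y z := fun y z => by
    rw [hH, monM_mulVec, Equiv.symm_swap]
    by_cases hza : z = a
    · subst hza; simp [e, hab.symm]
    by_cases hzb : z = b
    · subst hzb; simp [e, hza]
    rw [Equiv.swap_apply_of_ne_of_ne hza hzb, if_neg hza, if_neg hzb]
    by_cases hzx : z = x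
    · subst hzx; simp [e, hza, hzb]
    · simp [e, hza, hzb, hzx]
  set f : V := Pi.single a 1 - φ • Pi.single b 1 with hf'
  set s : V := Pi.single x 1
  have hres : ∀ y, (H : Mn) *ᵥ y - y = (σ φ * y b - y a) • f + (-2 * y x) • s := fun y => funext fun z => by
    rw [Pi.sub_apply, hHy, hf']
    simp only [s, Pi.add_apply, Pi.smul_apply, Pi.sub_apply, smul_eq_mul, Pi.single_apply]
    by_cases hza : z = a
    · subst hza; simp [hab, hax]
    by_cases hzb : z = b
    · subst hzb; simp [hza, hbx]; linear_combination y z * hφ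
    by_cases hzx : z = x
    · subst hzx; simp [hza, hzb]; ring
    · simp [hza, hzb, hzx]
  set Af := ((A⁻¹ : GL (Fin n) F) : Mn) *ᵥ f
  set As := ((A⁻¹ : GL (Fin n) F) : Mn) *ᵥ s
  have hdiff : ∀ y, (1 : F) • (((A⁻¹ * H * A : GL (Fin n) F) : Mn) *ᵥ y) - y =
      (σ φ * ((A : Mn) *ᵥ y) b - ((A : Mn) *ᵥ y) a) • Af + (-2 * ((A : Mn) *ᵥ y) x) • As := fun y => by
    have e : ((A⁻¹ : GL (Fin n) F) : Mn) *ᵥ ((A : Mn) *ᵥ y) = y := by
      rw [Matrix.mulVec_mulVec, Units.inv_mul, Matrix.one_mulVec]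
    rw [one_smul, ← Matrix.mulVec_smul, ← Matrix.mulVec_smul, ← Matrix.mulVec_add, ← hres,
      Matrix.mulVec_sub, Units.val_mul, Units.val_mul, ← Matrix.mulVec_mulVec, ← Matrix.mulVec_mulVec, e]
  have hfix : (H : Mn) *ᵥ v = (1 : F) • v := funext fun z => by
    rw [hHy, one_smul]
    split_ifs with h1 h2 h3
    · subst h1
      have : v b = φ * v z := by simp only [φ]; field_simp
      rw [this]; linear_combination v z * hφ
    · subst h2; simp only [φ]; field_simp
    · subst h3; rw [show v z = 0 from hxp, neg_zero]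
    · rfl
  by_cases h2 : (2 : F) = 0
  swap
  · obtain ⟨M, hM, hMs⟩ := sparse_of_fix hF U hq hf hA hm hHK one_ne_zero hfix
      (Submodule.span F (Set.range ![Af, As])) fun y => by
        rw [hdiff]
        exact add_mem (Submodule.smul_mem _ _ (Submodule.subset_span ⟨0, rfl⟩))
          (Submodule.smul_mem _ _ (Submodule.subset_span ⟨1, rfl⟩))
    have h1 : finrank F (Submodule.span F (Set.range ![Af, As])) ≤ 2 :=
      (finrank_range_le_card _).trans (by simp)
    refine sparse_false hF U hn5 hq hf hA hm (j := x) (M := M) (by omega) fun i hi => ?_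
    have := hMs As i hi
    rw [hdiff, show (A : Mn) *ᵥ As = s by
      simp only [As]; rw [Matrix.mulVec_mulVec, Units.mul_inv, Matrix.one_mulVec]] at this
    simpa [s, hax.symm, hbx.symm, hax, hbx, h2, As, Matrix.mulVec_single_one] using this
  -- characteristic two
  obtain ⟨M, hM, hMs⟩ := sparse_of_fix hF U hq hf hA hm hHK one_ne_zero hfix
    (Submodule.span F {Af}) fun y => by
      rw [hdiff, h2]
      simpa using Submodule.smul_mem _ _ (Submodule.mem_span_singleton_self Af)
  have hcardM : M.card ≤ 2 := by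
    have h1 : finrank F (Submodule.span F {Af}) ≤ 1 := by
      refine le_trans (finrank_span_le_card ({Af} : Set V)) ?_
      simp
    omega
  have hAf : ∀ i ∉ M, Af i = 0 := fun i hi => by
    have := hMs (((A⁻¹ : GL (Fin n) F) : Mn) *ᵥ Pi.single a 1) i hi
    rw [hdiff, Matrix.mulVec_mulVec, Units.mul_inv, Matrix.one_mulVec, h2] at this
    simpa [hab] using this
  -- the rows `a` and `b` are proportional outside `M`
  have hrow : ∀ z ∉ M, (A : Mn) a z - σ φ * (A : Mn) b z = 0 := fun z hz => by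
    have e1 : h ((A : Mn) *ᵥ Pi.single z 1) f = h (Pi.single z 1) Af := by
      rw [← G_isometry hAG (Pi.single z 1) Af]
      simp only [Af]
      rw [Matrix.mulVec_mulVec, Units.mul_inv, Matrix.one_mulVec]
    rw [h_single_left hF, hAf z hz, map_zero, hf', h_sub_right hF, h_smul_right hF, h_single_right hF,
      h_single_right hF, Matrix.mulVec_single_one, Matrix.col_apply, Matrix.col_apply] at e1
    exact e1
  have hσφ : σ φ ≠ 0 := fun e0 => one_ne_zero (α := F) (by rw [← hφ, e0, mul_zero])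
  have hnz : ∀ z ∉ M, (A : Mn) a z ≠ 0 := fun z hz e0 => by
    refine two_zeros hF U hn5 hq hf hA hm hab e0 ?_
    have := hrow z hz
    rw [e0, zero_sub, neg_eq_zero] at this
    exact (mul_eq_zero.1 this).resolve_left hσφ
  by_cases hn9 : n = 9
  · have hq8 : q = 8 := by
      have hle : q + 1 ≤ 9 := hqn.trans_eq hn9
      have hd9 : q + 1 ∣ 9 := hn9 ▸ hdvd
      rcases (show q = 3 ∨ q = 4 ∨ q = 5 ∨ q = 6 ∨ q = 7 ∨ q = 8 by omega) with e | e | e | e | e | e
      · rw [e] at hd9; norm_num at hd9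
      · rw [e] at hd9; norm_num at hd9
      · rw [e] at hd9; norm_num at hd9
      · rw [e] at hd9; norm_num at hd9
      · rw [e] at hd9; norm_num at hd9
      · exact e
    refine nine_false hF U hn9 hq8 h2 hf hA hm hab hax hbx hxp hσφ hcardM hAf ?_ ?_ hnz
    · have e1 : h ((A : Mn) *ᵥ Pi.single p 1) f = h (Pi.single p 1) Af := by
        rw [← G_isometry hAG (Pi.single p 1) Af]
        simp only [Af]
        rw [Matrix.mulVec_mulVec, Units.mul_inv, Matrix.one_mulVec]
      rw [h_single_left hF, hf', h_sub_right hF, h_smul_right hF, h_single_right hF, h_single_right hF,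
        Matrix.mulVec_single_one, Matrix.col_apply, Matrix.col_apply] at e1
      refine frob_eq_zero hF (e1.symm.trans ?_)
      have hvb' : (A : Mn) b p = φ * (A : Mn) a p := by
        show v b = φ * v a
        simp only [φ]; field_simp
      rw [hvb']
      linear_combination -((A : Mn) a p) * hφ
    · simp only [Af]
      rw [Matrix.mulVec_mulVec, Units.mul_inv, Matrix.one_mulVec, hf']
  obtain ⟨c, hc⟩ := exists_fresh ({a, b} : Finset (Fin n)) (lt_of_le_of_lt Finset.card_le_two (by omega))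
  simp only [Finset.mem_insert, Finset.mem_singleton, not_or] at hc
  have hinv : ∀ z, ((A⁻¹ : GL (Fin n) F) : Mn) z c = σ ((A : Mn) c z) := fun z => inv_apply hF hAG z c
  have hone : ∀ z z', (A : Mn) c z = 0 → (A : Mn) c z' = 0 → z = z' := fun z z' h1 h2 => by
    by_contra hne
    exact two_zeros hF U hn5 hq hf (inv_mem hA) (not_mono_inv hF hm) hne (p := c)
      (by rw [hinv, h1, map_zero]) (by rw [hinv, h2, map_zero])
  have hMne : M.Nonempty := by
    by_contra hMe
    rw [Finset.not_nonempty_iff_eq_empty] at hMe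
    have h0 : f = 0 := by
      rw [show f = (A : Mn) *ᵥ Af by simp only [Af]; rw [Matrix.mulVec_mulVec, Units.mul_inv, Matrix.one_mulVec],
        show Af = 0 from funext fun i => hAf i (by simp [hMe]), Matrix.mulVec_zero]
    have := congrFun h0 a
    simp [hf', hab] at this
  set P : Finset (Fin n) := M ∪ Finset.univ.filter fun z => (A : Mn) c z = 0
  have hP : P.card ≤ 3 := by
    have h1 := Finset.card_union_le M (Finset.univ.filter fun z => (A : Mn) c z = 0)
    have h2 : (Finset.univ.filter fun z => (A : Mn) c z = 0).card ≤ 1 :=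
      Finset.card_le_one.2 fun z hz z' hz' => hone z z' (Finset.mem_filter.1 hz).2 (Finset.mem_filter.1 hz').2
    refine (Finset.card_union_le _ _).trans ?_
    omega
  obtain ⟨f₀, hf₀, hf₀c⟩ : ∃ z ∈ P, (A : Mn) c z ≠ 0 := by
    by_contra hno
    push Not at hno
    obtain ⟨m, hmM⟩ := hMne
    have hM1 : M = {m} := Finset.eq_singleton_iff_unique_mem.2 ⟨hmM, fun z hz =>
      hone z m (hno z (Finset.mem_union_left _ hz)) (hno m (Finset.mem_union_left _ hmM))⟩
    have hfm : f = Af m • (A : Mn).col m := by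
      rw [← Matrix.mulVec_single_one, ← Matrix.mulVec_smul,
        show Af m • (Pi.single m 1 : V) = Af from funext fun i => by
          by_cases hi : i = m
          · subst hi; simp
          · simp [hi, hAf i (by rw [hM1]; simpa using hi)]]
      simp only [Af]
      rw [Matrix.mulVec_mulVec, Units.mul_inv, Matrix.one_mulVec]
    obtain ⟨c', hc'⟩ := exists_fresh ({a, b, c} : Finset (Fin n))
      (lt_of_le_of_lt Finset.card_le_three (by omega))
    simp only [Finset.mem_insert, Finset.mem_singleton, not_or] at hc'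
    have h0 := congrFun hfm c'
    have hm0 : Af m ≠ 0 := fun e0 => by
      have := congrFun hfm a
      simp [hf', hab, e0] at this
    rw [hf', Pi.sub_apply, Pi.smul_apply, Pi.single_eq_of_ne hc'.1, Pi.single_eq_of_ne hc'.2.1] at h0
    have h1 : (A : Mn) c' m = 0 := by simpa [hm0, Matrix.col_apply] using h0.symm
    exact two_zeros hF U hn5 hq hf hA hm (Ne.symm hc'.2.2) (p := m) (hno m (Finset.mem_union_left _ hmM)) h1
  have hPz : ∀ z ∉ P, z ∉ M ∧ (A : Mn) c z ≠ 0 := fun z hz => by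
    simp only [P, Finset.mem_union, Finset.mem_filter, Finset.mem_univ, true_and, not_or] at hz
    exact hz
  rcases (show 13 ≤ n ∨ n < 13 by omega) with h13 | h13
  swap
  · obtain ⟨hq4, hn10⟩ := small_eq hF h2 hq hn hn9 h13 hdvd
    obtain ⟨u, huK, huP, hTm, hTac⟩ := exists_torus_ten hF U hq4 hn10 hA (Ne.symm hc.1) hP
      (fun z hz => ⟨hnz z (hPz z hz).1, (hPz z hz).2⟩)
    set T := A * u * A⁻¹ with hT
    have hTK : T ∈ K := mul_mem (mul_mem hA huK) (inv_mem hA)
    have hTf : (T : Mn) *ᵥ f = f := by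
      obtain ⟨d, hu, hd1⟩ := huP
      have e1 : (u : Mn) *ᵥ Af = Af := funext fun i => by
        rw [hu, Matrix.mulVec_diagonal]
        by_cases hi : i ∈ M
        · rw [hd1 i (Finset.mem_union_left _ hi), one_mul]
        · rw [hAf i hi, mul_zero]
      rw [hT, Units.val_mul, Units.val_mul, ← Matrix.mulVec_mulVec, ← Matrix.mulVec_mulVec, e1]
      simp only [Af]
      rw [Matrix.mulVec_mulVec, Units.mul_inv, Matrix.one_mulVec]
    have e1 := G_isometry (U.le hTK) (Pi.single c 1) f
    rw [hTf, hf', h_sub_right hF, h_sub_right hF, h_smul_right hF, h_smul_right hF,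
      h_single_right hF, h_single_right hF, h_single_right hF, h_single_right hF, Matrix.mulVec_single_one,
      Matrix.col_apply, Matrix.col_apply, hTac, Pi.single_eq_of_ne (Ne.symm hc.1),
      Pi.single_eq_of_ne (Ne.symm hc.2)] at e1
    exact two_zeros hF U hn5 hq hf hTK hTm hab hTac (by simpa [hσφ] using e1)
  obtain ⟨d, hd, hdp, hds, hdP, hdY⟩ := zero_sum hF h13 hq
    (w := fun z => (A : Mn) a z * σ ((A : Mn) c z)) hf₀ hP
    (fun z hz => mul_ne_zero (hnz z (hPz z hz).1) fun e0 => (hPz z hz).2 (frob_eq_zero hF e0))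
    (y := fun z => ((A⁻¹ : GL (Fin n) F) : Mn) z c)
    (fun z hz e0 => (hPz z hz).2 (frob_eq_zero hF (by rw [← hinv]; exact e0)))
    (fun e0 => hf₀c (frob_eq_zero hF (by rw [← hinv]; exact e0)))
    (fun j => ((A⁻¹ : GL (Fin n) F) : Mn).col j)
  obtain ⟨u, huK, huG, hu⟩ := exists_diag_mem hF U d hd hdp
  obtain ⟨hTK, hTm⟩ := conj_not_mono hF U hf hA huK hu c hdY
  have hTG := U.le hTK
  set T := A * u * A⁻¹ with hT
  have hTac : (T : Mn) a c = 0 := by
    rw [hT, Units.val_mul, Units.val_mul, hu, conj_entry hF hAG]; exact hds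
  have hTf : (T : Mn) *ᵥ f = d f₀ • f := by
    have e1 : (u : Mn) *ᵥ Af = d f₀ • Af := funext fun i => by
      rw [hu, Matrix.mulVec_diagonal, Pi.smul_apply, smul_eq_mul]
      by_cases hi : i ∈ M
      · rw [hdP i (Finset.mem_union_left _ hi)]
      · rw [hAf i hi, mul_zero, mul_zero]
    rw [hT, Units.val_mul, Units.val_mul, ← Matrix.mulVec_mulVec, ← Matrix.mulVec_mulVec, e1,
      Matrix.mulVec_smul]
    simp only [Af]
    rw [Matrix.mulVec_mulVec, Units.mul_inv, Matrix.one_mulVec]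
  have e1 := G_isometry hTG (Pi.single c 1) f
  rw [hTf, h_smul_right hF, hf', h_sub_right hF, h_sub_right hF, h_smul_right hF, h_smul_right hF,
    h_single_right hF, h_single_right hF, h_single_right hF, h_single_right hF, Matrix.mulVec_single_one,
    Matrix.col_apply, Matrix.col_apply, hTac, Pi.single_eq_of_ne (Ne.symm hc.1),
    Pi.single_eq_of_ne (Ne.symm hc.2)] at e1
  have hd0 : σ (d f₀) ≠ 0 := fun e0 => one_ne_zero (α := F) (by rw [← hd f₀, e0, mul_zero])
  exact two_zeros hF U hn5 hq hf hTK hTm hab hTac (by simpa [hσφ, hd0] using e1)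

end CfsgLib.MaxSub.WreathUnitary
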