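/-
A non-monomial element fixing a coordinate line gives a pair of coordinate lines.
-/
import Cfsg.Agent.Lib.MaxSub.WreathUnitary.MonoBasic
import Cfsg.Agent.Lib.MaxSub.WreathUnitary.General

set_option autoImplicit false
set_option maxHeartbeats 400000
set_option linter.unusedSectionVars false

namespace CfsgLib.MaxSub.WreathUnitary

open Matrix Module Cfsg Cfsg.Geo CfsgLib.UnitaryTransvection
open CfsgLib.MaxSub (Ctr sg sg_mem G_isometry)
open CfsgLib.MaxSub.Monomial (Mono mono_inverse tor tor_other tor_fst tor_snd prod_tor exists_fresh)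

variable {F : Type*} [Field F] [Fintype F] {n q : ℕ} (hF : Fintype.card F = q ^ 2)

local notation "h" => Cfsg.hermForm n F q
local notation "σ" => frob hF
local notation "V" => Fin n → F
local notation "Mn" => Matrix (Fin n) (Fin n) F
local notation "G" => Cfsg.GU n F q ⊓ specialLinear (Fin n) F

variable {K : Subgroup (GL (Fin n) F)}

/-- The pairs of pseudo-reflections at `x` and the axis `p` lie in `K`. -/
def Pairs (K : Subgroup (GL (Fin n) F)) (x : Fin n → F) (p : Fin n) : Prop :=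
  ∀ μ : F, μ * σ μ = 1 → ∃ u : GL (Fin n) F, u ∈ K ∧ ∀ y, (u : Matrix (Fin n) (Fin n) F) *ᵥ y =
    y + ((μ - 1) * Cfsg.hermForm n F q y x) • x + ((σ μ - 1) * y p) • (Pi.single p 1 : Fin n → F)

include hF in
/-- An element fixing an axis, with a column of support three. -/
theorem exists_wide (U : UW q 1 (stdD n F) K) {A : GL (Fin n) F} (hA : A ∈ K) (hm : ¬ Mono (A : Mn))
    {p j : Fin n} (hcol : ∀ i, i ≠ j → (A : Mn) i p = 0) :
    ∃ (B : GL (Fin n) F) (q' a i₁ i₂ i₃ : Fin n), B ∈ K ∧ a ≠ q' ∧ (∀ i, i ≠ q' → (B : Mn) i q' = 0) ∧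
      (B : Mn) q' a = 0 ∧ i₁ ≠ i₂ ∧ i₁ ≠ i₃ ∧ i₂ ≠ i₃ ∧ (B : Mn) i₁ a ≠ 0 ∧ (B : Mn) i₂ a ≠ 0 ∧
        (B : Mn) i₃ a ≠ 0 := by
  classical
  have hn := U.dim
  -- fix the axis
  obtain ⟨A, hA, hm, hcol⟩ : ∃ B : GL (Fin n) F, B ∈ K ∧ ¬ Mono (B : Mn) ∧
      ∀ i, i ≠ p → (B : Mn) i p = 0 := by
    by_cases hjp : j = p
    · exact ⟨A, hA, hm, hjp ▸ hcol⟩
    obtain ⟨u, huK, -, -, -, hst, hab, -⟩ := exists_swap hF U hjp
    refine ⟨u * A, mul_mem huK hA, fun hM => hm ?_, fun i hi => ?_⟩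
    · have h1 := ((mono_inverse (mono_of_stab hst) (Units.mul_inv u)).mul hM)
      rwa [← Units.val_mul, inv_mul_cancel_left] at h1
    · have h1 := hab ((A : Mn).col p) (mem_stdD.2 fun z hz => hcol z hz)
      rw [← Matrix.mulVec_single_one, Matrix.mulVec_mulVec, ← Units.val_mul,
        Matrix.mulVec_single_one] at h1
      exact mem_stdD.1 h1 i hi
  have hAG := U.le hA
  have hcolp : (A : Mn).col p = Pi.single p ((A : Mn) p p) := eq_single (mem_stdD.2 hcol)
  have hpp : (A : Mn) p p ≠ 0 := fun e => by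
    have := col_h hF hAG p p
    rw [hcolp, e, Pi.single_zero, h_zero_left, if_pos rfl] at this
    exact zero_ne_one this
  have hrow : ∀ z, z ≠ p → (A : Mn) p z = 0 := fun z hz => by
    have := col_h hF hAG z p
    rw [hcolp, if_neg hz, show (Pi.single p ((A : Mn) p p) : V) = (A : Mn) p p • Pi.single p 1 by
      rw [← Pi.single_smul', smul_eq_mul, mul_one], h_smul_right hF, h_single_right hF,
      Matrix.col_apply] at this
    exact (mul_eq_zero.1 this).resolve_left fun e => hpp (frob_eq_zero hF e)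
  by_cases hwide : ∃ a i₁ i₂ i₃, a ≠ p ∧ i₁ ≠ i₂ ∧ i₁ ≠ i₃ ∧ i₂ ≠ i₃ ∧ (A : Mn) i₁ a ≠ 0 ∧
      (A : Mn) i₂ a ≠ 0 ∧ (A : Mn) i₃ a ≠ 0
  · obtain ⟨a, i₁, i₂, i₃, ha, h1⟩ := hwide
    exact ⟨A, p, a, i₁, i₂, i₃, hA, ha, hcol, hrow a ha, h1⟩
  push Not at hwide
  obtain ⟨a, a₁, b₁, hab₁, ha₁, hb₁⟩ : ∃ a a₁ b₁, a₁ ≠ b₁ ∧ (A : Mn) a₁ a ≠ 0 ∧ (A : Mn) b₁ a ≠ 0 := by
    by_contra hno
    push Not at hno
    refine hm fun z => ?_
    by_cases hz : ∃ i, (A : Mn) i z ≠ 0
    · obtain ⟨i, hi⟩ := hz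
      exact ⟨i, fun i' hi' => hno z i i' (Ne.symm hi') hi⟩
    · push Not at hz
      exact ⟨z, fun i _ => hz i⟩
  have hap : a ≠ p := fun e => by
    subst e
    by_cases h' : a₁ = a
    · exact hb₁ (hcol b₁ fun e => hab₁ (h'.trans e.symm))
    · exact ha₁ (hcol a₁ h')
  have ha₁p : a₁ ≠ p := fun e => ha₁ (e ▸ hrow a hap)
  have hb₁p : b₁ ≠ p := fun e => hb₁ (e ▸ hrow a hap)
  have hsupp : ∀ i, i ≠ a₁ → i ≠ b₁ → (A : Mn) i a = 0 := fun i h1 h2 =>
    hwide a a₁ b₁ i hap hab₁ (Ne.symm h1) (Ne.symm h2) ha₁ hb₁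
  obtain ⟨r, hrp, hra, hr1, hr2⟩ : ∃ r, r ≠ p ∧ r ≠ a ∧ (A : Mn) a₁ r = 0 ∧ (A : Mn) b₁ r = 0 := by
    by_contra hno
    push Not at hno
    have key : ∀ r, r ≠ p → r ≠ a → ∀ k, k ≠ a₁ → k ≠ b₁ → (A : Mn) k r = 0 := by
      intro r hrp hra
      have e := col_h hF hAG r a
      rw [if_neg hra] at e
      change ∑ i, (A : Mn) i r * (A : Mn) i a ^ q = 0 at e
      rw [Fintype.sum_eq_add a₁ b₁ hab₁ (fun i hi => by
        rw [hsupp i hi.1 hi.2, zero_pow (by have := (UnitaryBasic.frob_exists hF).1; omega), mul_zero])] at e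
      have h1 : (A : Mn) a₁ r ≠ 0 := fun e1 => by
        rw [e1, zero_mul, zero_add] at e
        exact mul_ne_zero (hno r hrp hra e1) (pow_ne_zero _ hb₁) e
      have h2 : (A : Mn) b₁ r ≠ 0 := fun e1 => by
        rw [e1, zero_mul, add_zero] at e
        exact mul_ne_zero h1 (pow_ne_zero _ ha₁) e
      intro k hk1 hk2
      exact hwide r a₁ b₁ k hrp hab₁ (Ne.symm hk1) (Ne.symm hk2) h1 h2
    obtain ⟨r₁, hr₁⟩ := exists_fresh ({p, a} : Finset (Fin n))
      (lt_of_le_of_lt Finset.card_le_two (by omega))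
    simp only [Finset.mem_insert, Finset.mem_singleton, not_or] at hr₁
    obtain ⟨r₂, hr₂⟩ := exists_fresh ({p, a, r₁} : Finset (Fin n))
      (lt_of_le_of_lt Finset.card_le_three (by omega))
    simp only [Finset.mem_insert, Finset.mem_singleton, not_or] at hr₂
    have hcols : ∀ z ∈ ({a, r₁, r₂} : Finset (Fin n)), ∀ k, k ≠ a₁ → k ≠ b₁ → (A : Mn) k z = 0 := by
      intro z hz
      simp only [Finset.mem_insert, Finset.mem_singleton] at hz
      rcases hz with rfl | rfl | rfl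
      exacts [hsupp, key _ hr₁.1 hr₁.2, key _ hr₂.1 hr₂.2.1]
    let W := Submodule.span F (Set.range ![(Pi.single a₁ 1 : V), Pi.single b₁ 1])
    have hW : finrank F W ≤ 2 := (finrank_range_le_card _).trans (by simp)
    have hin : ∀ z : ({a, r₁, r₂} : Finset (Fin n)), (A : Mn).col z ∈ W := by
      rintro ⟨z, hz⟩
      rw [show (A : Mn).col z = (A : Mn) a₁ z • (Pi.single a₁ 1 : V) + (A : Mn) b₁ z • Pi.single b₁ 1 from
        funext fun k => by
        simp only [Matrix.col_apply, Pi.add_apply, Pi.smul_apply, smul_eq_mul, Pi.single_apply]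
        by_cases hka : k = a₁
        · subst hka; simp [hab₁]
        by_cases hkb : k = b₁
        · subst hkb; simp [Ne.symm hab₁]
        · simp [hka, hkb, hcols z hz k hka hkb]]
      exact add_mem (Submodule.smul_mem _ _ (Submodule.subset_span ⟨0, rfl⟩))
        (Submodule.smul_mem _ _ (Submodule.subset_span ⟨1, rfl⟩))
    have hli : LinearIndependent F fun z : ({a, r₁, r₂} : Finset (Fin n)) => (⟨_, hin z⟩ : W) := by
      refine LinearIndependent.of_comp W.subtype ?_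
      exact (Matrix.linearIndependent_cols_of_isUnit A.isUnit).comp Subtype.val Subtype.val_injective
    have := hli.fintype_card_le_finrank
    rw [Fintype.card_coe, Finset.card_insert_of_notMem (by simp [Ne.symm hr₁.2, Ne.symm hr₂.2.1]),
      Finset.card_pair (Ne.symm hr₂.2.2)] at this
    omega
  -- move the support of the column onto `a` and `r`
  obtain ⟨u₁, hu₁K, hu₁, hu₁p⟩ : ∃ u : GL (Fin n) F, u ∈ K ∧
      (∀ z, ∃ z', z' ≠ p ∧ (z ≠ p → ∀ x ∈ stdD n F z, (u : Mn) *ᵥ x ∈ stdD n F z') ∧ (z = a₁ → z' = a) ∧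
        (z = b₁ → z' ≠ a)) ∧ ∀ x ∈ stdD n F p, (u : Mn) *ᵥ x = x := by
    by_cases ha₁a : a₁ = a
    · refine ⟨1, one_mem _, fun z => ?_, fun x _ => by rw [Units.val_one, Matrix.one_mulVec]⟩
      by_cases hzp : z = p
      · exact ⟨a, hap, fun e => absurd hzp e, fun _ => rfl, fun e => absurd (hzp.symm.trans e) hb₁p.symm⟩
      · exact ⟨z, hzp, fun _ x hx => by rwa [Units.val_one, Matrix.one_mulVec],
          fun e => e.trans ha₁a, fun e => by rw [e, ← ha₁a]; exact hab₁.symm⟩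
    obtain ⟨u, huK, -, -, hfix, -, hab', hba'⟩ := exists_swap hF U ha₁a
    refine ⟨u, huK, fun z => ?_, hfix p ha₁p.symm hap.symm⟩
    by_cases hz1 : z = a₁
    · exact ⟨a, hap, fun _ => hz1 ▸ hab', fun _ => rfl, fun e => absurd (hz1.symm.trans e) hab₁⟩
    by_cases hz2 : z = a
    · exact ⟨a₁, ha₁p, fun _ => hz2 ▸ hba', fun e => absurd e hz1, fun _ => ha₁a⟩
    by_cases hzp : z = p
    · exact ⟨a, hap, fun e => absurd hzp e, fun e => absurd e hz1,
        fun e => absurd (hzp.symm.trans e) hb₁p.symm⟩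
    · exact ⟨z, hzp, fun _ x hx => by rw [hfix z hz1 hz2 x hx]; exact hx, fun e => absurd e hz1,
        fun _ => hz2⟩
  obtain ⟨b₂, hb₂p, hb₂, -, hb₂a⟩ := hu₁ b₁
  obtain ⟨a₂, -, ha₂, ha₂a, -⟩ := hu₁ a₁
  obtain rfl := ha₂a rfl
  obtain ⟨u₂, hu₂K, hu₂b, hu₂a, hu₂p⟩ : ∃ u : GL (Fin n) F, u ∈ K ∧
      (∀ x ∈ stdD n F b₂, (u : Mn) *ᵥ x ∈ stdD n F r) ∧ (∀ x ∈ stdD n F a₂, (u : Mn) *ᵥ x ∈ stdD n F a₂) ∧
        ∀ x ∈ stdD n F p, (u : Mn) *ᵥ x = x := by
    by_cases hbr : b₂ = r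
    · exact ⟨1, one_mem _, fun x hx => by rw [Units.val_one, Matrix.one_mulVec, ← hbr]; exact hx,
        fun x hx => by rwa [Units.val_one, Matrix.one_mulVec],
        fun x _ => by rw [Units.val_one, Matrix.one_mulVec]⟩
    obtain ⟨u, huK, -, -, hfix, -, hab', -⟩ := exists_swap hF U hbr
    exact ⟨u, huK, hab', fun x hx => by rw [hfix a₂ (hb₂a rfl).symm hra.symm x hx]; exact hx,
      hfix p hb₂p.symm hrp.symm⟩
  set B := A * (u₂ * u₁) * A
  have hBK : B ∈ K := mul_mem (mul_mem hA (mul_mem hu₂K hu₁K)) hA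
  have hBcol : ∀ i, i ≠ p → (B : Mn) i p = 0 := fun i hi => by
    have e : (B : Mn) *ᵥ Pi.single p 1 = ((A : Mn) p p * (A : Mn) p p) • (Pi.single p 1 : V) := by
      have e1 : (A : Mn) *ᵥ Pi.single p 1 = (A : Mn) p p • (Pi.single p 1 : V) := by
        rw [Matrix.mulVec_single_one, hcolp, ← Pi.single_smul', smul_eq_mul, mul_one]
      simp only [B, Units.val_mul, ← Matrix.mulVec_mulVec]
      rw [e1, Matrix.mulVec_smul, hu₁p _ (single_mem_stdD p 1), Matrix.mulVec_smul,
        hu₂p _ (single_mem_stdD p 1), Matrix.mulVec_smul, e1, smul_smul]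
    have := congrFun e i
    simpa [Matrix.mulVec_single_one, hi] using this
  set u := u₂ * u₁ with hu
  have hua : (u : Mn) *ᵥ Pi.single a₁ 1 ∈ stdD n F a₂ := by
    rw [hu, Units.val_mul, ← Matrix.mulVec_mulVec]
    exact hu₂a _ (ha₂ ha₁p _ (single_mem_stdD _ _))
  have hub : (u : Mn) *ᵥ Pi.single b₁ 1 ∈ stdD n F r := by
    rw [hu, Units.val_mul, ← Matrix.mulVec_mulVec]
    exact hu₂b _ (hb₂ hb₁p _ (single_mem_stdD _ _))
  have hinj : ∀ {z : Fin n} {w : Fin n}, (u : Mn) *ᵥ Pi.single z 1 ∈ stdD n F w →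
      ((u : Mn) *ᵥ Pi.single z 1) w ≠ 0 := fun {z w} hz e => by
    have h1 := eq_single hz
    rw [e, Pi.single_zero] at h1
    have h2 := congrArg (fun v => ((u⁻¹ : GL (Fin n) F) : Mn) *ᵥ v) h1
    simp only [Matrix.mulVec_zero] at h2
    rw [Matrix.mulVec_mulVec, Units.inv_mul, Matrix.one_mulVec] at h2
    simpa using congrFun h2 z
  set α := (A : Mn) a₁ a₂ * ((u : Mn) *ᵥ Pi.single a₁ 1) a₂
  set β := (A : Mn) b₁ a₂ * ((u : Mn) *ᵥ Pi.single b₁ 1) r
  have hcolA : (A : Mn).col a₂ = (A : Mn) a₁ a₂ • (Pi.single a₁ 1 : V) + (A : Mn) b₁ a₂ • Pi.single b₁ 1 :=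
    funext fun k => by
      simp only [Matrix.col_apply, Pi.add_apply, Pi.smul_apply, smul_eq_mul, Pi.single_apply]
      by_cases hka : k = a₁
      · subst hka; simp [hab₁]
      by_cases hkb : k = b₁
      · subst hkb; simp [Ne.symm hab₁]
      · simp [hka, hkb, hsupp k hka hkb]
  have hBa : ∀ i, (B : Mn) i a₂ = α * (A : Mn) i a₂ + β * (A : Mn) i r := fun i => by
    have e : (B : Mn) *ᵥ Pi.single a₂ 1 = α • (A : Mn).col a₂ + β • (A : Mn).col r := by
      have eA : (A : Mn) *ᵥ Pi.single a₂ 1 =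
          (A : Mn) a₁ a₂ • (Pi.single a₁ 1 : V) + (A : Mn) b₁ a₂ • Pi.single b₁ 1 := by
        rw [Matrix.mulVec_single_one, hcolA]
      have eu : (u : Mn) *ᵥ ((A : Mn) a₁ a₂ • (Pi.single a₁ 1 : V) + (A : Mn) b₁ a₂ • Pi.single b₁ 1) =
          Pi.single a₂ α + Pi.single r β := by
        rw [Matrix.mulVec_add, Matrix.mulVec_smul, Matrix.mulVec_smul, eq_single hua, eq_single hub,
          ← Pi.single_smul', ← Pi.single_smul', smul_eq_mul, smul_eq_mul]
      have eB : (B : Mn) *ᵥ Pi.single a₂ 1 = (A : Mn) *ᵥ ((u : Mn) *ᵥ ((A : Mn) *ᵥ Pi.single a₂ 1)) := by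
        simp only [B, hu, Units.val_mul, Matrix.mulVec_mulVec, Matrix.mul_assoc]
      rw [eB, eA, eu, Matrix.mulVec_add, Matrix.mulVec_single, Matrix.mulVec_single]
      simp only [op_smul_eq_smul]
    have := congrFun e i
    simpa [Matrix.mulVec_single_one] using this
  obtain ⟨i₃, hi₃⟩ : ∃ i, (A : Mn) i r ≠ 0 := by
    by_contra hno
    push Not at hno
    have h1 := col_h hF hAG r r
    rw [if_pos rfl, show (A : Mn).col r = 0 from funext hno, h_zero_left] at h1
    exact zero_ne_one h1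
  have hi₁ : i₃ ≠ a₁ := fun e => hi₃ (e ▸ hr1)
  have hi₂ : i₃ ≠ b₁ := fun e => hi₃ (e ▸ hr2)
  refine ⟨B, p, a₂, a₁, b₁, i₃, hBK, hap, hBcol, ?_, hab₁, Ne.symm hi₁, Ne.symm hi₂, ?_, ?_, ?_⟩
  · rw [hBa, hrow a₂ hap, hrow r hrp]; ring
  · rw [hBa, hr1, mul_zero, add_zero]; exact mul_ne_zero (mul_ne_zero ha₁ (hinj hua)) ha₁
  · rw [hBa, hr2, mul_zero, add_zero]; exact mul_ne_zero (mul_ne_zero ha₁ (hinj hua)) hb₁
  · rw [hBa, hsupp i₃ hi₁ hi₂, mul_zero, zero_add]; exact mul_ne_zero (mul_ne_zero hb₁ (hinj hub)) hi₃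

include hF in
/-- An element fixing an axis gives pairs. -/
theorem pairs_of_fix (U : UW q 1 (stdD n F) K) {B : GL (Fin n) F} (hB : B ∈ K) {p a : Fin n}
    (hap : a ≠ p) (hcol : ∀ i, i ≠ p → (B : Mn) i p = 0) : Pairs hF K ((B : Mn).col a) p := by
  classical
  intro μ hμ
  obtain ⟨u, huK, -, hu⟩ := exists_diag_mem hF U (tor a p μ) (fun i => by
    unfold Monomial.tor
    split_ifs
    · exact hμ
    · rw [← circ_inv hF hμ, frob_frob, mul_comm]; exact hμ
    · simp) (prod_tor hap (circ_ne_zero hF hμ))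
  have hBG := U.le hB
  refine ⟨B * u * B⁻¹, mul_mem (mul_mem hB huK) (inv_mem hB), fun y => ?_⟩
  set z := ((B⁻¹ : GL (Fin n) F) : Mn) *ᵥ y with hz
  have hy : (B : Mn) *ᵥ z = y := by rw [hz, Matrix.mulVec_mulVec, Units.mul_inv, Matrix.one_mulVec]
  have e1 : (u : Mn) *ᵥ z =
      z + ((μ - 1) * z a) • (Pi.single a 1 : V) + ((σ μ - 1) * z p) • (Pi.single p 1 : V) := funext fun i => by
    rw [hu, Matrix.mulVec_diagonal, circ_inv hF hμ]
    simp only [Pi.add_apply, Pi.smul_apply, smul_eq_mul, Pi.single_apply]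
    by_cases hia : i = a
    · subst hia; rw [tor_fst, if_pos rfl, if_neg hap]; ring
    by_cases hip : i = p
    · subst hip; rw [tor_snd hap, if_neg hia, if_pos rfl]; ring
    · rw [tor_other hia hip, if_neg hia, if_neg hip]; ring
  have hza : z a = h y ((B : Mn).col a) := by
    rw [← hy, ← Matrix.mulVec_single_one, G_isometry hBG, h_single_right hF]
  have hcp : (B : Mn).col p = Pi.single p ((B : Mn) p p) := eq_single (mem_stdD.2 hcol)
  have hzp : z p * (B : Mn) p p = y p := by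
    have hnorm : (B : Mn) p p * σ ((B : Mn) p p) = 1 := by
      have := col_h hF hBG p p
      rwa [hcp, show (Pi.single p ((B : Mn) p p) : V) = (B : Mn) p p • Pi.single p 1 by
        rw [← Pi.single_smul', smul_eq_mul, mul_one], h_smul_left, h_smul_right hF, h_single_right hF,
        Pi.single_eq_same, mul_one, if_pos rfl] at this
    have : z p = h y ((B : Mn).col p) := by
      rw [← hy, ← Matrix.mulVec_single_one, G_isometry hBG, h_single_right hF]
    rw [this, hcp, show (Pi.single p ((B : Mn) p p) : V) = (B : Mn) p p • Pi.single p 1 by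
      rw [← Pi.single_smul', smul_eq_mul, mul_one], h_smul_right hF, h_single_right hF]
    linear_combination (y p) * hnorm
  rw [Units.val_mul, Units.val_mul, ← Matrix.mulVec_mulVec, ← Matrix.mulVec_mulVec, ← hz, e1,
    Matrix.mulVec_add, Matrix.mulVec_add, hy, Matrix.mulVec_smul, Matrix.mulVec_smul,
    Matrix.mulVec_single_one, Matrix.mulVec_single_one, hza, hcp]
  congr 1
  rw [← hzp, ← Pi.single_smul', ← Pi.single_smul', smul_eq_mul, smul_eq_mul, mul_one, mul_assoc]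

include hF in
/-- Two pairs at vectors with product of norm one give a centre. -/
theorem centre_of_pairs (U : UW q 1 (stdD n F) K) {x y : V} {p : Fin n} (hx : Pairs hF K x p)
    (hy : Pairs hF K y p) (hxx : h x x = 1) (hyy : h y y = 1) (hxp : x p = 0) (hyp : y p = 0)
    (hyx : h y x * σ (h y x) = 1) :
    Ctr hF K (y - h y x • x) ∧ h (y - h y x • x) (y - h y x • x) = 0 := by
  classical
  set φ := h y x with hφ
  set x' := φ • x with hx'
  set r := y - x' with hr
  have hx'x' : h x' x' = 1 := by rw [hx', h_smul_left, h_smul_right hF, hxx, mul_one, hyx]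
  have hrx : h r x' = 0 := by
    rw [hr, h_sub_left, hx'x', hx', h_smul_right hF, ← hφ]; linear_combination hyx
  have hrr : h r r = 0 := by
    have e : h y y = h r r + 1 := by
      rw [show y = r + x' by rw [hr]; abel, h_add_left, h_add_right hF, h_add_right hF, hrx,
        h_symm0 hF hrx, hx'x']
      ring
    linear_combination hyy - e
  have hxr : h x' r = 0 := h_symm0 hF hrx
  have hyr : ∀ z, h z y = h z r + h z x' := fun z => by
    rw [← h_add_right hF]; congr 1; rw [hr]; abel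
  have hrp : r p = 0 := by simp [hr, hx', hxp, hyp]
  -- the unipotent elements
  have gam : ∀ μ : F, μ * σ μ = 1 → ∃ u : GL (Fin n) F, u ∈ K ∧ ∀ z, (u : Mn) *ᵥ z =
      z - ((σ μ - 1) * h z x') • r + ((μ - 1) * h z r) • x' + ((μ - 1) * h z r) • r := by
    intro μ hμ
    obtain ⟨u, huK, hu⟩ := hy μ hμ
    obtain ⟨v, hvK, hv⟩ := hx (σ μ) (circ_conj hF hμ)
    refine ⟨u * v, mul_mem huK hvK, fun z => ?_⟩
    have hxy : h x y = σ φ := by rw [hφ, h_swap hF]
    rw [Units.val_mul, ← Matrix.mulVec_mulVec, hv, hu, frob_frob, h_add_left, h_add_left, h_smul_left,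
      h_smul_left, hxy, h_single_left hF, hyp, map_zero, mul_zero, add_zero]
    have hzy : h z y = h z r + σ φ * h z x := by rw [hyr, hx', h_smul_right hF]
    have hzx : h z x' = σ φ * h z x := by rw [hx', h_smul_right hF]
    funext i
    simp only [Pi.add_apply, Pi.sub_apply, Pi.smul_apply, smul_eq_mul, Pi.single_apply]
    rw [hzx, hzy, show y i = r i + x' i by rw [hr]; simp, show x' i = φ * x i from rfl, hxp]
    split_ifs with hip
    · subst hip
      rw [hrp, hxp]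
      linear_combination (z i) * hμ
    · linear_combination ((μ - 1) * σ μ * h z x * x i) * hyx + (h z x * x i + h z x * σ φ * r i) * hμ
  -- the commutators
  let S : AddSubgroup F :=
    { carrier := {c | ∃ u : GL (Fin n) F, u ∈ K ∧ ∀ z, (u : Mn) *ᵥ z = z + (c * h z r) • r}
      zero_mem' := ⟨1, one_mem _, fun z => by simp⟩
      add_mem' := by
        rintro c c' ⟨u, hu, eu⟩ ⟨v, hv, ev⟩
        refine ⟨u * v, mul_mem hu hv, fun z => ?_⟩
        rw [Units.val_mul, ← Matrix.mulVec_mulVec, ev, eu, h_add_left, h_smul_left, hrr]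
        module
      neg_mem' := by
        rintro c ⟨u, hu, eu⟩
        refine ⟨u⁻¹, inv_mem hu, fun z => ?_⟩
        have : (u : Mn) *ᵥ (z + (-c * h z r) • r) = z := by
          rw [eu, h_add_left, h_smul_left, hrr]; module
        conv_lhs => arg 2; rw [← this]
        rw [Matrix.mulVec_mulVec, Units.inv_mul, Matrix.one_mulVec] }
  refine ⟨fun g c hc hg => ?_, hrr⟩
  have hle : AddSubgroup.closure {e : F | ∃ a b : F, a * σ a = 1 ∧ b * σ b = 1 ∧
      e = (a - 1) * σ (b - 1) - σ (a - 1) * (b - 1)} ≤ S := by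
    refine (AddSubgroup.closure_le _).2 ?_
    rintro e ⟨a, b, ha, hb, rfl⟩
    obtain ⟨ga, hga, ea⟩ := gam a ha
    obtain ⟨gb, hgb, eb⟩ := gam b hb
    refine ⟨(ga * gb) * (gb * ga)⁻¹, mul_mem (mul_mem hga hgb) (inv_mem (mul_mem hgb hga)), fun z => ?_⟩
    obtain ⟨w, rfl⟩ : ∃ w, ((gb * ga : GL (Fin n) F) : Mn) *ᵥ w = z :=
      ⟨(((gb * ga)⁻¹ : GL (Fin n) F) : Mn) *ᵥ z, by rw [Matrix.mulVec_mulVec, Units.mul_inv, Matrix.one_mulVec]⟩
    rw [Units.val_mul, ← Matrix.mulVec_mulVec,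
      show (((gb * ga)⁻¹ : GL (Fin n) F) : Mn) *ᵥ (((gb * ga : GL (Fin n) F) : Mn) *ᵥ w) = w by
        rw [Matrix.mulVec_mulVec, Units.inv_mul, Matrix.one_mulVec]]
    simp only [Units.val_mul, ← Matrix.mulVec_mulVec, ea, eb, h_add_left, h_sub_left, h_smul_left,
      hx'x', hrx, hxr, hrr, map_sub, map_one]
    module
  obtain ⟨u, huK, hu⟩ := hle (skew_mem_closure hF hc)
  rwa [show g = u from Units.ext (Matrix.ext_of_mulVec_single fun i => by rw [hu, hg, tmat_mulVec])]

include hF in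
/-- A diagonal shift of norm-one product. -/
theorem exists_shift {s₁ s₂ : F} (h1 : σ s₁ = s₁) (h2 : σ s₂ = s₂) (hs₁ : s₁ ≠ 0) (hs₂ : s₂ ≠ 0) :
    ∃ α β : F, α * σ α = 1 ∧ β * σ β = 1 ∧ (α ≠ 1 ∨ β ≠ 1) ∧
      (1 - s₁ - s₂ + s₁ * α + s₂ * β) * σ (1 - s₁ - s₂ + s₁ * α + s₂ * β) = 1 := by
  classical
  set C := 1 - s₁ - s₂ with hC
  have hCf : σ C = C := by rw [hC, map_sub, map_sub, map_one, h1, h2]
  by_cases hC0 : C = 0
  · obtain ⟨ω, hω1, hω⟩ := exists_omega hF
    refine ⟨ω, ω, hω, hω, Or.inl hω1, ?_⟩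
    rw [show C + s₁ * ω + s₂ * ω = ω by rw [hC0]; linear_combination ω * hC - ω * hC0]
    exact hω
  set T := (circ hF).image fun x => x + σ x
  have hT := two_mul_card_traces hF
  have hTm : ∀ t ∈ T, σ t = t := fun t ht => by
    obtain ⟨x, -, rfl⟩ := Finset.mem_image.1 ht
    exact fix_trace hF x
  have h2T : (2 : F) ∈ T :=
    Finset.mem_image.2 ⟨1, one_mem_circ hF, by rw [map_one]; norm_num⟩
  set f : F → F := fun t => s₁ * s₁ + s₂ * s₂ + s₁ * s₂ * t
  set g : F → F := fun t => 1 + C * C - C * t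
  have hfinj : Function.Injective f := fun a b e => mul_left_cancel₀ (mul_ne_zero hs₁ hs₂) (add_left_cancel e)
  have hginj : Function.Injective g := fun a b e => mul_left_cancel₀ hC0 (sub_right_injective e)
  obtain ⟨v, hv, hv'⟩ := inter_fix hF (A := (T.image f).erase (f 2)) (B := T.image g)
    (fun v hv => by
      obtain ⟨t, ht, rfl⟩ := Finset.mem_image.1 (Finset.mem_of_mem_erase hv)
      simp [f, h1, h2, hTm t ht])
    (fun v hv => by
      obtain ⟨t, ht, rfl⟩ := Finset.mem_image.1 hv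
      simp [g, hCf, hTm t ht])
    (by
      rw [Finset.card_erase_of_mem (Finset.mem_image_of_mem f h2T), Finset.card_image_of_injective _ hfinj,
        Finset.card_image_of_injective _ hginj]
      change q + 2 ≤ 2 * T.card at hT
      omega)
  obtain ⟨hvne, hv⟩ := Finset.mem_erase.1 hv
  obtain ⟨t, ht, rfl⟩ := Finset.mem_image.1 hv
  obtain ⟨α, hα, rfl⟩ := Finset.mem_image.1 ht
  obtain ⟨t', ht', hv'⟩ := Finset.mem_image.1 hv'
  obtain ⟨γ, hγ, rfl⟩ := Finset.mem_image.1 ht'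
  rw [mem_circ] at hα hγ
  simp only [f, g] at hvne hv'
  set P := s₁ * α + s₂
  set Q := γ - C
  have hPQ : P * σ P = Q * σ Q := by
    simp only [P, Q, map_add, map_mul, map_sub, h1, h2, hCf]
    linear_combination (s₁ * s₁) * hα - hv' - hγ
  by_cases hP : P = 0
  · have hQ : Q = 0 := by
      rw [hP, zero_mul] at hPQ
      rcases mul_eq_zero.1 hPQ.symm with e | e
      · exact e
      · exact frob_eq_zero hF e
    refine ⟨α, 1, hα, by simp, Or.inl fun e => hvne (by rw [e, map_one]; norm_num), ?_⟩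
    rw [show C + s₁ * α + s₂ * 1 = γ by simp only [P, Q] at hP hQ; linear_combination hP - hQ]
    exact hγ
  have hσP : σ P ≠ 0 := fun e => hP (frob_eq_zero hF e)
  have hρ : Q / P * σ (Q / P) = 1 := by
    rw [map_div₀, div_mul_div_comm, hPQ, div_self (hPQ ▸ mul_ne_zero hP hσP)]
  refine ⟨α * (Q / P), Q / P, circ_mul hF hα hρ, hρ, ?_, ?_⟩
  · by_contra hc
    push Not at hc
    obtain ⟨e1, e2⟩ := hc
    rw [e2, mul_one] at e1
    exact hvne (by rw [e1, map_one]; norm_num)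
  · rw [show C + s₁ * (α * (Q / P)) + s₂ * (Q / P) = γ by
      have : (s₁ * α + s₂) * (Q / P) = Q := mul_div_cancel₀ Q hP
      simp only [Q] at this ⊢
      linear_combination this]
    exact hγ

include hF in
/-- An element fixing an axis gives a pair of lines. -/
theorem pair_of_not_fail (U : UW q 1 (stdD n F) K) (hf : ¬ Fail K) :
    ∃ a b, a ≠ b ∧ GoodPair hF (stdD n F) K a b := by
  classical
  simp only [Fail, not_forall] at hf
  obtain ⟨A, hA, p₀, j₀, hcol₀, hm⟩ := hf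
  obtain ⟨B, p, a, i₁, i₂, i₃, hB, hap, hcol, hpa, h12, h13, h23, hn1, hn2, hn3⟩ :=
    exists_wide hF U hA hm hcol₀
  have hn := U.dim
  set x := (B : Mn).col a with hx
  have hxx : h x x = 1 := by rw [hx, col_h hF (U.le hB), if_pos rfl]
  have hxp : x p = 0 := hpa
  have hP := pairs_of_fix hF U hB hap hcol
  set s : Fin n → F := fun z => x z * σ (x z)
  obtain ⟨α, β, hα, hβ, hne, hnorm⟩ := exists_shift hF (s₁ := s i₁) (s₂ := s i₂) (fix_norm hF _)
    (fix_norm hF _) (mul_ne_zero hn1 fun e => hn1 (frob_eq_zero hF e))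
    (mul_ne_zero hn2 fun e => hn2 (frob_eq_zero hF e))
  have hi1 : i₁ ≠ p := fun e => hn1 (e ▸ hpa)
  have hi2 : i₂ ≠ p := fun e => hn2 (e ▸ hpa)
  have hi3 : i₃ ≠ p := fun e => hn3 (e ▸ hpa)
  set d : V := fun z => if z = i₁ then α else if z = i₂ then β else if z = p then (α * β)⁻¹ else 1
  have hd : ∀ z, d z * σ (d z) = 1 := fun z => by
    simp only [d]
    split_ifs
    exacts [hα, hβ, by rw [map_inv₀, ← mul_inv, circ_mul hF hα hβ, inv_one], by simp]
  have hdp : ∏ z, d z = 1 := by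
    rw [← Finset.mul_prod_erase _ _ (Finset.mem_univ i₁),
      ← Finset.mul_prod_erase _ _ (Finset.mem_erase.2 ⟨h12.symm, Finset.mem_univ i₂⟩),
      ← Finset.mul_prod_erase _ _ (Finset.mem_erase.2 ⟨hi2.symm, Finset.mem_erase.2 ⟨hi1.symm, Finset.mem_univ p⟩⟩),
      Finset.prod_eq_one fun z hz => by
        simp only [Finset.mem_erase] at hz
        simp [d, hz.1, hz.2.1, hz.2.2.1]]
    simp only [d, if_pos, h12.symm, hi1.symm, hi2.symm, if_false, mul_one]
    have : α * β ≠ 0 := mul_ne_zero (circ_ne_zero hF hα) (circ_ne_zero hF hβ)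
    rw [← mul_assoc, mul_inv_cancel₀ this]
  obtain ⟨u, huK, huG, hu⟩ := exists_diag_mem hF U d hd hdp
  set y := (u : Mn) *ᵥ x with hy
  have hyz : ∀ z, y z = d z * x z := fun z => by rw [hy, hu, Matrix.mulVec_diagonal]
  have hyP : Pairs hF K y p := fun μ hμ => by
    obtain ⟨v, hv, ev⟩ := hP μ hμ
    refine ⟨u * v * u⁻¹, mul_mem (mul_mem huK hv) (inv_mem huK), fun z => ?_⟩
    set w := ((u⁻¹ : GL (Fin n) F) : Mn) *ᵥ z with hw
    have hz : (u : Mn) *ᵥ w = z := by rw [hw, Matrix.mulVec_mulVec, Units.mul_inv, Matrix.one_mulVec]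
    have hzp : d p * w p = z p := by rw [← hz, hu, Matrix.mulVec_diagonal]
    rw [Units.val_mul, Units.val_mul, ← Matrix.mulVec_mulVec, ← Matrix.mulVec_mulVec, ← hw, ev,
      Matrix.mulVec_add, Matrix.mulVec_add, hz, Matrix.mulVec_smul, Matrix.mulVec_smul, ← hy,
      show (u : Mn) *ᵥ Pi.single p 1 = d p • (Pi.single p 1 : V) by
        rw [hu, Matrix.mulVec_single_one]; funext i; by_cases hi : i = p
        · subst hi; simp [Matrix.diagonal]
        · simp [Matrix.diagonal, hi],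
      smul_smul, ← hzp, ← G_isometry huG w x, hz, ← hy]
    congr 2
    ring
  have hyx : h y x = 1 - s i₁ - s i₂ + s i₁ * α + s i₂ * β := by
    have e0 : ∑ z, s z = 1 := by
      rw [← hxx]; exact Finset.sum_congr rfl fun z _ => by simp only [s, frob_apply]
    have e1 : h y x = ∑ z, d z * s z :=
      Finset.sum_congr rfl fun z _ => by simp only [s, hyz, frob_apply]; ring
    have e2 : ∑ z, (d z - 1) * s z = (α - 1) * s i₁ + (β - 1) * s i₂ := by
      rw [Fintype.sum_eq_add i₁ i₂ h12 fun z hz => ?_]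
      · simp [d, h12.symm]
      · by_cases hzp : z = p
        · subst hzp; simp [s, hxp]
        · simp [d, hz.1, hz.2, hzp]
    rw [show ∑ z, (d z - 1) * s z = (∑ z, d z * s z) - ∑ z, s z by
      rw [← Finset.sum_sub_distrib]; exact Finset.sum_congr rfl fun z _ => by ring, e0, ← e1] at e2
    linear_combination e2
  obtain ⟨hr, hrr⟩ := centre_of_pairs hF U hP hyP hxx (by rw [hy, G_isometry huG, hxx]) hxp
    (by rw [hyz, hxp, mul_zero]) (by rw [hyx]; exact hnorm)
  set r := y - h y x • x with hrdef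
  have hr0 : r ≠ 0 := fun e => by
    have key : ∀ z, x z ≠ 0 → d z = h y x := fun z hz => by
      have := congrFun e z
      rw [hrdef, Pi.sub_apply, Pi.smul_apply, hyz, smul_eq_mul, Pi.zero_apply, ← sub_mul] at this
      exact sub_eq_zero.1 ((mul_eq_zero.1 this).resolve_right hz)
    have e3 := key i₃ hn3
    have e1 := key i₁ hn1
    have e2 := key i₂ hn2
    simp only [d, h13.symm, h23.symm, hi3, if_false, if_pos, h12.symm] at e1 e2 e3
    rcases hne with h' | h'
    · exact h' (e1.trans e3.symm)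
    · exact h' (e2.trans e3.symm)
  have hrp : r p = 0 := by simp [hrdef, hyz, hxp]
  -- two coordinates of `r`
  obtain ⟨j, hj⟩ := Function.ne_iff.1 hr0
  obtain ⟨l, hlj, hl⟩ : ∃ l, l ≠ j ∧ r l ≠ 0 := by
    by_contra hno
    push Not at hno
    have e : h r r = r j * r j ^ q := Finset.sum_eq_single j (fun z _ hz => by rw [hno z hz, zero_mul])
      (fun e => absurd (Finset.mem_univ j) e)
    rw [hrr] at e
    exact mul_ne_zero hj (pow_ne_zero _ hj) e.symm
  simp only [Pi.zero_apply] at hj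
  have hjp : j ≠ p := fun e => hj (e ▸ hrp)
  have hlp : l ≠ p := fun e => hl (e ▸ hrp)
  set N₂ := r j * σ (r j)
  set N₃ := r l * σ (r l)
  have hN₂ : N₂ ≠ 0 := mul_ne_zero hj fun e => hj (frob_eq_zero hF e)
  have hN₃ : N₃ ≠ 0 := mul_ne_zero hl fun e => hl (frob_eq_zero hF e)
  obtain ⟨α', β', hα', hβ', hα1, hβ1, hz0, hzs⟩ : ∃ α β : F, α * σ α = 1 ∧ β * σ β = 1 ∧ α ≠ 1 ∧ β ≠ 1 ∧
      N₂ * (α - 1) + N₃ * (β - 1) ≠ 0 ∧ Skew hF (N₂ * (α - 1) + N₃ * (β - 1)) := by
    by_cases hsum : N₂ + N₃ = 0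
    · obtain ⟨z, hz, hz1⟩ := exists_gen hF
      have hq := (UnitaryBasic.frob_exists hF).1
      have hzne : (z : F) ≠ σ z := fun e => by
        rw [← e] at hz1
        have := Nat.le_of_dvd (by norm_num)
          (orderOf_dvd_of_pow_eq_one (Units.ext (by simpa [sq] using hz1) : z ^ 2 = 1))
        omega
      have hzne1 : (z : F) ≠ 1 := fun e => hzne (by rw [e, map_one])
      refine ⟨z, σ z, hz1, circ_conj hF hz1, hzne1, fun e => hzne1 ?_, ?_, ?_⟩
      · simpa [frob_frob hF] using congrArg σ e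
      · rw [show N₂ * ((z : F) - 1) + N₃ * (σ z - 1) = N₂ * ((z : F) - σ z) by
          linear_combination (σ (z : F) - 1) * hsum]
        exact mul_ne_zero hN₂ (sub_ne_zero.2 hzne)
      · unfold Skew
        simp only [N₂, N₃] at hsum ⊢
        simp only [map_add, map_mul, map_sub, map_one, frob_frob]
        linear_combination ((z : F) + σ z - 2) * hsum
    · exact exists_pair_skew hF (N₁ := -(N₂ + N₃)) (by rw [map_neg, map_add, fix_norm, fix_norm])
        (fix_norm hF _) (fix_norm hF _) (by ring) (neg_ne_zero.2 hsum) hN₂ hN₃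
  set d' : V := fun z => if z = j then α' else if z = l then β' else if z = p then (α' * β')⁻¹ else 1
  have hd' : ∀ z, d' z * σ (d' z) = 1 := fun z => by
    simp only [d']
    split_ifs
    exacts [hα', hβ', by rw [map_inv₀, ← mul_inv, circ_mul hF hα' hβ', inv_one], by simp]
  have hdp' : ∏ z, d' z = 1 := by
    rw [← Finset.mul_prod_erase _ _ (Finset.mem_univ j),
      ← Finset.mul_prod_erase _ _ (Finset.mem_erase.2 ⟨hlj, Finset.mem_univ l⟩),
      ← Finset.mul_prod_erase _ _ (Finset.mem_erase.2 ⟨hlp.symm, Finset.mem_erase.2 ⟨hjp.symm, Finset.mem_univ p⟩⟩),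
      Finset.prod_eq_one fun z hz => by
        simp only [Finset.mem_erase] at hz
        simp [d', hz.1, hz.2.1, hz.2.2.1]]
    simp only [d', if_pos, hlj, hjp.symm, hlp.symm, if_false, mul_one]
    have : α' * β' ≠ 0 := mul_ne_zero (circ_ne_zero hF hα') (circ_ne_zero hF hβ')
    rw [← mul_assoc, mul_inv_cancel₀ this]
  obtain ⟨v, hvK, hvG, hv⟩ := exists_diag_mem hF U d' hd' hdp'
  have hvr : ∀ z, ((v : Mn) *ᵥ r) z = d' z * r z := fun z => by rw [hv, Matrix.mulVec_diagonal]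
  have hsumv : (v : Mn) *ᵥ r + (-1 : F) • r =
      Pi.single j ((α' - 1) * r j) + Pi.single l ((β' - 1) * r l) := funext fun z => by
    simp only [Pi.add_apply, Pi.smul_apply, smul_eq_mul, hvr, Pi.single_apply, d']
    by_cases hzj : z = j
    · subst hzj; simp [hlj.symm]; ring
    by_cases hzl : z = l
    · subst hzl; simp [hzj]; ring
    by_cases hzp : z = p
    · subst hzp; simp [hzj, hzl, hrp]
    · simp [hzj, hzl, hzp]
  have hvrr : h ((v : Mn) *ᵥ r) ((v : Mn) *ᵥ r) = 0 := by rw [G_isometry hvG, hrr]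
  have hz : h ((v : Mn) *ᵥ r) r = N₂ * (α' - 1) + N₃ * (β' - 1) := by
    rw [show h ((v : Mn) *ᵥ r) r = h ((v : Mn) *ᵥ r + (-1 : F) • r) r by
      rw [h_add_left, h_smul_left, hrr, mul_zero, add_zero], hsumv, h_add_left,
      show (Pi.single j ((α' - 1) * r j) : V) = ((α' - 1) * r j) • Pi.single j 1 by
        rw [← Pi.single_smul', smul_eq_mul, mul_one],
      show (Pi.single l ((β' - 1) * r l) : V) = ((β' - 1) * r l) • Pi.single l 1 by
        rw [← Pi.single_smul', smul_eq_mul, mul_one],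
      h_smul_left, h_smul_left, h_single_left hF, h_single_left hF]
    ring
  have hiso : h ((v : Mn) *ᵥ r + (-1 : F) • r) ((v : Mn) *ᵥ r + (-1 : F) • r) = 0 := by
    unfold Skew at hzs
    rw [h_add_left, h_add_right hF, h_add_right hF, h_smul_left, h_smul_right hF, h_smul_left,
      h_smul_right hF, hvrr, hrr, hz, ← h_swap hF ((v : Mn) *ᵥ r) r, hz]
    simp only [map_neg, map_one]
    linear_combination -hzs
  have hnegr : h ((-1 : F) • r) ((-1 : F) • r) = 0 := by
    rw [h_smul_left, h_smul_right hF, hrr]; ring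
  have hctr := join hF U (hr.conj hvK hvG) (hr.smul (-1)) hvrr hnegr hiso (by
    rw [h_smul_right hF, hz, map_neg, map_one, neg_one_mul]; exact neg_ne_zero.2 hz0)
  rw [hsumv] at hctr hiso
  set a' := (α' - 1) * r j
  set b' := (β' - 1) * r l
  have ha' : a' ≠ 0 := mul_ne_zero (sub_ne_zero.2 hα1) hj
  have hsing : ∀ (i : Fin n) (c : F), h (Pi.single i c : V) (Pi.single i c) = c * σ c := fun i c => by
    rw [show (Pi.single i c : V) = c • Pi.single i 1 by rw [← Pi.single_smul', smul_eq_mul, mul_one],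
      h_smul_left, h_smul_right hF, h_single_right hF, Pi.single_eq_same, mul_one]
  have hjl0 : h (Pi.single j a' : V) (Pi.single l b') = 0 :=
    ortho U hlj.symm (single_mem_stdD j a') (single_mem_stdD l b')
  refine ⟨j, l, hlj.symm, goodPair_of_one hF U hlj.symm (single_mem_stdD j a') (single_mem_stdD l b')
    ?_ ?_ hctr⟩
  · rw [hsing]; exact mul_ne_zero ha' fun e => ha' (frob_eq_zero hF e)
  · rw [h_add_left, h_add_right hF, h_add_right hF, hjl0, h_symm0 hF hjl0] at hiso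
    linear_combination hiso

end CfsgLib.MaxSub.WreathUnitary
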