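/-
All centres from all pairs, for decompositions into lines and `q ≥ 3`.
-/
import Cfsg.Agent.Lib.MaxSub.WreathUnitary.General

set_option autoImplicit false
set_option maxHeartbeats 400000
set_option linter.unusedSectionVars false

namespace CfsgLib.MaxSub.WreathUnitary

open Matrix Module Cfsg Cfsg.Geo CfsgLib.UnitaryTransvection
open CfsgLib.MaxSub (Ctr sg sg_mem G_isometry)

variable {F : Type*} [Field F] [Fintype F] {n q : ℕ} (hF : Fintype.card F = q ^ 2)

local notation "h" => Cfsg.hermForm n F q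
local notation "σ" => frob hF
local notation "V" => Fin n → F

variable {t : ℕ} {D : Fin t → Submodule F (Fin n → F)} {K : Subgroup (GL (Fin n) F)}

include hF in
/-- The vectors of a block which is a line are anisotropic. -/
theorem line_aniso (U : UW q 1 D K) {i : Fin t} {x : V} (hx : x ∈ D i) (hx0 : x ≠ 0) : h x x ≠ 0 := by
  intro e
  have hsp : Submodule.span F {x} = D i :=
    Submodule.eq_of_le_of_finrank_eq ((Submodule.span_singleton_le_iff_mem _ _).2 hx)
      (by rw [finrank_span_singleton hx0, U.dec.decomp.finrank_eq])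
  refine hx0 (nd_left U hx fun y hy => ?_)
  rw [← hsp] at hy
  obtain ⟨a, rfl⟩ := Submodule.mem_span_singleton.1 hy
  rw [h_smul_left, e, mul_zero]

theorem iso_sum {x y : V} {z : F} (hx : h x x = 0) (hy : h y y = 0) (hxy : h x y = z) (hz : Skew hF z) :
    h (x + y) (x + y) = 0 := by
  rw [h_add_left, h_add_right hF, h_add_right hF, hx, hy, ← h_swap hF x y, hxy]
  unfold Skew at hz
  linear_combination hz

theorem skewSq_mul_sq {x r : F} (hx : SkewSq hF x) (hr : σ r = r) (hr0 : r ≠ 0) :
    SkewSq hF (r * r * x) := by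
  obtain ⟨z, hz0, hz, rfl⟩ := hx
  exact ⟨r * z, mul_ne_zero hr0 hz0, by rw [map_mul, hr]; linear_combination r * hz, by ring⟩

/-- Replacing two components by one. -/
theorem merge (U : UW q 1 D K) {i j : Fin t} (hij : i ≠ j) {ci cj R : V} (hci : ci ∈ D i)
    (hcj : cj ∈ D j) (hci0 : ci ≠ 0) (hcj0 : cj ≠ 0) (hG : GoodPair hF D K i j)
    (hRi : ∀ y ∈ D i, h R y = 0) (hRj : ∀ y ∈ D j, h R y = 0)
    (hiso : h R R + h ci ci + h cj cj = 0) (hM : h ci ci + h cj cj ≠ 0)
    (hsk : SkewSq hF ((h ci ci + h cj cj) * h ci ci))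
    (hrec : ∀ a ∈ D j, h a a = h ci ci + h cj cj → Ctr hF K (R + a)) :
    Ctr hF K (R + ci + cj) := by
  obtain ⟨ζ, hζ0, hζ, hζζ⟩ := hsk
  set M := h ci ci + h cj cj with hMdef
  have hNj : h cj cj ≠ 0 := line_aniso hF U hcj hcj0
  have hNi : h ci ci ≠ 0 := line_aniso hF U hci hci0
  set μ := (M + ζ) / h cj cj with hμ
  set a := μ • cj with ha
  have haj : a ∈ D j := (D j).smul_mem _ hcj
  have hμN : μ * h cj cj = M + ζ := by rw [hμ]; exact div_mul_cancel₀ _ hNj
  have hMf : σ M = M := by rw [hMdef, map_add, fix_self hF, fix_self hF]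
  have hσμ : σ μ * h cj cj = M - ζ := by
    have := congrArg σ hμN
    rw [map_mul, map_add, fix_self hF, hMf] at this
    linear_combination this + hζ
  have haa : h a a = M := mul_right_cancel₀ hNj (by
    rw [ha, h_smul_left, h_smul_right hF]
    linear_combination (σ μ * h cj cj) * hμN + (M + ζ) * hσμ - hζζ + M * hMdef)
  have hac : h a cj = M + ζ := by rw [ha, h_smul_left, hμN]
  have hca : h cj a = M - ζ := by rw [ha, h_smul_right hF, hσμ]
  have hia : h ci (cj - a) = 0 := ortho U hij hci ((D j).sub_mem hcj haj)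
  have hdd : h (cj - a) (cj - a) = -h ci ci := by
    rw [h_sub_left, h_sub_right hF, h_sub_right hF, hac, hca, haa]
    linear_combination -hMdef
  have huu : h (ci + (cj - a)) (ci + (cj - a)) = 0 := by
    rw [h_add_left, h_add_right hF, h_add_right hF, hia, h_symm0 hF hia, hdd]; ring
  have hww : h (R + a) (R + a) = 0 := by
    rw [h_add_left, h_add_right hF, h_add_right hF, hRj a haj, h_symm0 hF (hRj a haj), haa]
    linear_combination hiso + hMdef
  have hwu : h (R + a) (ci + (cj - a)) = ζ := by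
    rw [h_add_left, h_add_right hF, h_add_right hF, hRi ci hci, hRj _ ((D j).sub_mem hcj haj),
      ortho U hij.symm haj hci, h_sub_right hF, hac, haa]
    ring
  rw [show R + ci + cj = (R + a) + (ci + (cj - a)) by abel]
  exact join hF U (hrec a haj haa) (hG ci hci _ ((D j).sub_mem hcj haj) hNi hdd) hww huu
    (iso_sum hF hww huu hwu hζ) (by rw [hwu]; exact hζ0)

/-- Three components, two of which have a suitable product of norms. -/
theorem triple_good (U : UW q 1 D K) (hall : ∀ a b : Fin t, a ≠ b → GoodPair hF D K a b)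
    {i j l : Fin t} (hij : i ≠ j) (hil : i ≠ l) (hjl : j ≠ l) {ci cj cl : V} (hci : ci ∈ D i)
    (hcj : cj ∈ D j) (hcl : cl ∈ D l) (hci0 : ci ≠ 0) (hcj0 : cj ≠ 0) (hcl0 : cl ≠ 0)
    (hsum : h ci ci + h cj cj + h cl cl = 0) (hsk : SkewSq hF (-(h cl cl * h ci ci))) :
    Ctr hF K (cl + ci + cj) := by
  have hl : h cl cl ≠ 0 := line_aniso hF U hcl hcl0
  refine merge hF U hij hci hcj hci0 hcj0 (hall i j hij) (fun y hy => ortho U hil.symm hcl hy)
    (fun y hy => ortho U hjl.symm hcl hy) (by linear_combination hsum)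
    (fun e => hl (by linear_combination hsum - e)) ?_ fun a ha haa => ?_
  · rwa [show (h ci ci + h cj cj) * h ci ci = -(h cl cl * h ci ci) by linear_combination h ci ci * hsum]
  · exact hall l j hjl.symm cl hcl a ha hl (by linear_combination haa + hsum)

/-- Three components. -/
theorem triple (U : UW q 1 D K) (hall : ∀ a b : Fin t, a ≠ b → GoodPair hF D K a b)
    {i j l : Fin t} (hij : i ≠ j) (hil : i ≠ l) (hjl : j ≠ l) {ci cj cl : V} (hci : ci ∈ D i)
    (hcj : cj ∈ D j) (hcl : cl ∈ D l) (hci0 : ci ≠ 0) (hcj0 : cj ≠ 0) (hcl0 : cl ≠ 0)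
    (hsum : h ci ci + h cj cj + h cl cl = 0) : Ctr hF K (cl + ci + cj) := by
  classical
  set A := h ci ci with hA
  set B := h cj cj with hB
  set C := h cl cl with hC
  have hA0 : A ≠ 0 := line_aniso hF U hci hci0
  have hB0 : B ≠ 0 := line_aniso hF U hcj hcj0
  have hC0 : C ≠ 0 := line_aniso hF U hcl hcl0
  by_cases h1 : SkewSq hF (-(C * A))
  · exact triple_good hF U hall hij hil hjl hci hcj hcl hci0 hcj0 hcl0 hsum h1
  by_cases h2 : SkewSq hF (-(A * B))
  · rw [show cl + ci + cj = ci + cj + cl by abel]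
    exact triple_good hF U hall hjl hij.symm hil.symm hcj hcl hci hcj0 hcl0 hci0
      (by linear_combination hsum) h2
  by_cases h3 : SkewSq hF (-(B * C))
  · rw [show cl + ci + cj = cj + cl + ci by abel]
    exact triple_good hF U hall hil.symm hjl.symm hij hcl hci hcj hcl0 hci0 hcj0
      (by linear_combination hsum) h3
  have hAf : σ A = A := fix_self hF ci
  have hBf : σ B = B := fix_self hF cj
  have hCf : σ C = C := fix_self hF cl
  obtain ⟨r₃, hr30, hr3, hr33⟩ := (skewSq_or_sq hF (x := -(C * A)) (by rw [map_neg, map_mul, hCf, hAf])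
    (neg_ne_zero.2 (mul_ne_zero hC0 hA0))).resolve_left h1
  obtain ⟨r₁, hr10, hr1, hr11⟩ := (skewSq_or_sq hF (x := -(A * B)) (by rw [map_neg, map_mul, hAf, hBf])
    (neg_ne_zero.2 (mul_ne_zero hA0 hB0))).resolve_left h2
  obtain ⟨r₂, hr20, hr2, hr22⟩ := (skewSq_or_sq hF (x := -(B * C)) (by rw [map_neg, map_mul, hBf, hCf])
    (neg_ne_zero.2 (mul_ne_zero hB0 hC0))).resolve_left h3
  have hchar : (2 : F) ≠ 0 := fun e => h1 (skewSq_of_two hF e (by rw [map_neg, map_mul, hCf, hAf])
    (neg_ne_zero.2 (mul_ne_zero hC0 hA0)))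
  -- `-1` is a square of the fixed field
  set ι := r₁ * r₂ * r₃ / (A * B * C) with hι
  have hιf : σ ι = ι := by rw [hι, map_div₀, map_mul, map_mul, map_mul, map_mul, hr1, hr2, hr3, hAf, hBf, hCf]
  have hι0 : ι ≠ 0 := div_ne_zero (mul_ne_zero (mul_ne_zero hr10 hr20) hr30)
    (mul_ne_zero (mul_ne_zero hA0 hB0) hC0)
  have hιι : ι * ι = -1 := by
    rw [hι, div_mul_div_comm, div_eq_iff (by simp [hA0, hB0, hC0])]
    linear_combination (r₂ * r₂ * (r₃ * r₃)) * hr11 + (-(A * B) * (r₃ * r₃)) * hr22 +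
      (A * B * B * C) * hr33
  -- a skew square and its complement
  set s := r₃ / A with hs
  obtain ⟨ν, hνf, hν, hsν⟩ := exists_skewSq_sum hF hchar (r := s) (by rw [hs, map_div₀, hr3, hAf])
    (div_ne_zero hr30 hA0)
  have hss : s * s * A = -C := by
    rw [hs, div_mul_div_comm, div_mul_eq_mul_div, div_eq_iff (mul_ne_zero hA0 hA0)]
    linear_combination A * hr33
  have hν' := hν
  obtain ⟨η, hη0, hη, hηη⟩ := hν'
  have hσν : SkewSq hF (ι * r₁ * (ι * r₁) * (s * s - ν)) :=
    skewSq_mul_sq hF hsν (by rw [map_mul, hιf, hr1]) (mul_ne_zero hι0 hr10)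
  -- a fourth line
  obtain ⟨e, he⟩ : ∃ e : Fin t, e ∉ ({i, j, l} : Finset (Fin t)) := by
    by_contra hc
    push Not at hc
    have := Finset.card_le_card (s := (Finset.univ : Finset (Fin t))) fun x _ => hc x
    rw [Finset.card_univ, Fintype.card_fin] at this
    have := Finset.card_le_three (a := i) (b := j) (c := l)
    have := t_mul U
    have := U.dim
    omega
  simp only [Finset.mem_insert, Finset.mem_singleton, not_or] at he
  obtain ⟨hei, hej, hel⟩ := he
  obtain ⟨p, hp, hpp⟩ := exists_unit hF U e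
  have hν0 : ν ≠ 0 := hηη ▸ mul_ne_zero hη0 hη0
  obtain ⟨β, hβ⟩ := exists_norm_eq hF (c := ν * A) (by rw [map_mul, hνf, hAf])
  set b := β • p with hb
  have hbD : b ∈ D e := (D e).smul_mem _ hp
  have hbb : h b b = ν * A := by rw [hb, h_smul_left, h_smul_right hF, hpp, mul_one, hβ]
  have hb0 : b ≠ 0 := fun e0 => mul_ne_zero hν0 hA0 (by rw [← hbb, e0, h_zero_left])
  have hση : σ η = -η := eq_neg_of_add_eq_zero_right hη
  have hη1 : (1 : F) - η ≠ 0 := fun e0 => hchar (by
    rw [← sub_eq_zero.1 e0, map_one] at hη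
    linear_combination hη)
  clear_value b
  set w := η • ci + b with hw
  set u := (1 - η) • ci + cj + cl - b with hu
  have hηA : h (η • ci) (η • ci) = -(ν * A) := by
    rw [h_smul_left, h_smul_right hF, hση, ← hA]; linear_combination -A * hηη
  have hwC : Ctr hF K w := hall i e (Ne.symm hei) _ ((D i).smul_mem _ hci) b hbD
    (by rw [hηA]; exact neg_ne_zero.2 (mul_ne_zero hν0 hA0)) (by rw [hηA, hbb]; ring)
  have oie : h ci b = 0 := ortho U (Ne.symm hei) hci hbD
  have oji : h cj ci = 0 := ortho U hij.symm hcj hci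
  have oli : h cl ci = 0 := ortho U hil.symm hcl hci
  have ojl : h cj cl = 0 := ortho U hjl hcj hcl
  have oje : h cj b = 0 := ortho U (Ne.symm hej) hcj hbD
  have ole : h cl b = 0 := ortho U (Ne.symm hel) hcl hbD
  have oij := h_symm0 hF oji
  have oil := h_symm0 hF oli
  have olj := h_symm0 hF ojl
  have oei := h_symm0 hF oie
  have oej := h_symm0 hF oje
  have oel := h_symm0 hF ole
  have hww : h w w = 0 := by
    rw [hw, h_add_left, h_add_right hF, h_add_right hF, hηA, hbb, h_smul_left, h_smul_right hF, oie,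
      oei]
    ring
  have huu : h u u = 0 := by
    simp only [hu, h_sub_left, h_sub_right hF, h_add_left, h_add_right hF, h_smul_left, h_smul_right hF,
      oie, oji, oli, ojl, oje, ole, oij, oil, olj, oei, oej, oel, hbb, ← hA, ← hB, ← hC, map_sub, map_one,
      hση]
    linear_combination hsum - A * hηη
  have hwu : h w u = η * A := by
    simp only [hw, hu, h_sub_left, h_sub_right hF, h_add_left, h_add_right hF, h_smul_left,
      h_smul_right hF, oie, oei, oij, oil, oej, oel, hbb, ← hA, map_sub, map_one, hση]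
    linear_combination A * hηη
  have huC : Ctr hF K u := by
    rw [hu, show (1 - η) • ci + cj + cl - b = (cl - b) + cj + (1 - η) • ci by abel]
    have hN : h ((1 - η) • ci) ((1 - η) • ci) = (1 - ν) * A := by
      rw [h_smul_left, h_smul_right hF, map_sub, map_one, hση, ← hA]
      linear_combination -A * hηη
    have hM : h cj cj + h ((1 - η) • ci) ((1 - η) • ci) = A * (s * s - ν) := by
      rw [hN, ← hB]; linear_combination hsum - hss
    refine merge hF U hij.symm hcj ((D i).smul_mem _ hci) hcj0 (smul_ne_zero hη1 hci0) (hall j i hij.symm)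
      (fun y hy => by rw [h_sub_left, ortho U hjl.symm hcl hy, ortho U hej hbD hy, sub_zero])
      (fun y hy => by rw [h_sub_left, ortho U hil.symm hcl hy, ortho U hei hbD hy, sub_zero]) ?_ ?_ ?_
      fun a ha haa => ?_
    · rw [h_sub_left, h_sub_right hF, h_sub_right hF, ole, oel, hbb, hN, ← hB, ← hC]
      linear_combination hsum
    · rw [hM]
      exact mul_ne_zero hA0 (by obtain ⟨z, hz, -, hzz⟩ := hsν; exact hzz ▸ mul_ne_zero hz hz)
    · rw [hM, ← hB, show A * (s * s - ν) * B = ι * r₁ * (ι * r₁) * (s * s - ν) by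
        linear_combination -(r₁ * r₁ * (s * s - ν)) * hιι + (s * s - ν) * hr11]
      exact hσν
    · rw [show cl - b + a = cl + (-b) + a by abel]
      have hnb : h (-b) (-b) = ν * A := by
        rw [show -b = (-1 : F) • b by simp, h_smul_left, h_smul_right hF, hbb, map_neg, map_one]; ring
      have ha0 : a ≠ 0 := fun e0 => by
        rw [e0, h_zero_left, hM] at haa
        obtain ⟨z, hz, -, hzz⟩ := hsν
        exact mul_ne_zero hA0 (hzz ▸ mul_ne_zero hz hz) haa.symm
      refine triple_good hF U hall hei hel hil ((D e).neg_mem hbD) ha hcl (neg_ne_zero.2 hb0) ha0 hcl0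
        ?_ ?_
      · rw [hnb, haa, hM, ← hC]; linear_combination hss
      · rw [hnb, ← hC, show -(C * (ν * A)) = r₃ * r₃ * ν by linear_combination -ν * hr33]
        exact skewSq_mul_sq hF hν hr3 hr30
  rw [show cl + ci + cj = w + u by simp only [hw, hu, sub_smul, one_smul]; abel]
  exact join hF U hwC huC hww huu (iso_sum hF hww huu hwu (skew_mul_fix hF hη hAf))
    (by rw [hwu]; exact mul_ne_zero hη0 hA0)

/-- All centres. -/
theorem ctr_all_lines (U : UW q 1 D K) (hq : 3 ≤ q)
    (hall : ∀ a b : Fin t, a ≠ b → GoodPair hF D K a b) : ∀ v, h v v = 0 → Ctr hF K v := by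
  classical
  refine ctr_all hF U 3 2 (by norm_num) (by norm_num)
    (fun J hJ => ⟨hJ ▸ le_finrank_blocks U J, Or.inl hq⟩) fun c hc hiso hN => ?_
  rw [sum_sum hF U hc hc] at hiso
  have hs : ∑ x, h (c x) (c x) = ∑ x ∈ supp c, h (c x) (c x) :=
    (Finset.sum_subset (Finset.subset_univ _) fun x _ hx => by
      rw [show c x = 0 from not_not.1 fun e => hx (mem_supp.2 e), h_zero_left]).symm
  rw [hs] at hiso
  rw [sum_eq_sum_supp c]
  rcases (supp c).card.eq_zero_or_pos with h0 | h0
  · rw [Finset.card_eq_zero.1 h0, Finset.sum_empty]; exact ctr_zero hF U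
  have hne : ∀ x ∈ supp c, c x ≠ 0 := fun x hx => mem_supp.1 hx
  rcases (show (supp c).card = 1 ∨ (supp c).card = 2 ∨ (supp c).card = 3 by omega) with h1 | h2 | h3
  · obtain ⟨i, hi⟩ := Finset.card_eq_one.1 h1
    rw [hi, Finset.sum_singleton] at hiso
    exact absurd hiso (line_aniso hF U (hc i) (hne i (by rw [hi]; simp)))
  · obtain ⟨i, j, hij, hS⟩ := Finset.card_eq_two.1 h2
    rw [hS, Finset.sum_pair hij] at hiso ⊢
    exact hall i j hij _ (hc i) _ (hc j) (line_aniso hF U (hc i) (hne i (by rw [hS]; simp)))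
      (by linear_combination hiso)
  · obtain ⟨i, j, l, hij, hil, hjl, hS⟩ := Finset.card_eq_three.1 h3
    rw [hS, Finset.sum_insert (by simp [hij, hil]), Finset.sum_pair hjl] at hiso ⊢
    rw [show c i + (c j + c l) = c l + c i + c j by abel]
    exact triple hF U hall hij hil hjl (hc i) (hc j) (hc l) (hne i (by rw [hS]; simp))
      (hne j (by rw [hS]; simp)) (hne l (by rw [hS]; simp)) (by linear_combination hiso)

end CfsgLib.MaxSub.WreathUnitary
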