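/-
Stabilisers of decompositions into non-degenerate subspaces are maximal in `SU_n`.
-/
import Cfsg.Agent.Lib.MaxSub.WreathUnitary.Block
import Cfsg.Agent.Lib.MaxSub.WreathUnitary.MonoFail
import Cfsg.Agent.Lib.MaxSub.WreathUnitary.MonoPair
import Cfsg.Agent.Lib.MaxSub.WreathUnitary.Triple
import Cfsg.Agent.Lib.MaxSub.WreathUnitary.Binary
import Cfsg.Agent.Lib.Aschbacher.UnitaryProperGeneral

set_option autoImplicit false
set_option maxHeartbeats 400000
set_option linter.unusedSectionVars false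

namespace CfsgLib.MaxSub.WreathUnitary

open Matrix Module Cfsg Cfsg.Geo CfsgLib.UnitaryTransvection
open CfsgLib.MaxSub (Ctr sg sg_mem G_isometry)
open CfsgLib.MaxSub.Monomial (Mono)

variable {F : Type*} [Field F] [Fintype F] {n q : ℕ} (hF : Fintype.card F = q ^ 2)

local notation "h" => Cfsg.hermForm n F q
local notation "σ" => frob hF
local notation "V" => Fin n → F
local notation "Mn" => Matrix (Fin n) (Fin n) F
local notation "G" => Cfsg.GU n F q ⊓ specialLinear (Fin n) F

include hF in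
/-- An overgroup of the monomial group with a non-monomial element contains `SU`. -/
theorem mono_case {K : Subgroup (GL (Fin n) F)} (U : UW q 1 (stdD n F) K) (hn6 : 6 ≤ n)
    (hex : 7 ≤ n ∨ 3 ≤ q) {g : GL (Fin n) F}
    (hg : g ∈ K) (hm : ¬ Mono (g : Mn)) : G ≤ K := by
  have hn := U.dim
  refine SU_le_of_ctr (hF := hF) (by omega) ?_
  have := (UnitaryBasic.frob_exists hF).1
  rcases (show q = 2 ∨ 3 ≤ q by omega) with hq | hq
  · exact ctr_all_binary hF U (by omega) hq hg hm
  by_cases hf : Fail K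
  · exact (fail_false hF U (by omega) (Or.inl hn6) hq hf hg hm).elim
  obtain ⟨a, b, hab, hP⟩ := pair_of_not_fail hF U hf
  exact ctr_all_lines hF U hq (goodPair_all hF U hab hP)

theorem stdD_decomp (hn : 2 ≤ n) : IsMDecomposition 1 (stdD n F) where
  two_le := hn
  pos := one_pos
  finrank_eq i := finrank_span_singleton (by simp)
  indep := by
    have h1 := (Pi.basisFun F (Fin n)).linearIndependent.iSupIndep_span_singleton
    simp only [Pi.basisFun_apply] at h1
    exact h1
  iSup_eq_top := by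
    show (⨆ i, Submodule.span F {(Pi.single i 1 : V)}) = ⊤
    rw [← Submodule.span_range_eq_iSup]
    convert (Pi.basisFun F (Fin n)).span_eq using 3
    funext i
    simp

include hF in
theorem stdD_nondeg (hn : 2 ≤ n) : IsNondegenerateMDecomposition (Cfsg.hermForm n F q) 1 (stdD n F) where
  decomp := stdD_decomp hn
  nondegenerate i x hx hx0 := by
    have hxi : x i ≠ 0 := fun e => hx0 (by rw [eq_single hx, e, Pi.single_zero])
    exact ⟨⟨Pi.single i 1, single_mem_stdD i 1, by
        rw [h_single_left hF]; exact fun e => hxi (frob_eq_zero hF e)⟩,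
      ⟨Pi.single i 1, single_mem_stdD i 1, by rw [h_single_right hF]; exact hxi⟩⟩
  orthogonal i j hij x hx y hy := by
    rw [eq_single hy, show (Pi.single j (y j) : V) = y j • Pi.single j 1 by
      rw [← Pi.single_smul', smul_eq_mul, mul_one], h_smul_right hF, h_single_right hF,
      mem_stdD.1 hx j (Ne.symm hij), mul_zero]

include hF in
/-- Decompositions into lines reduce to the coordinate one. -/
theorem line_reduce {D : Fin n → Submodule F (Fin n → F)} {K : Subgroup (GL (Fin n) F)} (U : UW q 1 D K)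
    (hcore : ∀ K' : Subgroup (GL (Fin n) F), UW q 1 (stdD n F) K' → ∀ g ∈ K', ¬ Mono (g : Mn) → G ≤ K')
    {g : GL (Fin n) F} (hg : g ∈ K) (hm : g ∉ decompositionStabilizer D) : G ≤ K := by
  classical
  have hn := U.dim
  choose e he hee using exists_unit hF U
  set M : Mn := Matrix.of fun a b => e b a with hM
  have hMy : ∀ u, M *ᵥ u = ∑ i, u i • e i := fun u => by
    funext a
    simp [hM, Matrix.mulVec, dotProduct, mul_comm]
  have hiso : ∀ u v, h (M *ᵥ u) (M *ᵥ v) = h u v := fun u v => by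
    rw [hMy, hMy, sum_sum hF U (c := fun i => u i • e i) (d := fun i => v i • e i)
      (fun i => (D i).smul_mem _ (he i)) (fun i => (D i).smul_mem _ (he i))]
    change _ = ∑ i, u i * v i ^ q
    refine Finset.sum_congr rfl fun i _ => ?_
    rw [h_smul_left, h_smul_right hF, hee, frob_apply, mul_one]
  set γ := (isometry_of_matrix hF hiso).unit with hγ
  have hγM : (γ : Mn) = M := (isometry_of_matrix hF hiso).unit_spec
  have hγi : ∀ u v, h ((γ : Mn) *ᵥ u) ((γ : Mn) *ᵥ v) = h u v := fun u v => by rw [hγM, hiso]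
  have hγU : γ ∈ Cfsg.GU n F q := fun u v => hγi u v
  have hto : ∀ i, ∀ y ∈ stdD n F i, (γ : Mn) *ᵥ y ∈ D i := fun i y hy => by
    rw [hγM, hMy, Finset.sum_eq_single i (fun j _ hj => by rw [mem_stdD.1 hy j hj, zero_smul])
      (fun e0 => absurd (Finset.mem_univ i) e0)]
    exact (D i).smul_mem _ (he i)
  have hfrom : ∀ i, ∀ x ∈ D i, ((γ⁻¹ : GL (Fin n) F) : Mn) *ᵥ x ∈ stdD n F i := fun i x hx => by
    have hsp : Submodule.span F {e i} = D i :=
      Submodule.eq_of_le_of_finrank_eq ((Submodule.span_singleton_le_iff_mem _ _).2 (he i))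
        (by
          rw [finrank_span_singleton (fun e0 => by
            have := hee i; rw [e0, h_zero_left] at this; exact zero_ne_one this), U.dec.decomp.finrank_eq])
    rw [← hsp] at hx
    obtain ⟨a, rfl⟩ := Submodule.mem_span_singleton.1 hx
    have h1 : (γ : Mn) *ᵥ Pi.single i a = a • e i := by
      rw [hγM, hMy, Finset.sum_eq_single i (fun j _ hj => by rw [Pi.single_eq_of_ne hj, zero_smul])
        (fun e0 => absurd (Finset.mem_univ i) e0), Pi.single_eq_same]
    rw [← h1, Matrix.mulVec_mulVec, Units.inv_mul, Matrix.one_mulVec]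
    exact single_mem_stdD i a
  have hconjG : ∀ x ∈ G, γ * x * γ⁻¹ ∈ G := fun x hx => ⟨(Cfsg.GU n F q).mul_mem ((Cfsg.GU n F q).mul_mem hγU hx.1) ((Cfsg.GU n F q).inv_mem hγU), by
    have h2 : Matrix.GeneralLinearGroup.det x = 1 := hx.2
    show Matrix.GeneralLinearGroup.det (γ * x * γ⁻¹) = 1
    rw [map_mul, map_mul, h2, mul_one, map_inv, mul_inv_cancel]⟩
  have hconjG' : ∀ x ∈ G, γ⁻¹ * x * γ ∈ G := fun x hx => ⟨(Cfsg.GU n F q).mul_mem ((Cfsg.GU n F q).mul_mem ((Cfsg.GU n F q).inv_mem hγU) hx.1) hγU, by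
    have h2 : Matrix.GeneralLinearGroup.det x = 1 := hx.2
    show Matrix.GeneralLinearGroup.det (γ⁻¹ * x * γ) = 1
    rw [map_mul, map_mul, h2, mul_one, map_inv, inv_mul_cancel]⟩
  set K' := K.comap (MulAut.conj γ).toMonoidHom
  have hK' : ∀ x, x ∈ K' ↔ γ * x * γ⁻¹ ∈ K := fun x => Iff.rfl
  have U' : UW q 1 (stdD n F) K' := by
    refine ⟨hn, Or.inl rfl, stdD_nondeg hF (by omega), ?_, fun x hx => ?_⟩
    · rintro x ⟨hx, hxG⟩
      refine (hK' x).2 (mem_of_maps U (hconjG x hxG) fun i => ?_)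
      obtain ⟨j, hj⟩ := maps_of_mono (mono_of_stab hx) i
      refine ⟨j, fun v hv => ?_⟩
      rw [Units.val_mul, Units.val_mul, ← Matrix.mulVec_mulVec, ← Matrix.mulVec_mulVec]
      exact hto j _ (hj _ (hfrom i v hv))
    · have h1 := hconjG' _ (U.le ((hK' x).1 hx))
      rwa [show γ⁻¹ * (γ * x * γ⁻¹) * γ = x by group] at h1
  have hg' : γ⁻¹ * g * γ ∈ K' := (hK' _).2 (by rwa [show γ * (γ⁻¹ * g * γ) * γ⁻¹ = g by group])
  have hm' : ¬ Mono ((γ⁻¹ * g * γ : GL (Fin n) F) : Mn) := fun hM' => hm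
    (Decomp.mem_stab_of U.dec.decomp fun i => by
      obtain ⟨j, hj⟩ := maps_of_mono hM' i
      refine ⟨j, fun v hv => ?_⟩
      have h1 := hto j _ (hj _ (hfrom i v hv))
      rwa [Matrix.mulVec_mulVec, Matrix.mulVec_mulVec, ← Units.val_mul, ← Units.val_mul,
        show γ * (γ⁻¹ * g * γ) * γ⁻¹ = g by group] at h1)
  intro x hx
  have h1 := (hK' _).1 (hcore K' U' _ hg' hm' (hconjG' x hx))
  rwa [show γ * (γ⁻¹ * x * γ) * γ⁻¹ = x by group] at h1

include hF in
/-- Decompositions into lines. -/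
theorem line_case {D : Fin n → Submodule F (Fin n → F)} {K : Subgroup (GL (Fin n) F)} (U : UW q 1 D K)
    (hn6 : 6 ≤ n) (hex : 7 ≤ n ∨ 3 ≤ q)
    {g : GL (Fin n) F} (hg : g ∈ K) (hm : g ∉ decompositionStabilizer D) : G ≤ K :=
  line_reduce hF U (fun _ U' _ hg' hm' => mono_case hF U' hn6 hex hg' hm') hg hm

/-- The stabiliser of a decomposition into non-degenerate subspaces is maximal. -/
theorem wreath_maximal (hF : Fintype.card F = q ^ 2) (hn : 6 ≤ n) {t : ℕ} (k : ℕ)
    (D : Fin t → Submodule F (Fin n → F))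
    (hD : IsNondegenerateMDecomposition (Cfsg.hermForm n F q) k D) (hex : ¬ (k = 2 ∧ q = 2)) (hline : k = 1 → 7 ≤ n ∨ 3 ≤ q) :
    IsMaximalIn G (decompositionStabilizer D ⊓ G) := by
  classical
  refine ⟨lt_of_le_not_ge inf_le_right fun hle => ?_, fun M hMH hMG => ?_⟩
  · rcases (show k = 1 ∨ 2 ≤ k by have := hD.decomp.pos; omega) with rfl | hk
    · have := t_mul (K := G) (q := q) ⟨by omega, Or.inr hn, hD, inf_le_right, le_rfl⟩
      obtain rfl : t = n := by omega
      exact CfsgLib.Aschbacher.not_SU_le_decompositionStabilizer hF (by omega) (Or.inl (by omega))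
        hD.decomp (hle.trans inf_le_left)
    · exact CfsgLib.Aschbacher.not_SU_le_decomposition hF (by omega) hk hD.decomp (hle.trans inf_le_left)
  by_cases hsub : ∀ g ∈ M, g ∈ decompositionStabilizer D
  · exact Or.inl (le_antisymm (fun g hg => ⟨hsub g hg, hMG hg⟩) hMH)
  push Not at hsub
  obtain ⟨g, hg, hgD⟩ := hsub
  have U : UW q k D M := ⟨by omega, Or.inr hn, hD, hMH, hMG⟩
  refine Or.inr (le_antisymm hMG ?_)
  rcases (show k = 1 ∨ 2 ≤ k by have := hD.decomp.pos; omega) with rfl | hk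
  · have := t_mul U
    obtain rfl : t = n := by omega
    exact line_case hF U hn (hline rfl) hg hgD
  · exact block_case hF U hk hex hg hgD

end CfsgLib.MaxSub.WreathUnitary
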