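/-
The stabiliser of a frame in `SU₅`, for the two small fields not covered by the general argument.
-/
import Cfsg.Agent.Lib.MaxSub.WreathUnitary.Main

set_option autoImplicit false
set_option maxHeartbeats 400000
set_option linter.unusedSectionVars false

namespace CfsgLib.MaxSub.WreathUnitary

open Matrix Module Cfsg Cfsg.Geo CfsgLib.UnitaryTransvection
open CfsgLib.MaxSub (Ctr sg sg_mem G_isometry)
open CfsgLib.MaxSub.Monomial (Mono exists_fresh)

variable {F : Type*} [Field F] [Fintype F] {n q : ℕ} (hF : Fintype.card F = q ^ 2)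

local notation "h" => Cfsg.hermForm n F q
local notation "σ" => frob hF
local notation "V" => Fin n → F
local notation "Mn" => Matrix (Fin n) (Fin n) F
local notation "G" => Cfsg.GU n F q ⊓ specialLinear (Fin n) F

variable {K : Subgroup (GL (Fin n) F)}

include hF in
/-- The scalars of norm one. -/
theorem exists_circle : ∃ Φ : Finset F, Φ.card = q + 1 ∧ ∀ φ ∈ Φ, φ * σ φ = 1 := by
  classical
  obtain ⟨ζ, hζ, hζ1⟩ := exists_gen hF
  refine ⟨(Finset.range (q + 1)).image fun i => (ζ : F) ^ i, ?_, fun φ hφ => ?_⟩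
  · rw [Finset.card_image_of_injOn, Finset.card_range]
    intro i hi j hj e
    simp only [Finset.coe_range, Set.mem_Iio] at hi hj
    exact pow_injOn_Iio_orderOf (x := ζ) (by simpa [hζ] using hi) (by simpa [hζ] using hj)
      (Units.ext (by simpa using e))
  · obtain ⟨i, -, rfl⟩ := Finset.mem_image.1 hφ
    exact circ_pow hF hζ1 i

/-- If many combinations of two vectors are sparse, their supports have small union. -/
theorem union_le {x y : V} {Φ : Finset F} {k : ℕ} (h0 : ∀ φ ∈ Φ, φ ≠ 0)
    (hk : ∀ φ ∈ Φ, (vs (x + φ • y)).card ≤ k) :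
    (Φ.card - 1) * (vs x ∪ vs y).card ≤ Φ.card * k := by
  classical
  have h1 : ∀ z ∈ vs x ∪ vs y, Φ.card - 1 ≤ (Φ.filter fun φ => (x + φ • y) z ≠ 0).card := by
    intro z hz
    have h2 := Finset.card_filter_add_card_filter_not (s := Φ) fun φ => (x + φ • y) z ≠ 0
    have h3 : (Φ.filter fun φ => ¬ (x + φ • y) z ≠ 0).card ≤ 1 := by
      refine Finset.card_le_one.2 fun a ha b hb => ?_
      simp only [Finset.mem_filter, not_not, Pi.add_apply, Pi.smul_apply, smul_eq_mul] at ha hb
      simp only [Finset.mem_union, mem_vs] at hz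
      have e : (a - b) * y z = 0 := by linear_combination ha.2 - hb.2
      rcases mul_eq_zero.1 e with e | e
      · exact sub_eq_zero.1 e
      · exact absurd (by linear_combination ha.2 - a * e : x z = 0) (hz.resolve_right (not_not.2 e))
    omega
  calc (Φ.card - 1) * (vs x ∪ vs y).card
      = ∑ _z ∈ vs x ∪ vs y, (Φ.card - 1) := by rw [Finset.sum_const, smul_eq_mul, mul_comm]
    _ ≤ ∑ z ∈ vs x ∪ vs y, (Φ.filter fun φ => (x + φ • y) z ≠ 0).card := Finset.sum_le_sum h1
    _ = ∑ φ ∈ Φ, ((vs x ∪ vs y).filter fun z => (x + φ • y) z ≠ 0).card := by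
      simp only [Finset.card_filter]; exact Finset.sum_comm
    _ ≤ ∑ φ ∈ Φ, k := Finset.sum_le_sum fun φ hφ => le_trans (Finset.card_le_card fun z hz =>
      mem_vs.2 (Finset.mem_filter.1 hz).2) (hk φ hφ)
    _ = Φ.card * k := by rw [Finset.sum_const, smul_eq_mul]

/-- The supports of two columns of an invertible matrix cannot always be small. -/
theorem card_col_lt {g : GL (Fin n) F} {k : ℕ} (hk : k < n) (hn : 1 < n)
    (hab : ∀ a b, a ≠ b → (vs ((g : Mn).col a) ∪ vs ((g : Mn).col b)).card ≤ k) (a : Fin n) :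
    (vs ((g : Mn).col a)).card < k := by
  classical
  have hle : (vs ((g : Mn).col a)).card ≤ k := by
    obtain ⟨b, hb⟩ := exists_fresh ({a} : Finset (Fin n)) (by rw [Finset.card_singleton]; omega)
    exact (Finset.card_le_card Finset.subset_union_left).trans (hab a b (fun e => hb (by simp [e])))
  refine lt_of_le_of_ne hle fun e => ?_
  obtain ⟨z, hz⟩ := exists_fresh (vs ((g : Mn).col a)) (by omega)
  have hall : ∀ b, (g : Mn) z b = 0 := fun b => by
    by_contra hne
    by_cases hba : b = a
    · subst hba; exact hz (mem_vs.2 hne)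
    have h1 := Finset.eq_of_subset_of_card_le (s := vs ((g : Mn).col a)) Finset.subset_union_left
      (le_of_le_of_eq (hab a b (Ne.symm hba)) e.symm)
    exact hz (h1 ▸ Finset.mem_union_right _ (mem_vs.2 hne))
  have h2 := congrFun (congrFun (Units.mul_inv g) z) z
  rw [Matrix.mul_apply, Finset.sum_eq_zero (fun b _ => by rw [hall b, zero_mul]),
    Matrix.one_apply_eq] at h2
  exact zero_ne_one h2

theorem mono_of_card {g : GL (Fin n) F} (hg : ∀ a, (vs ((g : Mn).col a)).card ≤ 1) :
    Mono (g : Mn) := by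
  intro a
  by_cases h0 : ∃ i, (g : Mn) i a ≠ 0
  · obtain ⟨i, hi⟩ := h0
    exact ⟨i, fun z hz => by_contra fun hne => hz (Finset.card_le_one.1 (hg a) z (mem_vs.2 hne) i
      (mem_vs.2 hi))⟩
  · push Not at h0
    exact ⟨a, fun z _ => h0 z⟩

include hF in
/-- A vector with two non-zero coordinates. -/
theorem vs_pair {a b : Fin n} (hab : a ≠ b) {φ : F} (hφ : φ ≠ 0) :
    (vs (Pi.single a 1 + φ • Pi.single b 1 : V)).card = 2 := by
  classical
  refine Finset.card_eq_two.2 ⟨a, b, hab, Finset.ext fun z => ?_⟩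
  rw [mem_vs]
  by_cases hza : z = a
  · subst hza; simp [hab]
  by_cases hzb : z = b
  · subst hzb; simp [hza, hφ]
  · simp [hza, hzb]

theorem mulVec_pair (g : GL (Fin n) F) (a b : Fin n) (φ : F) :
    (g : Mn) *ᵥ (Pi.single a 1 + φ • Pi.single b 1 : V) =
      (g : Mn).col a + φ • (g : Mn).col b := by
  rw [Matrix.mulVec_add, Matrix.mulVec_smul, Matrix.mulVec_single_one, Matrix.mulVec_single_one]

/-! ### The field of four elements -/

include hF in
theorem five_two (U : UW q 1 (stdD n F) K) (hn : n = 5) (hq : q = 2) {g : GL (Fin n) F}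
    (hg : g ∈ K) (hm : ¬ Mono (g : Mn)) : G ≤ K := by
  classical
  refine SU_le_of_ctr (hF := hF) (by omega) fun v hv => ?_
  have hall : ∃ w, Ctr hF K w ∧ (vs w).card = 4 := by
    by_contra hno
    obtain ⟨Φ, hΦ, hΦ1⟩ := exists_circle hF
    have h0 : ∀ φ ∈ Φ, φ ≠ 0 := fun φ hφ => left_ne_zero_of_mul ((hΦ1 φ hφ).trans_ne one_ne_zero)
    have hab : ∀ a b, a ≠ b → (vs ((g : Mn).col a) ∪ vs ((g : Mn).col b)).card ≤ 3 := fun a b hab => by
      have h1 := union_le (x := (g : Mn).col a) (y := (g : Mn).col b) (k := 2) h0 fun φ hφ => by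
        set f : V := Pi.single a 1 + φ • Pi.single b 1
        have hf2 : (vs f).card = 2 := vs_pair hF hab (h0 φ hφ)
        have hff : h f f = 0 := iso_of_even hF hq (by rw [hf2]; norm_num)
        have hC : Ctr hF K ((g : Mn) *ᵥ f) := (ctr_two' hF U hq hf2).conj hg (U.le hg)
        have hgg : h ((g : Mn) *ᵥ f) ((g : Mn) *ᵥ f) = 0 := by rw [G_isometry (U.le hg), hff]
        obtain ⟨m, hm'⟩ := even_vs hF hq hgg
        have h4 : (vs ((g : Mn) *ᵥ f)).card ≠ 4 := fun e => hno ⟨_, hC, e⟩
        have h5 : (vs ((g : Mn) *ᵥ f)).card ≤ n := by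
          simpa using Finset.card_le_univ (vs ((g : Mn) *ᵥ f))
        rw [← mulVec_pair]
        have : (vs ((g : Mn) *ᵥ f)).card ≠ 4 ∧ (vs ((g : Mn) *ᵥ f)).card ≤ n := ⟨h4, h5⟩
        change (vs ((g : Mn) *ᵥ f)).card ≤ 2
        omega
      rw [hΦ, hq] at h1
      omega
    refine hm (mono_of_card fun a => ?_)
    have h1 := card_col_lt (by omega) (by omega) hab a
    obtain ⟨m, hm'⟩ := odd_vs hF hq (v := (g : Mn).col a) (by rw [col_h hF (U.le hg), if_pos rfl])
    omega
  obtain ⟨w, hw, hw4⟩ := hall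
  obtain ⟨m, hm'⟩ := even_vs hF hq hv
  have h5 : (vs v).card ≤ n := by simpa using Finset.card_le_univ (vs v)
  rcases (show (vs v).card = 0 ∨ (vs v).card = 2 ∨ (vs v).card = 4 by omega) with e | e | e
  · rw [show v = 0 from funext fun z => not_not.1 fun e' => by
      have := mem_vs.2 e'
      rw [Finset.card_eq_zero.1 e] at this
      simp at this]
    exact ctr_zero hF U
  · exact ctr_two' hF U hq e
  · exact transport_four hF U (by omega) hq hw hw4 e

/-! ### The field of sixteen elements -/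

/-- A transvection at an isotropic vector lies in the group. -/
def Sw (K : Subgroup (GL (Fin n) F)) (w : V) (c : F) : Prop :=
  h w w = 0 ∧ σ c = c ∧ c ≠ 0 ∧ ∃ u ∈ K, (u : Mn) = Cfsg.unitaryTransvection n q w c

include hF in
theorem Sw.conj (U : UW q 1 (stdD n F) K) {w : V} {c : F} (hw : Sw hF K w c) {g : GL (Fin n) F}
    (hg : g ∈ K) : Sw hF K ((g : Mn) *ᵥ w) c := by
  obtain ⟨hww, hσ, hc, u, hu, hue⟩ := hw
  refine ⟨by rw [G_isometry (U.le hg), hww], hσ, hc, g * u * g⁻¹,
    mul_mem (mul_mem hg hu) (inv_mem hg), ?_⟩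
  have e : (g : Mn) * (u : Mn) = Cfsg.unitaryTransvection n q ((g : Mn) *ᵥ w) c * (g : Mn) := by
    refine Matrix.ext_of_mulVec_single fun i => ?_
    rw [← Matrix.mulVec_mulVec, ← Matrix.mulVec_mulVec, hue, tmat_mulVec, tmat_mulVec,
      Matrix.mulVec_add, Matrix.mulVec_smul, G_isometry (U.le hg)]
  rw [Units.val_mul, Units.val_mul, e, mul_assoc, Units.mul_inv, mul_one]

include hF in
theorem sw_entry {w : V} {c : F} {u : GL (Fin n) F}
    (hu : (u : Mn) = Cfsg.unitaryTransvection n q w c) (z j : Fin n) :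
    (u : Mn) z j = (if z = j then 1 else 0) + c * σ (w j) * w z := by
  have := congrFun (tmat_mulVec (q := q) (z := w) (c := c) (x := (Pi.single j 1 : V))) z
  rw [← hu, Matrix.mulVec_single_one, h_single_left hF] at this
  simpa [Matrix.col_apply, Pi.single_apply] using this

include hF in
/-- The transvection at a pair of coordinates interchanges them. -/
theorem sw_pair (U : UW q 1 (stdD n F) K) (h2 : (2 : F) = 0) {a b : Fin n} (hab : a ≠ b) {φ : F}
    (hφ : φ * σ φ = 1) : Sw hF K (Pi.single a 1 + φ • Pi.single b 1 : V) 1 := by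
  classical
  set f : V := Pi.single a 1 + φ • Pi.single b 1
  have hff : h f f = 0 := by
    rw [show h f f = h f (Pi.single a 1) + σ φ * h f (Pi.single b 1) by
      simp only [f, h_add_right hF, h_smul_right hF], h_single_right hF, h_single_right hF]
    simp [f, hab, hab.symm]
    linear_combination hφ + h2
  have hd : (Cfsg.unitaryTransvection n q f 1).det = 1 := by
    rw [det_tmat, hff, mul_zero, add_zero]
  have hgood : Good hF f 1 := by
    rw [Good, hff, mul_zero, add_zero, map_one]
    linear_combination h2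
  have hG := sg_mem (tmat_isometry hF hgood) hd
  refine ⟨hff, map_one _, one_ne_zero, _, mem_of_mono U hG ?_, rfl⟩
  have hfz : ∀ z, z ≠ a → z ≠ b → f z = 0 := fun z h1 h3 => by simp [f, h1, h3]
  have hfa : f a = 1 := by simp [f, hab]
  have hfb : f b = φ := by simp [f, hab.symm]
  intro j
  by_cases hja : j = a
  · subst hja
    refine ⟨b, fun z hz => ?_⟩
    rw [sw_entry hF (u := sg _ hd) rfl, hfa, map_one]
    by_cases hzj : z = j
    · subst hzj; rw [if_pos rfl, hfa]; linear_combination h2
    · rw [if_neg hzj, hfz z hzj hz]; ring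
  by_cases hjb : j = b
  · subst hjb
    refine ⟨a, fun z hz => ?_⟩
    rw [sw_entry hF (u := sg _ hd) rfl, hfb]
    by_cases hzj : z = j
    · subst hzj; rw [if_pos rfl, hfb]; linear_combination hφ + h2
    · rw [if_neg hzj, hfz z hz hzj]; ring
  exact ⟨j, fun z hz => by rw [sw_entry hF (u := sg _ hd) rfl, if_neg hz, hfz j hja hjb]; simp⟩

include hF in
theorem sw_short (U : UW q 1 (stdD n F) K) (hf : Fail K) {w : V} {c : F} (hw : Sw hF K w c)
    {i : Fin n} (hi : w i = 0) : (vs w).card ≤ 2 := by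
  classical
  obtain ⟨-, -, hc, u, hu, hue⟩ := hw
  have hM := hf u hu i i fun z hz => by rw [sw_entry hF hue, if_neg hz, hi]; simp
  by_contra hlt
  obtain ⟨j, hj⟩ := Finset.card_pos.1 (show 0 < (vs w).card by omega)
  obtain ⟨z₀, hz₀⟩ := hM j
  obtain ⟨z, hz, hz'⟩ : ∃ z ∈ vs w, z ∉ ({j, z₀} : Finset (Fin n)) := by
    by_contra hno
    push Not at hno
    have := (Finset.card_le_card hno).trans Finset.card_le_two
    omega
  simp only [Finset.mem_insert, Finset.mem_singleton, not_or] at hz'
  have h1 := hz₀ z hz'.2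
  rw [sw_entry hF hue, if_neg hz'.1, zero_add] at h1
  exact mul_ne_zero (mul_ne_zero hc (fun e => mem_vs.1 hj (frob_eq_zero hF e))) (mem_vs.1 hz) h1

include hF in
theorem sw_supp (U : UW q 1 (stdD n F) K) (hn : n = 5) (hq : q = 4) (h2 : (2 : F) = 0) (hf : Fail K)
    {w : V} {c : F} (hw : Sw hF K w c) : (vs w).card ≤ 2 := by
  classical
  by_cases h0 : ∃ i, w i = 0
  · obtain ⟨i, hi⟩ := h0; exact sw_short hF U hf hw hi
  push Not at h0
  exfalso
  obtain ⟨hww, hσc, hc, u, hu, hue⟩ := id hw
  set y : Fin n → F := fun z => c * (w z * σ (w z)) with hy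
  have hy0 : ∀ z, y z ≠ 0 := fun z =>
    mul_ne_zero hc (mul_ne_zero (h0 z) fun e => h0 z (frob_eq_zero hF e))
  have hy3 : ∀ z, y z ^ 3 = 1 := fun z => by
    have e : σ (y z) = y z := by simp only [hy, map_mul, hσc, frob_frob]; ring
    rw [frob_apply, hq] at e
    exact mul_left_cancel₀ (hy0 z) (by linear_combination e)
  have hysum : ∑ z, y z = 0 := by
    simp only [hy]
    rw [← Finset.mul_sum]
    refine mul_eq_zero.2 (Or.inr ?_)
    refine Eq.trans ?_ hww
    exact Finset.sum_congr rfl fun z _ => by rw [frob_apply]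
  have h5 : ((n : ℕ) : F) = 1 := by rw [hn]; push_cast; linear_combination 2 * h2
  obtain ⟨b, hb⟩ : ∃ b, y b = 1 := by
    by_contra hno
    push Not at hno
    have hquad : ∀ z, y z ^ 2 = y z + 1 := fun z => by
      have : (y z - 1) * (y z ^ 2 + y z + 1) = 0 := by linear_combination hy3 z
      linear_combination (mul_eq_zero.1 this).resolve_left (sub_ne_zero.2 (hno z)) - (y z + 1) * h2
    have hsq : ∑ z, y z ^ 2 = 0 := by
      have hchar : CharP F 2 := CharTwo.of_one_ne_zero_of_two_eq_zero one_ne_zero h2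
      rw [← CharTwo.sum_sq, hysum, zero_pow two_ne_zero]
    rw [Finset.sum_congr rfl fun z _ => hquad z, Finset.sum_add_distrib, hysum, zero_add,
      Finset.sum_const, Finset.card_univ, Fintype.card_fin, nsmul_eq_mul, mul_one, h5] at hsq
    exact one_ne_zero hsq
  obtain ⟨a, ha⟩ : ∃ a, y a ≠ 1 := by
    by_contra hno
    push Not at hno
    rw [Finset.sum_congr rfl fun z _ => hno z, Finset.sum_const, Finset.card_univ, Fintype.card_fin,
      nsmul_eq_mul, mul_one, h5] at hysum
    exact one_ne_zero hysum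
  have hab : a ≠ b := fun e => ha (e ▸ hb)
  have hquad : y a ^ 2 + y a + 1 = 0 := by
    have : (y a - 1) * (y a ^ 2 + y a + 1) = 0 := by linear_combination hy3 a
    exact (mul_eq_zero.1 this).resolve_left (sub_ne_zero.2 ha)
  have hσb : σ (w b) ≠ 0 := fun e => h0 b (frob_eq_zero hF e)
  set φ : F := (1 + y a) / (c * w a * σ (w b)) with hφd
  have hden : c * w a * σ (w b) ≠ 0 := mul_ne_zero (mul_ne_zero hc (h0 a)) hσb
  have hφm : φ * (c * w a * σ (w b)) = 1 + y a := div_mul_cancel₀ _ hden
  have hσy : σ (y a) = y a := by simp only [hy, map_mul, hσc, frob_frob]; ring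
  have hφ : φ * σ φ = 1 := by
    have e := congrArg σ hφm
    simp only [map_mul, map_add, map_one, hσc, frob_frob, hσy] at e
    have hb' : c * (w b * σ (w b)) = 1 := hb
    have : φ * σ φ * y a = y a := by
      have e2 : φ * σ φ * (y a * (c * (w b * σ (w b)))) = (1 + y a) * (1 + y a) := by
        rw [show (1 + y a) * (1 + y a) =
          φ * (c * w a * σ (w b)) * (σ φ * (c * σ (w a) * w b)) by rw [hφm, e]]
        simp only [hy]
        ring
      rw [hb', mul_one] at e2
      linear_combination e2 + hquad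
    exact mul_right_cancel₀ (hy0 a) (by rw [this, one_mul])
  have hφ0 : φ ≠ 0 := left_ne_zero_of_mul (hφ.trans_ne one_ne_zero)
  set f : V := Pi.single a 1 + φ • Pi.single b 1
  have hfa : f a = 1 := by simp [f, hab]
  have hS := (sw_pair hF U h2 hab hφ).conj hF U hu
  have hfw : h f w = σ (w a) + φ * σ (w b) := by
    simp only [f, h_add_left, h_smul_left, h_single_left hF]
  have hval : ∀ z, ((u : Mn) *ᵥ f) z = f z + c * h f w * w z := fun z => by
    rw [hue, tmat_mulVec, Pi.add_apply, Pi.smul_apply, smul_eq_mul]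
  have hza : ((u : Mn) *ᵥ f) a = 0 := by
    rw [hval, hfa, hfw]
    simp only [hy] at hφm
    linear_combination hφm + (1 + c * (w a * σ (w a))) * h2
  have hne : c * h f w ≠ 0 := fun e => one_ne_zero (α := F) (by
    have := hza; rwa [hval, hfa, e, zero_mul, add_zero] at this)
  have h3 : ((Finset.univ : Finset (Fin n)) \ {a, b}) ⊆ vs ((u : Mn) *ᵥ f) := fun z hz => by
    simp only [Finset.mem_sdiff, Finset.mem_insert, Finset.mem_singleton, not_or] at hz
    rw [mem_vs, hval, show f z = 0 by simp [f, hz.2.1, hz.2.2], zero_add]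
    exact mul_ne_zero hne (h0 z)
  have h4 := (Finset.card_le_card h3).trans (sw_short hF U hf hS hza)
  rw [Finset.card_sdiff_of_subset (Finset.subset_univ _), Finset.card_univ, Fintype.card_fin,
    Finset.card_pair hab] at h4
  omega

include hF in
/-- The failure hypothesis is false over sixteen elements. -/
theorem five_four_false (U : UW q 1 (stdD n F) K) (hn : n = 5) (hq : q = 4) (hf : Fail K)
    {g : GL (Fin n) F} (hg : g ∈ K) (hm : ¬ Mono (g : Mn)) : False := by
  classical
  have h2 : (2 : F) = 0 := by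
    have h1 := FiniteField.cast_card_eq_zero F
    rw [hF, hq] at h1
    norm_num at h1
    have h3 : (2 : F) ^ 4 = 0 := by linear_combination h1
    exact pow_eq_zero_iff (by norm_num) |>.1 h3
  obtain ⟨Φ, hΦ, hΦ1⟩ := exists_circle hF
  have h0 : ∀ φ ∈ Φ, φ ≠ 0 := fun φ hφ => left_ne_zero_of_mul ((hΦ1 φ hφ).trans_ne one_ne_zero)
  have hab : ∀ a b, a ≠ b → (vs ((g : Mn).col a) ∪ vs ((g : Mn).col b)).card ≤ 2 := fun a b hab => by
    have h1 := union_le (x := (g : Mn).col a) (y := (g : Mn).col b) (k := 2) h0 fun φ hφ => by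
      rw [← mulVec_pair]
      exact sw_supp hF U hn hq h2 hf ((sw_pair hF U h2 hab (hΦ1 φ hφ)).conj hF U hg)
    rw [hΦ, hq] at h1
    omega
  exact hm (mono_of_card fun a => by have := card_col_lt (by omega) (by omega) hab a; omega)

include hF in
theorem five_case {K' : Subgroup (GL (Fin n) F)} (U : UW q 1 (stdD n F) K') (hn : n = 5)
    {g : GL (Fin n) F} (hg : g ∈ K') (hm : ¬ Mono (g : Mn)) : G ≤ K' := by
  have := (UnitaryBasic.frob_exists hF).1
  by_cases hq : q = 2
  · exact five_two hF U hn hq hg hm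
  by_cases hq4 : q = 4
  · by_cases hf : Fail K'
    · exact (five_four_false hF U hn hq4 hf hg hm).elim
    obtain ⟨a, b, hab, hP⟩ := pair_of_not_fail hF U hf
    exact SU_le_of_ctr (hF := hF) (by omega) (ctr_all_lines hF U (by omega) (goodPair_all hF U hab hP))
  refine SU_le_of_ctr (hF := hF) (by omega) ?_
  by_cases hf : Fail K'
  · refine (fail_false hF U (by omega) (Or.inr fun hd => ?_) (by omega) hf hg hm).elim
    rw [hn] at hd
    rcases (Nat.dvd_prime (by norm_num)).1 hd with e | e <;> omega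
  obtain ⟨a, b, hab, hP⟩ := pair_of_not_fail hF U hf
  exact ctr_all_lines hF U (by omega) (goodPair_all hF U hab hP)

/-- The stabiliser of a frame is maximal in five dimensions. -/
theorem five_maximal (hF : Fintype.card F = q ^ 2) (hn : n = 5)
    (D : Fin n → Submodule F (Fin n → F))
    (hD : IsNondegenerateMDecomposition (Cfsg.hermForm n F q) 1 D) :
    IsMaximalIn G (decompositionStabilizer D ⊓ G) := by
  refine ⟨lt_of_le_not_ge inf_le_right fun hle => ?_, fun M hMH hMG => ?_⟩
  · exact CfsgLib.Aschbacher.not_SU_le_decompositionStabilizer hF (by omega) (Or.inl (by omega))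
      hD.decomp (hle.trans inf_le_left)
  by_cases hsub : ∀ g ∈ M, g ∈ decompositionStabilizer D
  · exact Or.inl (le_antisymm (fun g hg => ⟨hsub g hg, hMG hg⟩) hMH)
  push Not at hsub
  obtain ⟨g, hg, hgD⟩ := hsub
  exact Or.inr (le_antisymm hMG (line_reduce hF ⟨by omega, Or.inl rfl, hD, hMH, hMG⟩
    (fun _ U' _ hg hm => five_case hF U' hn hg hm) hg hgD))

end CfsgLib.MaxSub.WreathUnitary
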