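/-
Overgroups of the monomial group of `SU_4`: the failure hypothesis is false from four scalars on.
-/
import Cfsg.Agent.Lib.MaxSub.WreathUnitary.MonoFail

set_option autoImplicit false
set_option maxHeartbeats 800000
set_option linter.unusedSectionVars false

namespace CfsgLib.MaxSub.WreathUnitary

open Matrix Module Cfsg Cfsg.Geo CfsgLib.UnitaryTransvection
open CfsgLib.MaxSub (Ctr sg sg_mem G_isometry)
open CfsgLib.MaxSub.Monomial

variable {F : Type*} [Field F] [Fintype F] {q : ℕ} (hF : Fintype.card F = q ^ 2)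

local notation "h" => Cfsg.hermForm 4 F q
local notation "σ" => frob hF
local notation "V" => Fin 4 → F
local notation "M4" => Matrix (Fin 4) (Fin 4) F
local notation "G" => Cfsg.GU 4 F q ⊓ specialLinear (Fin 4) F

variable {K : Subgroup (GL (Fin 4) F)}

theorem perm_four : ∀ f : Fin 4 → Fin 4, Function.Injective f → ∀ p, f p = p →
    (∀ i, f (f i) = i) ∨ ∀ i, i ≠ p → f i ≠ i := by decide +kernel

include hF in
/-- A scalar of norm one of large order. -/
theorem exists_mu_four (hq : 4 ≤ q) :
    ∃ μ : F, μ * σ μ = 1 ∧ μ ≠ 0 ∧ ∀ i, 0 < i → i ≤ 4 → μ ^ i ≠ 1 := by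
  obtain ⟨z, hz, hz1⟩ := exists_gen hF
  refine ⟨z, hz1, z.ne_zero, fun i h0 hi e => ?_⟩
  have := Nat.le_of_dvd h0 (orderOf_dvd_of_pow_eq_one (Units.ext (by simpa using e) : z ^ i = 1))
  omega

theorem mono_of_row {A : GL (Fin 4) F} (hA : A ∈ K) (hf : Fail K) {c d : V}
    (e : Matrix.diagonal c * (A : M4) = (A : M4) * Matrix.diagonal d) (z : Fin 4)
    (hc : ∀ k, k ≠ z → c k ≠ c z) : Mono (A : M4) := by
  obtain ⟨l, hl⟩ : ∃ l, (A : M4) z l ≠ 0 := by
    by_contra hc
    push Not at hc
    exact ((Matrix.isUnit_iff_isUnit_det _).1 A.isUnit).ne_zero (Matrix.det_eq_zero_of_row_eq_zero z hc)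
  have he : ∀ k, (A : M4) k l ≠ 0 → c k = d l := fun k hk => by
    have := congrFun (congrFun e k) l
    rw [Matrix.diagonal_mul, Matrix.mul_diagonal, mul_comm ((A : M4) k l)] at this
    exact mul_right_cancel₀ hk this
  exact hf A hA l z fun k hk => by
    by_contra hne
    exact hc k hk ((he k hne).trans (he z hl).symm)

include hF in
/-- Under the failure hypothesis no column of a non-monomial element has two zeros. -/
theorem two_zeros_four (U : UW q 1 (stdD 4 F) K) (hq : 4 ≤ q) (hf : Fail K) {A : GL (Fin 4) F}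
    (hA : A ∈ K) (hm : ¬ Mono (A : M4)) {p z z' : Fin 4} (hne : z ≠ z') (hz : (A : M4) z p = 0)
    (hz' : (A : M4) z' p = 0) : False := by
  classical
  obtain ⟨μ, hμ, hμ0, hord⟩ := exists_mu_four hF hq
  obtain ⟨u, huK, -, hu⟩ := exists_diag_mem hF U (tor z z' μ) (fun i => tor_circ hF hμ i) (prod_tor hne hμ0)
  set T := A⁻¹ * u * A with hT
  have hTK : T ∈ K := mul_mem (mul_mem (inv_mem hA) huK) hA
  have hTp : (T : M4) *ᵥ Pi.single p 1 = Pi.single p 1 := by
    rw [hT, Units.val_mul, Units.val_mul, ← Matrix.mulVec_mulVec, ← Matrix.mulVec_mulVec,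
      Matrix.mulVec_single_one, hu, show Matrix.diagonal (tor z z' μ) *ᵥ (A : M4).col p = (A : M4).col p from
        funext fun k => by
          rw [Matrix.mulVec_diagonal, Matrix.col_apply]
          by_cases h1 : k = z
          · rw [h1, hz, mul_zero]
          by_cases h2 : k = z'
          · rw [h2, hz', mul_zero]
          · rw [tor_other h1 h2, one_mul],
      ← Matrix.mulVec_single_one, Matrix.mulVec_mulVec, Units.inv_mul, Matrix.one_mulVec]
  have hTm : Mono (T : M4) := hf T hTK p p fun k hk => by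
    have := congrFun hTp k
    rwa [Matrix.mulVec_single_one, Matrix.col_apply, Pi.single_eq_of_ne hk] at this
  obtain ⟨π, e, he0, hTe⟩ := exists_monM hTm ((Matrix.isUnit_iff_isUnit_det _).1 T.isUnit).ne_zero
  have hπp : π p = p ∧ e p = 1 := by
    have h1 := congrFun hTp p
    rw [hTe, monM_mulVec, Pi.single_eq_same] at h1
    have h2 : π.symm p = p := by
      by_contra hne'
      rw [Pi.single_eq_of_ne hne', mul_zero] at h1
      exact zero_ne_one h1
    rw [h2, Pi.single_eq_same, mul_one] at h1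
    exact ⟨(Equiv.symm_apply_eq _).1 h2 |>.symm, h1⟩
  have hAT : Matrix.diagonal (tor z z' μ) * (A : M4) = (A : M4) * (T : M4) := by
    rw [← hu, ← Units.val_mul, ← Units.val_mul, hT, mul_assoc A⁻¹, mul_inv_cancel_left]
  rcases perm_four π π.injective p hπp.1 with hinv | hfree
  · have hsq : (T : M4) * (T : M4) = Matrix.diagonal fun j => e (π j) * e j := by
      rw [hTe, monM_mul, show π * π = 1 from Equiv.ext fun i => hinv i, monM_one]
    refine hm (mono_of_row hA hf (c := fun i => tor z z' μ i * tor z z' μ i)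
      (d := fun j => e (π j) * e j) ?_ z fun k hk => ?_)
    · rw [← Matrix.diagonal_mul_diagonal, Matrix.mul_assoc, hAT, ← Matrix.mul_assoc, hAT, Matrix.mul_assoc, hsq]
    · rw [tor_fst]
      intro ek
      by_cases hk' : k = z'
      · rw [hk', tor, if_neg hne.symm, if_pos rfl] at ek
        refine hord 4 (by norm_num) le_rfl ?_
        field_simp at ek
        linear_combination -ek
      · rw [tor_other hk hk', mul_one] at ek
        exact hord 2 (by norm_num) (by norm_num) (by linear_combination -ek)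
  · have htr : (T : M4).trace = (Matrix.diagonal (tor z z' μ)).trace := by
      rw [hT, Units.val_mul, Units.val_mul, Matrix.trace_units_conj', hu]
    rw [hTe, Matrix.trace, Matrix.trace_diagonal, Finset.sum_eq_single p
      (fun i _ hi => by rw [Matrix.diag_apply, monM_apply, if_neg (Ne.symm (hfree i hi))]) (by simp),
      Matrix.diag_apply, monM_apply, if_pos hπp.1.symm, hπp.2,
      ← Finset.add_sum_erase _ _ (Finset.mem_univ z),
      ← Finset.add_sum_erase _ _ (Finset.mem_erase.2 ⟨hne.symm, Finset.mem_univ z'⟩), tor_fst,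
      Finset.sum_congr rfl (fun i hi => tor_other (Finset.ne_of_mem_erase (Finset.mem_of_mem_erase hi))
        (Finset.ne_of_mem_erase hi) μ), Finset.sum_const,
      Finset.card_erase_of_mem (Finset.mem_erase.2 ⟨hne.symm, Finset.mem_univ z'⟩),
      Finset.card_erase_of_mem (Finset.mem_univ z), Finset.card_univ, Fintype.card_fin, tor,
      if_neg hne.symm, if_pos rfl] at htr
    refine hord 3 (by norm_num) (by norm_num) ?_
    simp at htr
    field_simp at htr
    linear_combination -(μ - 1) * htr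

include hF in
/-- Under the failure hypothesis non-monomial elements have no zero entry. -/
theorem full_four (U : UW q 1 (stdD 4 F) K) (hq : 4 ≤ q) (hf : Fail K) {A : GL (Fin 4) F}
    (hA : A ∈ K) (hm : ¬ Mono (A : M4)) (x p : Fin 4) : (A : M4) x p ≠ 0 := by
  classical
  intro hxp
  obtain ⟨ζ, hζ1, hζ0, hord⟩ := exists_mu_four hF hq
  set d : V := fun z => (if z = x then (ζ ^ 4)⁻¹ else 1) * ζ
  have hd : ∀ z, d z * σ (d z) = 1 := fun z => by
    refine circ_mul hF ?_ hζ1
    split_ifs
    · rw [← circ_inv hF (circ_pow hF hζ1 4)]; exact circ_conj hF (circ_pow hF hζ1 4)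
    · simp
  have hdp : ∏ z, d z = 1 := by
    rw [Finset.prod_mul_distrib, Finset.prod_ite_eq', if_pos (Finset.mem_univ x), Finset.prod_const,
      Finset.card_univ, Fintype.card_fin, inv_mul_cancel₀ (pow_ne_zero _ hζ0)]
  obtain ⟨H, hHK, -, hH⟩ := exists_diag_mem hF U d hd hdp
  set Be := ((A⁻¹ : GL (Fin 4) F) : M4).col x
  have hdiff : ∀ y, ζ⁻¹ • (((A⁻¹ * H * A : GL (Fin 4) F) : M4) *ᵥ y) - y =
      (((ζ ^ 4)⁻¹ - 1) * ((A : M4) *ᵥ y) x) • Be := by
    intro y
    have e1 : ζ⁻¹ • ((H : M4) *ᵥ ((A : M4) *ᵥ y)) = (A : M4) *ᵥ y +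
        (((ζ ^ 4)⁻¹ - 1) * ((A : M4) *ᵥ y) x) • (Pi.single x 1 : V) := funext fun z => by
      rw [hH, Pi.smul_apply, Pi.add_apply, Pi.smul_apply, Matrix.mulVec_diagonal]
      simp only [d, smul_eq_mul, Pi.single_apply]
      split_ifs with hz
      · subst hz; field_simp; ring
      · field_simp; ring
    rw [Units.val_mul, Units.val_mul, ← Matrix.mulVec_mulVec, ← Matrix.mulVec_mulVec,
      ← Matrix.mulVec_smul, e1, Matrix.mulVec_add, Matrix.mulVec_smul, Matrix.mulVec_mulVec,
      Units.inv_mul, Matrix.one_mulVec, Matrix.mulVec_single_one, add_sub_cancel_left]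
  obtain ⟨M, hM, hMs⟩ := sparse_of_fix hF U (by omega) hf hA hm hHK (inv_ne_zero hζ0) (p := p) (lam := ζ)
    (funext fun z => by
      rw [hH, Matrix.mulVec_diagonal, Pi.smul_apply, Matrix.col_apply]
      simp only [d, smul_eq_mul]
      split_ifs with hz
      · subst hz; rw [hxp, mul_zero, mul_zero]
      · rw [one_mul])
    (Submodule.span F {Be}) fun y => by
      rw [hdiff]; exact Submodule.smul_mem _ _ (Submodule.mem_span_singleton_self Be)
  have hc0 : (ζ ^ 4)⁻¹ - 1 ≠ 0 := sub_ne_zero.2 fun e => hord 4 (by norm_num) le_rfl (inv_eq_one.1 e)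
  have h1 : finrank F (Submodule.span F {Be}) ≤ 1 := by
    refine le_trans (finrank_span_le_card ({Be} : Set V)) ?_
    simp
  have hMz : ∀ i ∉ M, ((A⁻¹ : GL (Fin 4) F) : M4) i x = 0 := fun i hi => by
    have := hMs Be i hi
    rw [hdiff, show (A : M4) *ᵥ Be = Pi.single x 1 by
      show (A : M4) *ᵥ ((A⁻¹ : GL (Fin 4) F) : M4).col x = _
      rw [← Matrix.mulVec_single_one, Matrix.mulVec_mulVec, Units.mul_inv, Matrix.one_mulVec]] at this
    simpa [hc0, Be] using this
  obtain ⟨z, hz1⟩ := exists_fresh M (by omega)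
  obtain ⟨z', hz'⟩ := exists_fresh (insert z M) (lt_of_le_of_lt (Finset.card_insert_le _ _) (by omega))
  simp only [Finset.mem_insert, not_or] at hz'
  exact two_zeros_four hF U hq hf (inv_mem hA) (not_mono_inv hF hm) (Ne.symm hz'.1) (hMz z hz1) (hMz z' hz'.2)

include hF in
/-- A conjugate of a torus element is not monomial. -/
theorem tor_kill (U : UW q 1 (stdD 4 F) K) (hq : 4 ≤ q)
    (hfull : ∀ A ∈ K, ¬ Mono ((A : GL (Fin 4) F) : M4) → ∀ x p, (A : M4) x p ≠ 0)
    {g : GL (Fin 4) F} (hg : g ∈ K) (hm : ¬ Mono (g : M4)) {i j : Fin 4} (hij : i ≠ j) {r : F}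
    (hr : r ≠ 1) (hr0 : r ≠ 0)
    (hM : Mono ((g : M4) * Matrix.diagonal (tor i j r) * ((g⁻¹ : GL (Fin 4) F) : M4))) : False := by
  classical
  obtain ⟨T, hT⟩ : ∃ T, T = (g : M4) * Matrix.diagonal (tor i j r) * ((g⁻¹ : GL (Fin 4) F) : M4) := ⟨_, rfl⟩
  rw [← hT] at hM
  have hTg : T * (g : M4) = (g : M4) * Matrix.diagonal (tor i j r) := by
    rw [hT, Matrix.mul_assoc, Units.inv_mul, Matrix.mul_one]
  have hdetT : T.det ≠ 0 := fun e0 => by
    have := congrArg Matrix.det hTg
    rw [Matrix.det_mul, Matrix.det_mul, e0, zero_mul, Matrix.det_diagonal, prod_tor hij hr0, mul_one] at this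
    exact ((Matrix.isUnit_iff_isUnit_det _).1 g.isUnit).ne_zero this.symm
  obtain ⟨π, e, he0, hTe⟩ := exists_monM hM hdetT
  have hcol : ∀ z l, e (π.symm z) * (g : M4) (π.symm z) l = (g : M4) z l * tor i j r l := fun z l => by
    rw [← Matrix.col_apply (g : M4) l (π.symm z), ← monM_mulVec, ← hTe, ← Matrix.mulVec_single_one,
      Matrix.mulVec_mulVec, hTg, Matrix.mulVec_single_one, Matrix.col_apply, Matrix.mul_diagonal]
  obtain ⟨k, hk⟩ := exists_fresh ({i, j} : Finset (Fin 4)) (lt_of_le_of_lt Finset.card_le_two (by norm_num))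
  simp only [Finset.mem_insert, Finset.mem_singleton, not_or] at hk
  have hne := hfull g hg hm
  have hfree : ∀ z, π z ≠ z := fun z hz => by
    have hs : π.symm z = z := by rw [Equiv.symm_apply_eq, hz]
    have e1 := hcol z i
    have e2 := hcol z k
    rw [hs, tor_fst] at e1
    rw [hs, tor_other hk.1 hk.2] at e2
    have a1 : e z = r := mul_right_cancel₀ (hne z i) (by linear_combination e1)
    have a2 : e z = 1 := mul_right_cancel₀ (hne z k) (by linear_combination e2)
    exact hr (a1.symm.trans a2)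
  have htr : T.trace = 0 := by
    rw [hTe, Matrix.trace]
    exact Finset.sum_eq_zero fun z _ => by rw [Matrix.diag_apply, monM_apply, if_neg (Ne.symm (hfree z))]
  have hr1 : r = -1 := by
    rw [hT, Matrix.trace_units_conj, Matrix.trace_diagonal,
      ← Finset.add_sum_erase _ _ (Finset.mem_univ i),
      ← Finset.add_sum_erase _ _ (Finset.mem_erase.2 ⟨hij.symm, Finset.mem_univ j⟩), tor_fst,
      Finset.sum_congr rfl (fun l hl => tor_other (Finset.ne_of_mem_erase (Finset.mem_of_mem_erase hl))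
        (Finset.ne_of_mem_erase hl) r), Finset.sum_const,
      Finset.card_erase_of_mem (Finset.mem_erase.2 ⟨hij.symm, Finset.mem_univ j⟩),
      Finset.card_erase_of_mem (Finset.mem_univ i), Finset.card_univ, Fintype.card_fin, tor,
      if_neg hij.symm, if_pos rfl] at htr
    simp at htr
    field_simp at htr
    exact eq_neg_of_add_eq_zero_left (mul_self_eq_zero.1 (show (r + 1) * (r + 1) = 0 by linear_combination htr))
  have hττ : ∀ l, tor i j r l * tor i j r l = 1 := fun l => by
    simp only [tor]; split_ifs <;> simp [hr1]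
  have hinv : ∀ z, π (π z) = z := fun z => by
    have hTT : T * T = 1 := by
      rw [hT, show (g : M4) * Matrix.diagonal (tor i j r) * ((g⁻¹ : GL (Fin 4) F) : M4) *
        ((g : M4) * Matrix.diagonal (tor i j r) * ((g⁻¹ : GL (Fin 4) F) : M4)) =
        (g : M4) * (Matrix.diagonal (tor i j r) * ((((g⁻¹ : GL (Fin 4) F) : M4) * (g : M4)) *
          Matrix.diagonal (tor i j r))) * ((g⁻¹ : GL (Fin 4) F) : M4) by simp only [Matrix.mul_assoc],
        Units.inv_mul, Matrix.one_mul, Matrix.diagonal_mul_diagonal]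
      simp [hττ]
    rw [hTe, monM_mul] at hTT
    by_contra hne'
    have := congrFun (congrFun hTT ((π * π) z)) z
    rw [monM_apply, if_pos rfl, Equiv.Perm.mul_apply, Matrix.one_apply_ne hne'] at this
    exact mul_ne_zero (he0 _) (he0 _) this
  set P : Finset (Fin 4) := {0, π 0} with hP
  have hPc : P.card = 2 := Finset.card_pair (Ne.symm (hfree 0))
  have hPπ : ∀ z, (π z ∈ P ↔ z ∈ P) := fun z => by
    simp only [hP, Finset.mem_insert, Finset.mem_singleton]
    constructor <;> rintro (e1 | e1)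
    · exact Or.inr (by rw [← hinv z, e1])
    · exact Or.inl (π.injective e1)
    · exact Or.inr (by rw [e1])
    · exact Or.inl (by rw [e1, hinv])
  obtain ⟨ζ, hζ, hζ0, hord⟩ := exists_mu_four hF hq
  have key : ∀ α : F, α * σ α = 1 → α * α ≠ 1 → ∃ c : F, ∀ z,
      (if z ∈ P then α else α⁻¹) * (g : M4) z i = c * (g : M4) z j := by
    intro α hα hα2
    have hα0 := circ_ne_zero hF hα
    obtain ⟨D, hDK, -, hD⟩ := exists_diag_mem hF U (fun z => if z ∈ P then α else α⁻¹)
      (fun z => by
        show (if z ∈ P then α else α⁻¹) * σ (if z ∈ P then α else α⁻¹) = 1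
        split_ifs
        · exact hα
        · rw [← circ_inv hF hα]; exact circ_conj hF hα)
      (by
        rw [Finset.prod_ite, Finset.prod_const, Finset.prod_const, Finset.filter_mem_eq_inter, Finset.univ_inter,
          hPc, Finset.filter_not, Finset.filter_mem_eq_inter, Finset.univ_inter, Finset.card_univ_diff,
          Fintype.card_fin, hPc, inv_pow, mul_inv_cancel₀ (pow_ne_zero _ hα0)])
    set A := g⁻¹ * D * g with hAdef
    have hAK : A ∈ K := mul_mem (mul_mem (inv_mem hg) hDK) hg
    have hcomm : (A : M4) * Matrix.diagonal (tor i j r) = Matrix.diagonal (tor i j r) * (A : M4) := by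
      have h1 : Matrix.diagonal (fun z => if z ∈ P then α else α⁻¹) * T =
          T * Matrix.diagonal (fun z => if z ∈ P then α else α⁻¹) := by
        ext a b
        rw [Matrix.diagonal_mul, Matrix.mul_diagonal, hTe, monM_apply]
        by_cases h2 : a = π b
        · subst h2
          simp only [hPπ, if_true]
          ring
        · rw [if_neg h2]; ring
      have hτ : Matrix.diagonal (tor i j r) = ((g⁻¹ : GL (Fin 4) F) : M4) * T * (g : M4) := by
        rw [Matrix.mul_assoc, hTg, ← Matrix.mul_assoc, Units.inv_mul, Matrix.one_mul]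
      rw [hAdef, Units.val_mul, Units.val_mul, hD, hτ]
      simp only [Matrix.mul_assoc, Units.mul_inv_cancel_left]
      rw [← Matrix.mul_assoc (Matrix.diagonal _) T, h1, Matrix.mul_assoc]
    have hz0 : (A : M4) k i = 0 := by
      have := congrFun (congrFun hcomm k) i
      rw [Matrix.mul_diagonal, Matrix.diagonal_mul, tor_fst, tor_other hk.1 hk.2, one_mul] at this
      exact (mul_eq_zero.1 (show (A : M4) k i * (r - 1) = 0 by linear_combination this)).resolve_right
        (sub_ne_zero.2 hr)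
    obtain ⟨t, ht⟩ : ∃ t, ∀ l, l ≠ t → (A : M4) l i = 0 := by
      by_contra hc
      exact hfull A hAK (fun hMA => hc (hMA i)) k i hz0
    have hgA : ∀ z, (if z ∈ P then α else α⁻¹) * (g : M4) z i = (g : M4) z t * (A : M4) t i := fun z => by
      have e1 : (g : M4) * (A : M4) = (D : M4) * (g : M4) := by
        rw [← Units.val_mul, ← Units.val_mul, hAdef, mul_assoc g⁻¹, mul_inv_cancel_left]
      have := congrFun (congrFun e1 z) i
      rw [Matrix.mul_apply, Finset.sum_eq_single t (fun l _ hl => by rw [ht l hl, mul_zero]) (by simp), hD,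
        Matrix.diagonal_mul] at this
      exact this.symm
    by_cases htj : t = j
    · exact ⟨(A : M4) t i, fun z => by rw [hgA, htj, mul_comm]⟩
    exfalso
    by_cases hti : t = i
    · obtain ⟨w, hw⟩ := exists_fresh P (by omega)
      have e1 := hgA 0
      have e2 := hgA w
      rw [if_pos (by simp [hP]), hti, mul_comm ((g : M4) 0 i)] at e1
      rw [if_neg hw, hti, mul_comm ((g : M4) w i)] at e2
      have := (mul_right_cancel₀ (hne 0 i) e1).trans (mul_right_cancel₀ (hne w i) e2).symm
      exact hα2 (by nth_rewrite 2 [this]; exact mul_inv_cancel₀ hα0)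
    · have := congrFun (congrFun hcomm t) i
      rw [Matrix.mul_diagonal, Matrix.diagonal_mul, tor_fst, tor_other hti htj, one_mul] at this
      have h0 := (mul_eq_zero.1 (show (A : M4) t i * (r - 1) = 0 by linear_combination this)).resolve_right
        (sub_ne_zero.2 hr)
      exact ((Matrix.isUnit_iff_isUnit_det _).1 A.isUnit).ne_zero
        (Matrix.det_eq_zero_of_column_eq_zero i fun l => (em (l = t)).elim (fun e => e ▸ h0) (ht l))
  obtain ⟨c, hc⟩ := key ζ hζ (fun e => hord 2 (by norm_num) (by norm_num) (by linear_combination e))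
  obtain ⟨c', hc'⟩ := key (ζ * ζ) (circ_mul hF hζ hζ)
    (fun e => hord 4 (by norm_num) le_rfl (by linear_combination e))
  obtain ⟨w, hw⟩ := exists_fresh P (by omega)
  have a1 := hc 0
  have a2 := hc' 0
  have b1 := hc w
  have b2 := hc' w
  rw [if_pos (by simp [hP])] at a1 a2
  rw [if_neg hw] at b1 b2
  have hc1 : c' = c * ζ := mul_right_cancel₀ (hne 0 j) (by linear_combination ζ * a1 - a2)
  have hb : ζ⁻¹ * (g : M4) w i * ζ = (ζ * ζ)⁻¹ * (g : M4) w i := by
    rw [b1, b2, hc1]; ring
  field_simp at hb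
  exact hord 2 (by norm_num) (by norm_num)
    (mul_right_cancel₀ (hne w i) (by rw [one_mul]; linear_combination hb))

include hF in
/-- Two traces with a prescribed sum, not both of fixed elements. -/
theorem exists_moving_traces {a b : F} (ha : a ≠ 0) (hb : b ≠ 0) :
    ∃ δ ε : F, δ * σ δ = 1 ∧ ε * σ ε = 1 ∧ a * δ + σ (a * δ) + (b * ε + σ (b * ε)) = 0 ∧
      (σ (a * δ) ≠ a * δ ∨ σ (b * ε) ≠ b * ε) := by
  classical
  by_cases h2 : (2 : F) = 0
  · have card : ∀ {c : F}, c ≠ 0 →
        q + 2 ≤ 2 * ((circ hF).image fun δ => c * δ + σ (c * δ)).card := fun {c} hc => by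
      have heven : Even q := by
        by_contra ho
        refine CfsgLib.FiniteForms.two_ne_zero_of_odd (F := F) rfl ?_ h2
        rw [hF]; exact (Nat.not_even_iff_odd.1 ho).pow
      obtain ⟨m, hm⟩ := heven
      have := le_trans (two_mul_card_norms hF hc one_ne_zero) (Nat.mul_le_mul_left 2 (le_trans
        (Finset.card_le_card (t := ((circ hF).image fun δ => c * δ + σ (c * δ)).image
          fun t => c * σ c + t + 1) fun v hv => by
          obtain ⟨α, hα, rfl⟩ := Finset.mem_image.1 hv
          refine Finset.mem_image.2 ⟨_, Finset.mem_image_of_mem _ hα, ?_⟩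
          simp only [map_add, map_mul, map_one]
          linear_combination -(c * σ c) * (mem_circ hF).1 hα) Finset.card_image_le))
      omega
    set A := (circ hF).image fun δ => a * δ + σ (a * δ)
    set B := (circ hF).image fun δ => b * δ + σ (b * δ)
    have hu : (A ∪ B).card ≤ q := le_trans (Finset.card_le_card fun x hx => by
      refine Finset.mem_filter.2 ⟨Finset.mem_univ x, ?_⟩
      rcases Finset.mem_union.1 hx with h1 | h1 <;> obtain ⟨α, -, rfl⟩ := Finset.mem_image.1 h1 <;>
        exact fix_trace hF _) (card_fix_le hF)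
    have hi := Finset.card_union_add_card_inter A B
    have hA : q + 2 ≤ 2 * A.card := card ha
    have hB : q + 2 ≤ 2 * B.card := card hb
    obtain ⟨v, hv, hv0⟩ := Finset.exists_mem_ne (show 1 < (A ∩ B).card by omega) 0
    rw [Finset.mem_inter] at hv
    obtain ⟨δ, hδ, hvd⟩ := Finset.mem_image.1 hv.1
    obtain ⟨ε, hε, hve⟩ := Finset.mem_image.1 hv.2
    exact ⟨δ, ε, (mem_circ hF).1 hδ, (mem_circ hF).1 hε, by linear_combination hvd + hve + v * h2,
      Or.inl fun e => hv0 (by rw [e] at hvd; linear_combination -hvd + (a * δ) * h2)⟩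
  obtain ⟨δ, ε, hδ, hε, hsum⟩ := exists_two_traces hF ha hb (s := (0 : F)) (map_zero _)
  by_cases hfix : σ (a * δ) = a * δ ∧ σ (b * ε) = b * ε
  swap
  · exact ⟨δ, ε, hδ, hε, hsum, not_and_or.1 hfix⟩
  obtain ⟨h1, h1'⟩ := hfix
  have hww : a * δ + b * ε = 0 := (mul_eq_zero.1 (show (2 : F) * (a * δ + b * ε) = 0 by
    linear_combination hsum - h1 - h1')).resolve_left h2
  have hN : a * σ a = b * σ b := by
    rw [map_mul] at h1 h1'
    linear_combination -(a * σ a) * hδ + (b * σ b) * hε + (a * δ) * h1 - (b * ε) * h1' +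
      (a * δ - b * ε) * hww
  obtain ⟨z, hz, hz1⟩ := exists_gen hF
  have hzz : σ (z : F) ≠ z := fun e => by
    rw [e] at hz1
    have := Nat.le_of_dvd (by norm_num)
      (orderOf_dvd_of_pow_eq_one (Units.ext (by simpa [sq] using hz1) : z ^ 2 = 1))
    have := (UnitaryBasic.frob_exists hF).1
    omega
  refine ⟨δ * z, -(a * (δ * z)) / b, circ_mul hF hδ hz1, ?_, ?_, Or.inl fun e => hzz ?_⟩
  · have hsb : σ b ≠ 0 := fun e => hb (frob_eq_zero hF e)
    rw [map_div₀, map_neg, map_mul, map_mul]
    field_simp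
    linear_combination (δ * σ δ * (z * σ z)) * hN + (b * σ b * (z * σ z)) * hδ + (b * σ b) * hz1
  · rw [mul_div_cancel₀ _ hb, map_neg]; ring
  · rw [← mul_assoc a δ, map_mul, h1] at e
    exact mul_left_cancel₀ (mul_ne_zero ha (circ_ne_zero hF hδ)) e

include hF in
/-- The failure hypothesis is false in dimension four. -/
theorem fail_false_four (U : UW q 1 (stdD 4 F) K) (hq : 4 ≤ q) (hf : Fail K) {g : GL (Fin 4) F}
    (hg : g ∈ K) (hm : ¬ Mono (g : M4)) : False := by
  classical
  have hfull : ∀ A ∈ K, ¬ Mono ((A : GL (Fin 4) F) : M4) → ∀ x p, (A : M4) x p ≠ 0 :=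
    fun A hA hmA x p => full_four hF U hq hf hA hmA x p
  have hgG := U.le hg
  set y : V := ((g⁻¹ : GL (Fin 4) F) : M4).col 0 with hydef
  have hy0 : ∀ z, y z ≠ 0 := fun z => hfull _ (inv_mem hg) (not_mono_inv hF hm) z 0
  have hgy : (g : M4) *ᵥ y = Pi.single 0 1 := by
    rw [hydef, ← Matrix.mulVec_single_one, Matrix.mulVec_mulVec, Units.mul_inv, Matrix.one_mulVec]
  -- involutions sending the vector to a perpendicular one have monomial conjugates
  have hinvol : ∀ {i j k l : Fin 4}, i ≠ j → i ≠ k → i ≠ l → j ≠ k → j ≠ l → k ≠ l → ∀ δ ε : F,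
      δ * σ δ = 1 → ε * σ ε = 1 →
      y j * σ (y i) * δ + σ (y j * σ (y i) * δ) + (y l * σ (y k) * ε + σ (y l * σ (y k) * ε)) = 0 →
      ∃ u ∈ K, (u : M4) = monM (Equiv.swap i j * Equiv.swap k l)
        (fun z => if z = j then δ else if z = i then σ δ else if z = l then ε else σ ε) ∧
        Mono ((g * u * g⁻¹ : GL (Fin 4) F) : M4) := by
    intro i j k l hij hik hil hjk hjl hkl δ ε hδ hε hs
    have huniv : (Finset.univ : Finset (Fin 4)) = {i, j, k, l} :=
      (Finset.eq_univ_of_card _ (by simp [hij, hik, hil, hjk, hjl, hkl])).symm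
    obtain ⟨u, huK, -, hu⟩ := exists_monM_mem hF U (Equiv.swap i j * Equiv.swap k l)
      (fun z => if z = j then δ else if z = i then σ δ else if z = l then ε else σ ε)
      (fun z => by
        split_ifs
        exacts [hδ, circ_conj hF hδ, hε, circ_conj hF hε]) (by
        rw [map_mul, Equiv.Perm.sign_swap hij, Equiv.Perm.sign_swap hkl, huniv,
          Finset.prod_insert (by simp [hij, hik, hil]), Finset.prod_insert (by simp [hjk, hjl]),
          Finset.prod_pair hkl]
        simp [hij, hik, hil, hjk, hjk.symm, hjl, hjl.symm, hkl, hik.symm, hil.symm]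
        linear_combination (ε * σ ε) * hδ + hε)
    refine ⟨u, huK, hu, ?_⟩
    by_contra hmu
    refine hfull _ (mul_mem (mul_mem hg huK) (inv_mem hg)) hmu 0 0 ?_
    have h1 : h ((u : M4) *ᵥ y) y = 0 := by
      change ∑ z, ((u : M4) *ᵥ y) z * y z ^ q = 0
      simp only [← frob_apply hF, hu, monM_mulVec]
      rw [huniv, Finset.sum_insert (by simp [hij, hik, hil]), Finset.sum_insert (by simp [hjk, hjl]),
        Finset.sum_pair hkl]
      simp [Equiv.Perm.mul_def, Equiv.swap_apply_def, hij, hij.symm, hik, hik.symm, hil, hil.symm, hjk, hjk.symm, hjl,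
        hjl.symm, hkl, hkl.symm]
      simp only [map_mul, frob_frob] at hs
      linear_combination hs
    rw [← Matrix.col_apply ((g * u * g⁻¹ : GL (Fin 4) F) : M4) 0 0, ← Matrix.mulVec_single_one, Units.val_mul,
      Units.val_mul, ← Matrix.mulVec_mulVec, ← Matrix.mulVec_mulVec, Matrix.mulVec_single_one, ← hydef,
      ← h_single_right hF ((g : M4) *ᵥ ((u : M4) *ᵥ y)) 0, ← hgy, G_isometry hgG, h1]
  have main : ∀ {i j k l : Fin 4}, i ≠ j → i ≠ k → i ≠ l → j ≠ k → j ≠ l → k ≠ l → ∀ δ ε : F,
      δ * σ δ = 1 → ε * σ ε = 1 →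
      y j * σ (y i) * δ + σ (y j * σ (y i) * δ) + (y l * σ (y k) * ε + σ (y l * σ (y k) * ε)) = 0 →
      σ (y j * σ (y i) * δ) ≠ y j * σ (y i) * δ → False := by
    intro i j k l hij hik hil hjk hjl hkl δ ε hδ hε hs hmove
    obtain ⟨a, ha⟩ : ∃ a, a = y j * σ (y i) := ⟨_, rfl⟩
    rw [← ha] at hs hmove
    have ha0 : a ≠ 0 := ha ▸ mul_ne_zero (hy0 j) fun e => hy0 i (frob_eq_zero hF e)
    have hsa : σ a ≠ 0 := fun e => ha0 (frob_eq_zero hF e)
    obtain ⟨δ', hδ'⟩ : ∃ δ', δ' = σ (a * δ) / a := ⟨_, rfl⟩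
    have had : a * δ' = σ (a * δ) := by rw [hδ', mul_div_cancel₀ _ ha0]
    have hδ'1 : δ' * σ δ' = 1 := by
      rw [hδ', map_div₀, frob_frob hF, map_mul]
      field_simp
      linear_combination hδ
    obtain ⟨u, huK, hu, huM⟩ := hinvol hij hik hil hjk hjl hkl δ ε hδ hε (by rw [← ha]; exact hs)
    obtain ⟨u', hu'K, hu', hu'M⟩ := hinvol hij hik hil hjk hjl hkl δ' ε hδ'1 hε (by
      rw [← ha, had, frob_frob hF]; linear_combination hs)
    refine tor_kill hF U hq hfull hg hm (i := j) (j := i) hij.symm (r := σ δ * δ') (fun e => hmove ?_)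
      (mul_ne_zero (fun e => circ_ne_zero hF hδ (frob_eq_zero hF e)) (circ_ne_zero hF hδ'1)) ?_
    · rw [← had, show δ' = δ by linear_combination δ * e - δ' * hδ]
    have hM := huM.mul hu'M
    rw [← Units.val_mul, show g * u * g⁻¹ * (g * u' * g⁻¹) = g * (u * u') * g⁻¹ by group, Units.val_mul,
      Units.val_mul, Units.val_mul, hu, hu', monM_mul] at hM
    have hπ : Equiv.swap i j * Equiv.swap k l * (Equiv.swap i j * Equiv.swap k l) = 1 := by
      have hd' : Commute (Equiv.swap i j) (Equiv.swap k l) :=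
        (Equiv.Perm.disjoint_swap_swap (by simp [hij, hik, hil, hjk, hjl, hkl])).commute
      rw [mul_assoc, ← mul_assoc (Equiv.swap k l), ← hd'.eq, mul_assoc (Equiv.swap i j), Equiv.swap_mul_self,
        mul_one, Equiv.swap_mul_self]
    rw [hπ, monM_one] at hM
    have huniv : ∀ z, z = i ∨ z = j ∨ z = k ∨ z = l := fun z => by
      have : z ∈ ({i, j, k, l} : Finset (Fin 4)) := by
        rw [Finset.eq_univ_of_card _ (by simp [hij, hik, hil, hjk, hjl, hkl] : ({i, j, k, l} : Finset (Fin 4)).card = _)]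
        exact Finset.mem_univ z
      simpa using this
    refine (congrArg (fun v : V => Mono ((g : M4) * Matrix.diagonal v * ((g⁻¹ : GL (Fin 4) F) : M4))) ?_).mp hM
    funext z
    rcases huniv z with rfl | rfl | rfl | rfl <;>
      simp [tor, Equiv.swap_apply_def, hij, hij.symm, hik, hik.symm, hil, hil.symm, hjk, hjk.symm, hjl,
        hjl.symm, hkl, hkl.symm, hε, mul_comm (σ ε)]
    rw [← mul_inv]
    exact eq_inv_of_mul_eq_one_left (by linear_combination (δ' * σ δ') * hδ + hδ'1)
  obtain ⟨δ, ε, hδ, hε, hsum, hmove⟩ := exists_moving_traces hF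
    (a := y 1 * σ (y 0)) (b := y 3 * σ (y 2)) (mul_ne_zero (hy0 1) fun e => hy0 0 (frob_eq_zero hF e))
    (mul_ne_zero (hy0 3) fun e => hy0 2 (frob_eq_zero hF e))
  rcases hmove with hmv | hmv
  · exact main (i := 0) (j := 1) (k := 2) (l := 3) (by decide) (by decide) (by decide) (by decide) (by decide)
      (by decide) δ ε hδ hε hsum hmv
  · exact main (i := 2) (j := 3) (k := 0) (l := 1) (by decide) (by decide) (by decide) (by decide) (by decide)
      (by decide) ε δ hε hδ (by linear_combination hsum) hmv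

end CfsgLib.MaxSub.WreathUnitary
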