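/-
Stabilisers of decompositions into four lines are maximal in `SU_4(q)` for `q ≠ 3`.
-/
import Cfsg.Agent.Lib.MaxSub.WreathUnitary.Main
import Cfsg.Agent.Lib.MaxSub.WreathUnitary.FourFail

set_option autoImplicit false
set_option maxHeartbeats 400000
set_option linter.unusedSectionVars false

namespace CfsgLib.MaxSub.WreathUnitary

open Matrix Module Cfsg Cfsg.Geo CfsgLib.UnitaryTransvection
open CfsgLib.MaxSub (Ctr sg sg_mem G_isometry)
open CfsgLib.MaxSub.Monomial (Mono monM monM_mulVec)

variable {F : Type*} [Field F] [Fintype F] {q : ℕ} (hF : Fintype.card F = q ^ 2)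

local notation "h" => Cfsg.hermForm 4 F q
local notation "σ" => frob hF
local notation "V" => Fin 4 → F
local notation "M4" => Matrix (Fin 4) (Fin 4) F
local notation "G" => Cfsg.GU 4 F q ⊓ specialLinear (Fin 4) F

variable {K : Subgroup (GL (Fin 4) F)}

include hF in
/-- Isotropic non-zero vectors have two or four coordinates. -/
theorem card_vs_four (hq : q = 2) {v : V} (hvv : h v v = 0) (hv : v ≠ 0) :
    (vs v).card = 2 ∨ (vs v).card = 4 := by
  obtain ⟨m, hm⟩ := even_vs hF hq hvv
  have h1 : (vs v).card ≤ 4 := (Finset.card_le_univ _).trans_eq (Fintype.card_fin 4)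
  have h2 : (vs v).card ≠ 0 := fun e => hv (funext fun z => by
    by_contra hz
    have := mem_vs.2 hz
    rw [Finset.card_eq_zero.1 e] at this
    simp at this)
  omega

include hF in
/-- A non-monomial element spreads some vector with two coordinates over all four. -/
theorem exists_ctr_full (U : UW q 1 (stdD 4 F) K) (hq : q = 2) {g : GL (Fin 4) F} (hg : g ∈ K)
    (hm : ¬ Mono (g : M4)) : ∃ w, Ctr hF K w ∧ (vs w).card = 4 := by
  classical
  have hgG := U.le hg
  have hgi : ∀ y : V, ((g⁻¹ : GL (Fin 4) F) : M4) *ᵥ ((g : M4) *ᵥ y) = y := fun y => by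
    rw [Matrix.mulVec_mulVec, Units.inv_mul, Matrix.one_mulVec]
  by_contra hno
  push Not at hno
  have hcol : ∀ i, (vs ((g : M4).col i)).card = 1 ∨ (vs ((g : M4).col i)).card = 3 := fun i => by
    obtain ⟨m, hm⟩ := odd_vs hF hq (v := (g : M4).col i) (by rw [col_h hF hgG, if_pos rfl])
    have h1 : (vs ((g : M4).col i)).card ≤ 4 := (Finset.card_le_univ _).trans_eq (Fintype.card_fin 4)
    omega
  -- two columns combine to two coordinates
  have htwo : ∀ i j, i ≠ j → ∀ l : F, l ≠ 0 → (vs ((g : M4).col i + l • (g : M4).col j)).card = 2 := by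
    intro i j hij l hl
    set v : V := Pi.single i 1 + l • Pi.single j 1 with hv
    have hS : vs v = {i, j} := by
      ext z
      simp only [mem_vs, hv, Pi.add_apply, Pi.smul_apply, smul_eq_mul, Pi.single_apply, Finset.mem_insert,
        Finset.mem_singleton]
      by_cases hzi : z = i
      · simp [hzi, hij]
      by_cases hzj : z = j
      · simp [hzj, Ne.symm hij, hl]
      · simp [hzi, hzj]
    have hc : (vs v).card = 2 := by rw [hS, Finset.card_pair hij]
    have hiso := iso_of_even hF hq (v := v) (by rw [hc]; norm_num)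
    have heq : (g : M4) *ᵥ v = (g : M4).col i + l • (g : M4).col j := by
      rw [hv, Matrix.mulVec_add, Matrix.mulVec_smul, Matrix.mulVec_single_one, Matrix.mulVec_single_one]
    rw [← heq]
    refine (card_vs_four hF hq (by rw [G_isometry hgG]; exact hiso) fun e => ?_).resolve_right
      (hno _ ((ctr_two' hF U hq hc).conj hg hgG))
    have := hgi v
    rw [e, Matrix.mulVec_zero] at this
    rw [← this] at hc
    simp [vs] at hc
  -- hence all columns live on the same three coordinates
  obtain ⟨i, hi⟩ : ∃ i, (vs ((g : M4).col i)).card = 3 := by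
    by_contra hc
    push Not at hc
    refine hm fun i => ?_
    obtain ⟨z, hz⟩ := Finset.card_eq_one.1 ((hcol i).resolve_right (hc i))
    exact ⟨z, fun z' hz' => by
      by_contra e
      have := (mem_vs (v := (g : M4).col i)).2 e
      rw [hz, Finset.mem_singleton] at this
      exact hz' this⟩
  have hsub : ∀ j, vs ((g : M4).col j) ⊆ vs ((g : M4).col i) := by
    intro j
    rcases eq_or_ne i j with rfl | hij
    · exact subset_rfl
    intro z hz
    by_contra hzi
    set A := vs ((g : M4).col i) with hA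
    set B := vs ((g : M4).col j) with hB
    obtain ⟨w, hwA⟩ : ∃ w, w ∈ A := Finset.card_pos.1 (by omega)
    have hx0 : ∀ k ∈ A, (g : M4).col i k ≠ 0 := fun k hk => mem_vs.1 hk
    have hy0 : ∀ k ∈ B, (g : M4).col j k ≠ 0 := fun k hk => mem_vs.1 hk
    have hAz : insert z A = Finset.univ := Finset.eq_univ_of_card _ (by
      rw [Finset.card_insert_of_notMem hzi, hi, Fintype.card_fin])
    -- a scalar cancelling at most one coordinate
    obtain ⟨l, hl0, hl⟩ : ∃ l : F, l ≠ 0 ∧ ∀ k ∈ A, ∀ k' ∈ A, k ≠ k' →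
        ((g : M4).col i + l • (g : M4).col j) k ≠ 0 ∨ ((g : M4).col i + l • (g : M4).col j) k' ≠ 0 := by
      by_cases hall : ∀ k ∈ A, (g : M4).col j k = 0
      · exact ⟨1, one_ne_zero, fun k hk k' _ _ => Or.inl (by
          rw [Pi.add_apply, Pi.smul_apply, hall k hk, smul_zero, add_zero]
          exact hx0 k hk)⟩
      push Not at hall
      obtain ⟨k₀, hk₀, hk₀'⟩ := hall
      obtain ⟨l, hl, hl'⟩ : ∃ l ∈ (Finset.univ : Finset F).erase 0, l ≠ -((g : M4).col i k₀) / (g : M4).col j k₀ := by
        refine Finset.exists_mem_ne ?_ _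
        rw [Finset.card_erase_of_mem (Finset.mem_univ _), Finset.card_univ, hF, hq]; norm_num
      refine ⟨l, Finset.ne_of_mem_erase hl, fun k hk k' hk' hkk => ?_⟩
      by_contra hc
      push Not at hc
      -- both would vanish with `k₀` surviving
      have hk₀A : k₀ ≠ k ∧ k₀ ≠ k' := by
        constructor <;> intro e <;> subst e
        all_goals
          refine hl' ?_
          rw [eq_div_iff hk₀']
          first
            | (have a1 := hc.1; rw [Pi.add_apply, Pi.smul_apply, smul_eq_mul] at a1; linear_combination a1)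
            | (have a1 := hc.2; rw [Pi.add_apply, Pi.smul_apply, smul_eq_mul] at a1; linear_combination a1)
      have h1 : vs ((g : M4).col i + l • (g : M4).col j) ⊆ Finset.univ \ {k, k'} := fun x hx => by
        refine Finset.mem_sdiff.2 ⟨Finset.mem_univ _, ?_⟩
        simp only [Finset.mem_insert, Finset.mem_singleton, not_or]
        exact ⟨fun e => mem_vs.1 hx (e ▸ hc.1), fun e => mem_vs.1 hx (e ▸ hc.2)⟩
      have hjk : ∀ x ∈ A, x = k ∨ x = k' → (g : M4).col j x ≠ 0 := by
        intro x hxA hx e
        rcases hx with rfl | rfl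
        · have a1 := hc.1
          rw [Pi.add_apply, Pi.smul_apply, e, smul_zero, add_zero] at a1
          exact hx0 _ hxA a1
        · have a1 := hc.2
          rw [Pi.add_apply, Pi.smul_apply, e, smul_zero, add_zero] at a1
          exact hx0 _ hxA a1
      have h3 : ({z, k₀, k, k'} : Finset (Fin 4)) ⊆ B := by
        intro x hx
        simp only [Finset.mem_insert, Finset.mem_singleton] at hx
        rcases hx with rfl | rfl | rfl | rfl
        exacts [hz, mem_vs.2 hk₀', mem_vs.2 (hjk _ hk (Or.inl rfl)), mem_vs.2 (hjk _ hk' (Or.inr rfl))]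
      have h4 := Finset.card_le_card h3
      have hzA : ∀ x ∈ A, z ≠ x := fun x hx e => hzi (e ▸ hx)
      rw [Finset.card_insert_of_notMem (by simp [hzA k₀ hk₀, hzA k hk, hzA k' hk']),
        Finset.card_insert_of_notMem (by simp [hk₀A.1, hk₀A.2]), Finset.card_pair hkk] at h4
      rcases hcol j with e | e <;> rw [← hB] at e <;> omega
    have h2 := htwo i j hij l hl0
    -- at least three coordinates survive
    obtain ⟨k, hk, k', hk', hkk, hkv, hkv'⟩ : ∃ k ∈ A, ∃ k' ∈ A, k ≠ k' ∧
        ((g : M4).col i + l • (g : M4).col j) k ≠ 0 ∧ ((g : M4).col i + l • (g : M4).col j) k' ≠ 0 := by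
      obtain ⟨a, b, c, hab, hac, hbc, habc⟩ := Finset.card_eq_three.1 hi
      have ha : a ∈ A := by rw [habc]; simp
      have hb : b ∈ A := by rw [habc]; simp
      have hc : c ∈ A := by rw [habc]; simp
      by_cases ea : ((g : M4).col i + l • (g : M4).col j) a = 0
      · exact ⟨b, hb, c, hc, hbc, (hl a ha b hb hab).resolve_left (not_not_intro ea),
          (hl a ha c hc hac).resolve_left (not_not_intro ea)⟩
      by_cases eb : ((g : M4).col i + l • (g : M4).col j) b = 0
      · exact ⟨a, ha, c, hc, hac, ea, (hl b hb c hc hbc).resolve_left (not_not_intro eb)⟩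
      exact ⟨a, ha, b, hb, hab, ea, eb⟩
    have hzv : ((g : M4).col i + l • (g : M4).col j) z ≠ 0 := by
      have e : (g : M4).col i z = 0 := not_not.1 fun e => hzi (mem_vs.2 e)
      rw [Pi.add_apply, Pi.smul_apply, e, zero_add, smul_eq_mul]
      exact mul_ne_zero hl0 (hy0 z hz)
    have h5 : ({z, k, k'} : Finset (Fin 4)) ⊆ vs ((g : M4).col i + l • (g : M4).col j) := by
      intro x hx
      simp only [Finset.mem_insert, Finset.mem_singleton] at hx
      rcases hx with rfl | rfl | rfl
      exacts [mem_vs.2 hzv, mem_vs.2 hkv, mem_vs.2 hkv']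
    have h6 := Finset.card_le_card h5
    rw [Finset.card_insert_of_notMem (by simp [show z ≠ k from fun e => hzi (e ▸ hk),
      show z ≠ k' from fun e => hzi (e ▸ hk')]), Finset.card_pair hkk] at h6
    omega
  obtain ⟨z, hz⟩ := Monomial.exists_fresh (vs ((g : M4).col i)) (by omega)
  exact ((Matrix.isUnit_iff_isUnit_det _).1 g.isUnit).ne_zero
    (Matrix.det_eq_zero_of_row_eq_zero z fun l => not_not.1 fun e => hz (hsub l (mem_vs.2 e)))

include hF in
/-- All centres over the field of four elements. -/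
theorem ctr_all_binary_four (U : UW q 1 (stdD 4 F) K) (hq : q = 2) {g : GL (Fin 4) F} (hg : g ∈ K)
    (hm : ¬ Mono (g : M4)) : ∀ v, h v v = 0 → Ctr hF K v := by
  classical
  intro v hvv
  by_cases hv0 : v = 0
  · rw [hv0]; exact ctr_zero hF U
  rcases card_vs_four hF hq hvv hv0 with h2 | h4
  · exact ctr_two' hF U hq h2
  obtain ⟨w, hw, hw4⟩ := exists_ctr_full hF U hq hg hm
  have hfull : ∀ {x : V}, (vs x).card = 4 → ∀ z, x z ≠ 0 := fun {x} hx z => mem_vs.1 (by
    rw [Finset.eq_univ_of_card _ (hx.trans (Fintype.card_fin 4).symm)]; exact Finset.mem_univ z)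
  have hv' := hfull h4
  have hw' := hfull hw4
  set P := ∏ z, v z / w z with hP
  have hP0 : P ≠ 0 := Finset.prod_ne_zero_iff.2 fun z _ => div_ne_zero (hv' z) (hw' z)
  have hP3 : P ^ 3 = 1 := by
    have := FiniteField.pow_card_sub_one_eq_one P hP0
    rwa [hF, hq] at this
  obtain ⟨u, huK, huG, hu⟩ := exists_diag_mem hF U (fun z => P⁻¹ * (v z / w z))
    (fun z => norm_eq_one hF hq (mul_ne_zero (inv_ne_zero hP0) (div_ne_zero (hv' z) (hw' z))))
    (by
      rw [Finset.prod_mul_distrib, Finset.prod_const, Finset.card_univ, Fintype.card_fin, ← hP, inv_pow]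
      field_simp
      linear_combination -hP3)
  refine Ctr.of_smul (hF := hF) (inv_ne_zero hP0) ?_
  have h1 := hw.conj huK huG
  rwa [hu, show Matrix.diagonal (fun z => P⁻¹ * (v z / w z)) *ᵥ w = P⁻¹ • v from funext fun z => by
    rw [Matrix.mulVec_diagonal, Pi.smul_apply, smul_eq_mul, mul_assoc, div_mul_cancel₀ _ (hw' z)]] at h1

include hF in
/-- Four coordinate lines. -/
theorem mono_case_four (U : UW q 1 (stdD 4 F) K) (hq3 : q ≠ 3) {g : GL (Fin 4) F} (hg : g ∈ K)
    (hm : ¬ Mono (g : M4)) : G ≤ K := by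
  refine SU_le_of_ctr (hF := hF) le_rfl ?_
  have := (UnitaryBasic.frob_exists hF).1
  rcases (show q = 2 ∨ 4 ≤ q by omega) with hq | hq
  · exact ctr_all_binary_four hF U hq hg hm
  by_cases hf : Fail K
  · exact (fail_false_four hF U hq hf hg hm).elim
  obtain ⟨a, b, hab, hP⟩ := pair_of_not_fail hF U hf
  exact ctr_all_lines hF U (by omega) (goodPair_all hF U hab hP)

/-- The stabiliser of four orthogonal non-degenerate lines is maximal in `SU_4(q)` for `q ≠ 3`. -/
theorem su4_frame_maximal (hF : Fintype.card F = q ^ 2) (hq3 : q ≠ 3)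
    {D : Fin 4 → Submodule F (Fin 4 → F)}
    (hD : IsNondegenerateMDecomposition (Cfsg.hermForm 4 F q) 1 D) :
    IsMaximalIn G (decompositionStabilizer D ⊓ G) := by
  classical
  refine ⟨lt_of_le_not_ge inf_le_right fun hle => ?_, fun M hMH hMG => ?_⟩
  · exact CfsgLib.Aschbacher.not_SU_le_decompositionStabilizer hF (by norm_num) (Or.inl le_rfl)
      hD.decomp (hle.trans inf_le_left)
  by_cases hsub : ∀ g ∈ M, g ∈ decompositionStabilizer D
  · exact Or.inl (le_antisymm (fun g hg => ⟨hsub g hg, hMG hg⟩) hMH)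
  push Not at hsub
  obtain ⟨g, hg, hgD⟩ := hsub
  exact Or.inr (le_antisymm hMG (line_reduce hF ⟨le_rfl, Or.inl rfl, hD, hMH, hMG⟩
    (fun _ U' _ hg' hm' => mono_case_four hF U' hq3 hg' hm') hg hgD))

end CfsgLib.MaxSub.WreathUnitary
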